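import Groth.Agent.Symb83.Additive
import Groth.Agent.KZ.Basic

/-! The map from `K₀(Coh_{≤k+1}/Coh_{≤k-1})` to `k`-cycle functions modulo rational equivalence. -/

set_option autoImplicit false
set_option linter.style.haveILetI false
set_option linter.unusedSectionVars false

universe u

open CategoryTheory AlgebraicGeometry

namespace Groth.Agent.Symb83

variable {X : Scheme.{u}} {δ : X → ℤ} {k : ℤ}

theorem cohLe_mono {a b : ℤ} (hab : a ≤ b) {F : X.Modules} (h : Cyc.CohLe δ a F) : Cyc.CohLe δ b F :=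
  ⟨h.1, fun x hx => (h.2 x hx).trans hab⟩

theorem nu_eq_sheafFun [IsLocallyNoetherian X] {M : X.Modules} (hM : Cyc.CohLe δ k M) : nu δ k M = Cyc.sheafFun δ k M := by
  classical
  funext x
  by_cases hx : δ x = k
  · have hsub : ∀ i : Gens δ k x, Subsingleton (M.presheaf.stalk i.1) := fun i =>
      not_nontrivial_iff_subsingleton.1 fun h => by have := hM.2 i.1 h; rw [i.2.2] at this; omega
    rw [nu, if_pos hx, finsum_eq_zero_of_forall_eq_zero fun i => idxL_eq_zero i.2.1 _ _ (flagLen_eq_zero (hsub i)),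
      zero_add, Cyc.sheafFun, if_pos hx]
    letI := gensMod δ k M x
    exact chi_of_subsingleton _
  · rw [nu, if_neg hx, Cyc.sheafFun, if_neg hx]

theorem sheafFun_eq_zero {M : X.Modules} (hM : Cyc.CohLe δ (k - 1) M) : Cyc.sheafFun δ k M = 0 := by
  funext x
  simp only [Cyc.sheafFun, Pi.zero_apply]
  split_ifs with hx
  · haveI : Subsingleton (M.presheaf.stalk x) :=
      not_nontrivial_iff_subsingleton.1 fun h => by have := hM.2 x h; omega
    rw [Module.length_eq_zero]
    rfl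
  · rfl

/-- The functions which are sums of principal divisors. -/
noncomputable def ratSubgroup [IsLocallyNoetherian X] (hd : Cyc.IsDimFun X δ) (k : ℤ) : AddSubgroup (X → ℤ) where
  carrier := {G | H23.RatOn.ZeroOn δ k Set.univ G}
  zero_mem' := H23.RatOn.zero Set.univ
  add_mem' := fun {a b} ha hb => H23.RatOn.congr (H23.RatOn.add hd ha hb 1 1) fun x => by simp
  neg_mem' := fun {a} ha => H23.RatOn.congr (H23.RatOn.add hd ha (H23.RatOn.zero Set.univ) (-1) 1) fun x => by simp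

theorem mk_eq_mk_iff [IsLocallyNoetherian X] (hd : Cyc.IsDimFun X δ) {a b : X → ℤ} :
    (QuotientAddGroup.mk a : (X → ℤ) ⧸ ratSubgroup hd k) = QuotientAddGroup.mk b ↔
      H23.RatOn.ZeroOn δ k Set.univ fun x => a x - b x := by
  rw [QuotientAddGroup.eq_iff_sub_mem]
  rfl

/-- The class map. -/
theorem exists_psi [IsLocallyNoetherian X] (hd : Cyc.IsDimFun X δ) (k : ℤ) :
    ∃ Ψ : Cyc.K0CohQuot δ (k + 1) (k - 1) →+ (X → ℤ) ⧸ ratSubgroup hd k,
      ∀ F, Cyc.CohLe δ k F →
        Ψ (Cyc.toK0CohQuot δ (k + 1) (k - 1) F) = QuotientAddGroup.mk (Cyc.sheafFun δ k F) := by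
  obtain ⟨φ, hφ⟩ := KZ.exists_liftSub (Cyc.CohLe δ (k + 1))
    (fun M : X.Modules => (QuotientAddGroup.mk (nu δ k M) : (X → ℤ) ⧸ ratSubgroup hd k)) fun S hS h₁ h₂ h₃ => by
      rw [← QuotientAddGroup.mk_add, mk_eq_mk_iff hd]
      exact H23.RatOn.congr (zeroOn_nu hd hS h₁ h₂ h₃) fun x => by simp only [Pi.add_apply]; ring
  refine ⟨QuotientAddGroup.lift _ φ ?_, fun F hF => ?_⟩
  · rw [AddSubgroup.closure_le]
    rintro _ ⟨F, hF, rfl⟩
    rw [SetLike.mem_coe, AddMonoidHom.mem_ker, hφ F (cohLe_mono (by omega) hF),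
      nu_eq_sheafFun (cohLe_mono (by omega) hF), sheafFun_eq_zero hF]
    exact QuotientAddGroup.mk_zero _
  · rw [Cyc.toK0CohQuot, QuotientAddGroup.lift_mk, hφ F (cohLe_mono (by omega) hF), nu_eq_sheafFun hF]

end Groth.Agent.Symb83
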