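import Groth.Agent.Symb83.CycleK
import Groth.Agent.Symb83.Psi
import Groth.Agent.KZ.OpenExt

/-! `K₀(Coh_{≤k}/Coh_{≤k-1})` and the group of `k`-cycles. -/

set_option autoImplicit false
set_option linter.style.haveILetI false
set_option linter.unusedSectionVars false

universe u

open CategoryTheory CategoryTheory.Limits AlgebraicGeometry TopologicalSpace

namespace Groth.Agent.Symb83

set_option maxHeartbeats 400000

variable {X : Scheme.{u}} [IsLocallyNoetherian X] {δ : X → ℤ} {a k : ℤ}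

/-- The standard sequence of a sum of two modules. -/
noncomputable abbrev sumSeq (F G : X.Modules) : ShortComplex X.Modules :=
  ShortComplex.mk (biprod.inl : F ⟶ F ⊞ G) biprod.snd biprod.inl_snd

theorem sumSeq_shortExact (F G : X.Modules) : (sumSeq F G).ShortExact :=
  (ShortComplex.Splitting.ofHasBinaryBiproduct F G).shortExact

theorem cohLe_biprod {F G : X.Modules} (hF : Cyc.CohLe δ a F) (hG : Cyc.CohLe δ a G) : Cyc.CohLe δ a (F ⊞ G) := by
  have hc := KZ.isCoh_biprod hF.1 hG.1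
  refine ⟨hc, fun x hx => ?_⟩
  obtain ⟨-, he, -⟩ := CycLib.stalk_shortExact (sumSeq_shortExact F G) hF.1.1 hc.1 hG.1.1 x
  by_contra hn
  haveI : Subsingleton (F.presheaf.stalk x) := not_nontrivial_iff_subsingleton.1 fun h => hn (hF.2 x h)
  haveI : Subsingleton (G.presheaf.stalk x) := not_nontrivial_iff_subsingleton.1 fun h => hn (hG.2 x h)
  refine not_subsingleton_iff_nontrivial.2 hx (subsingleton_of_forall_eq 0 fun m => ?_)
  obtain ⟨t, rfl⟩ := (he m).1 (Subsingleton.elim _ _)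
  rw [Subsingleton.elim t 0]
  exact map_zero _

theorem mk_biprod {b : ℤ} {F G : X.Modules} (hF : Cyc.CohLe δ a F) (hG : Cyc.CohLe δ a G) :
    Cyc.toK0CohQuot δ a b (F ⊞ G) = Cyc.toK0CohQuot δ a b F + Cyc.toK0CohQuot δ a b G := by
  show (QuotientAddGroup.mk _ : Cyc.K0CohQuot δ a b) = _
  rw [show KZero.clSub (Cyc.CohLe δ a) (F ⊞ G) = _ from
    KZ.clSub_ses _ (sumSeq_shortExact F G) hF (cohLe_biprod hF hG) hG, QuotientAddGroup.mk_add]
  rfl

theorem cohLe_zero : Cyc.CohLe δ a (∐ fun i : PEmpty.{u + 1} => (i.elim : X.Modules)) :=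
  have hl : LocFinSupp fun i : PEmpty.{u + 1} => (i.elim : X.Modules) := fun x =>
    ⟨Set.univ, isOpen_univ, trivial, Set.toFinite _⟩
  ⟨isCoh_sigma (fun i => i.elim) (fun i => i.elim) hl, fun x hx => (support_sigma (fun i => i.elim) hl hx).choose.elim⟩

variable (hd : Cyc.IsDimFun X δ)
include hd

omit hd in
theorem clSub_biprod {F G : X.Modules} (hF : Cyc.CohLe δ a F) (hG : Cyc.CohLe δ a G) :
    KZero.clSub (Cyc.CohLe δ a) (F ⊞ G) = KZero.clSub (Cyc.CohLe δ a) F + KZero.clSub (Cyc.CohLe δ a) G :=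
  KZ.clSub_ses _ (sumSeq_shortExact F G) hF (cohLe_biprod hF hG) hG

omit hd in
theorem exists_rep_K0sub (y : KZero.K0sub (Cyc.CohLe δ a)) :
    ∃ F G : X.Modules, Cyc.CohLe δ a F ∧ Cyc.CohLe δ a G ∧
      y = KZero.clSub (Cyc.CohLe δ a) F - KZero.clSub (Cyc.CohLe δ a) G := by
  obtain ⟨z, rfl⟩ := QuotientAddGroup.mk'_surjective (KZero.relSub (Cyc.CohLe δ a)) y
  induction z using FreeAbelianGroup.induction_on with
  | zero => exact ⟨_, _, cohLe_zero, cohLe_zero, by rw [map_zero, sub_self]⟩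
  | of F =>
    refine ⟨F.1 ⊞ F.1, F.1, cohLe_biprod F.2 F.2, F.2, ?_⟩
    rw [clSub_biprod F.2 F.2, add_sub_cancel_right, KZ.clSub_of_prop _ F.2]
    exact QuotientAddGroup.mk'_apply _ _
  | neg F h =>
    obtain ⟨A, B, hA, hB, e⟩ := h
    exact ⟨B, A, hB, hA, by rw [map_neg, e, neg_sub]⟩
  | add z z' h h' =>
    obtain ⟨A, B, hA, hB, e⟩ := h
    obtain ⟨A', B', hA', hB', e'⟩ := h'
    refine ⟨A ⊞ A', B ⊞ B', cohLe_biprod hA hA', cohLe_biprod hB hB', ?_⟩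
    rw [map_add, e, e', clSub_biprod hA hA', clSub_biprod hB hB']
    abel

omit hd in
/-- Every class is a difference of classes of modules. -/
theorem exists_rep_sub {b : ℤ} (x : Cyc.K0CohQuot δ a b) :
    ∃ F G : X.Modules, Cyc.CohLe δ a F ∧ Cyc.CohLe δ a G ∧
      x = Cyc.toK0CohQuot δ a b F - Cyc.toK0CohQuot δ a b G := by
  obtain ⟨y, hy⟩ := QuotientAddGroup.mk_surjective x
  obtain ⟨F, G, hF, hG, e⟩ := exists_rep_K0sub y
  refine ⟨F, G, hF, hG, ?_⟩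
  rw [← hy, e]
  exact QuotientAddGroup.mk_sub _ _ _

/-- The cycle of a class. -/
theorem exists_psiK (k : ℤ) :
    ∃ ψ : Cyc.K0CohQuot δ k (k - 1) →+ (X → ℤ),
      (∀ F, Cyc.CohLe δ k F → ψ (Cyc.toK0CohQuot δ k (k - 1) F) = Cyc.sheafFun δ k F) ∧ Function.Injective ψ := by
  obtain ⟨φ, hφ⟩ := KZ.exists_liftSub (Cyc.CohLe δ k) (fun M : X.Modules => Cyc.sheafFun δ k M)
    fun S hS h₁ h₂ h₃ => CycLib.sheafFun_shortExact hd hS h₁.1 h₂.1 h₃.1 h₂.2
  let ψ : Cyc.K0CohQuot δ k (k - 1) →+ (X → ℤ) := QuotientAddGroup.lift _ φ (by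
    rw [AddSubgroup.closure_le]
    rintro _ ⟨F, hF, rfl⟩
    rw [SetLike.mem_coe, AddMonoidHom.mem_ker, hφ F (cohLe_mono (by omega) hF), sheafFun_eq_zero hF])
  have hψ : ∀ F, Cyc.CohLe δ k F → ψ (Cyc.toK0CohQuot δ k (k - 1) F) = Cyc.sheafFun δ k F := fun F hF =>
    (QuotientAddGroup.lift_mk _ _ _).trans (hφ F hF)
  refine ⟨ψ, hψ, (injective_iff_map_eq_zero _).2 fun x hx => ?_⟩
  obtain ⟨F, G, hF, hG, rfl⟩ := exists_rep_sub x
  rw [map_sub, hψ F hF, hψ G hG, sub_eq_zero] at hx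
  rw [mk_eq_cycle hd hF, mk_eq_cycle hd hG, hx, sub_self]

theorem cycle_of_sheafFun {F : X.Modules} (hF : Cyc.CohLe δ k F) :
    ∃ α : AlgebraicCycle X ℤ, α ∈ Cyc.Zk X δ k ∧ ⇑α = Cyc.sheafFun δ k F := by
  refine ⟨⟨Cyc.sheafFun δ k F, Set.subset_univ _, fun z _ => ?_⟩, fun x hx => if_neg hx, rfl⟩
  obtain ⟨V, hVo, hzV, hVf⟩ := locallyFinite_gens hd (k := k - 1) (M := F) (by rwa [sub_add_cancel]) z
  refine ⟨V, hVo.mem_nhds hzV, hVf.subset ?_⟩
  rintro x ⟨hxV, hne⟩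
  have hx : δ x = k := by
    by_contra h
    exact hne (if_neg h)
  refine ⟨hxV, by rw [sub_add_cancel]; exact hx, ?_⟩
  by_contra hn
  haveI := not_nontrivial_iff_subsingleton.1 hn
  refine hne ?_
  show Cyc.sheafFun δ k F x = 0
  rw [Cyc.sheafFun, if_pos hx, Module.length_eq_zero]
  rfl

theorem cycle_sub_pos_neg {α : AlgebraicCycle X ℤ} (hα : α ∈ Cyc.Zk X δ k) :
    Cyc.CohLe δ k (Cyc.cycleSheafPos ⇑α) ∧ Cyc.CohLe δ k (Cyc.cycleSheafNeg ⇑α) ∧
      Cyc.sheafFun δ k (Cyc.cycleSheafPos ⇑α) - Cyc.sheafFun δ k (Cyc.cycleSheafNeg ⇑α) = ⇑α := by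
  obtain ⟨h1, h2⟩ := cycleSheafPos_spec hd hα (finite_support_nhds α)
  obtain ⟨h3, h4⟩ := cycleSheafNeg_spec hd hα (finite_support_nhds α)
  refine ⟨h1, h3, funext fun x => ?_⟩
  rw [Pi.sub_apply, h2, h4]
  omega

end Groth.Agent.Symb83
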