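import Groth.Agent.Symb83.PrinDiv
import Groth.Agent.Symb83.CycleIso

/-! Sums of principal divisors in `K₀`. -/

set_option autoImplicit false
set_option linter.style.haveILetI false
set_option linter.unusedSectionVars false
set_option linter.unusedVariables false

universe u

open CategoryTheory CategoryTheory.Limits AlgebraicGeometry TopologicalSpace

namespace Groth.Agent.Symb83

variable {X : Scheme.{u}} [IsLocallyNoetherian X] {δ : X → ℤ} {k : ℤ}

theorem sumMap_injective {ι : Type u} {F F' : ι → X.Modules} (hF : ∀ i, Coh.IsQCoh (F i)) (hl : LocFinSupp F)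
    (f : ∀ i, F i ⟶ F' i) (x : X) (h : ∀ i, Function.Injective (CycLib.stalkLin (f i) x)) :
    Function.Injective (CycLib.stalkLin (sumMap f) x) := fun a b hab => stalk_ext hF hl x fun i => h i (by
  rw [← stalkLin_comp, ← stalkLin_comp, ← sumMap_proj, stalkLin_comp, stalkLin_comp, hab])

/-- The cokernel of a locally finite sum of monomorphisms, computed on classes. -/
theorem sum_cokernel (hd : Cyc.IsDimFun X δ) {ι : Type u} (N O : ι → X.Modules) (φ : ∀ i, N i ⟶ O i) (hN : ∀ i, Cyc.CohLe δ (k + 1) (N i))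
    (hO : ∀ i, Cyc.CohLe δ (k + 1) (O i)) (hlN : LocFinSupp N) (hlO : LocFinSupp O)
    (hinj : ∀ i y, Function.Injective (CycLib.stalkLin (φ i) y)) (hC : ∀ i, Cyc.CohLe δ k (cokernel (φ i))) :
    Cyc.CohLe δ k (cokernel (sumMap φ)) ∧
    Cyc.toK0CohQuot δ (k + 1) (k - 1) (∐ O) = Cyc.toK0CohQuot δ (k + 1) (k - 1) (∐ N) +
      Cyc.toK0CohQuot δ (k + 1) (k - 1) (cokernel (sumMap φ)) ∧
    ∀ x, (Function.support fun i => Cyc.sheafFun δ k (cokernel (φ i)) x).Finite ∧
      Cyc.sheafFun δ k (cokernel (sumMap φ)) x = ∑ᶠ i, Cyc.sheafFun δ k (cokernel (φ i)) x := by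
  classical
  have hmono : ∀ i, Mono (φ i) := fun i => mono_of_stalk_injective _ (hinj i)
  have hqC : ∀ i, Coh.IsQCoh (cokernel (φ i)) := fun i => (hC i).1.1
  have hex : ∀ i y, Function.Exact (CycLib.stalkLin (φ i) y) (CycLib.stalkLin (cokernel.π (φ i)) y) ∧
      Function.Surjective (CycLib.stalkLin (cokernel.π (φ i)) y) := fun i y => by
    haveI := hmono i
    exact (CycLib.stalk_shortExact (KZ.shortExact_of_mono (φ i)) (hN i).1.1 (hO i).1.1 (hqC i) y).2
  have hlC : LocFinSupp fun i => cokernel (φ i) := fun x => by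
    obtain ⟨W, hWo, hxW, hWf⟩ := hlO x
    refine ⟨W, hWo, hxW, hWf.subset ?_⟩
    rintro i ⟨y, hyW, hy⟩
    haveI := hy
    exact ⟨y, hyW, (hex i y).2.nontrivial⟩
  have hNc := cohLe_sigma hN hlN
  have hOc := cohLe_sigma hO hlO
  have hCc := cohLe_sigma hC hlC
  haveI : Mono (sumMap φ) := mono_of_stalk_injective _ fun x =>
    sumMap_injective (fun i => (hN i).1.1) hlN φ x fun i => hinj i x
  have hD := cohLe_cokernel (sumMap φ) hNc.1.1 hOc
  have hlen : ∀ x, Module.length (X.presheaf.stalk x) ((cokernel (sumMap φ)).presheaf.stalk x) =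
      Module.length (X.presheaf.stalk x) ((∐ fun i => cokernel (φ i)).presheaf.stalk x) := fun x => by
    obtain ⟨-, he, hs⟩ := sumMap_shortExact (fun i => (hN i).1.1) hlN (fun i => (hO i).1.1) hlO x hqC hlC φ
      (fun i => cokernel.π (φ i)) (fun i => hinj i x) (fun i => (hex i x).1) fun i => (hex i x).2
    rw [length_stalk_cokernel _ hNc.1.1 hOc.1.1]
    exact LinearEquiv.length_eq ((Submodule.quotEquivOfEq _ _ (LinearMap.exact_iff.1 he).symm).trans
      (LinearMap.quotKerEquivOfSurjective _ hs))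
  have hDk : Cyc.CohLe δ k (cokernel (sumMap φ)) := ⟨hD.1, fun x hx => hCc.2 x (by
    by_contra hn
    haveI := not_nontrivial_iff_subsingleton.1 hn
    have h := hlen x
    rw [Module.length_eq_zero_iff.2 (inferInstance :
      Subsingleton ((∐ fun i => cokernel (φ i)).presheaf.stalk x)), Module.length_eq_zero_iff] at h
    exact not_subsingleton_iff_nontrivial.2 hx h)⟩
  refine ⟨hDk, ?_, fun x => ?_⟩
  · show (QuotientAddGroup.mk _ : Cyc.K0CohQuot δ (k + 1) (k - 1)) = _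
    rw [show KZero.clSub (Cyc.CohLe δ (k + 1)) (∐ O) = _ from
      KZ.clSub_ses _ (KZ.shortExact_of_mono (sumMap φ)) hNc hOc hD, QuotientAddGroup.mk_add]
    rfl
  · obtain ⟨T, hT, hl⟩ := length_stalk_sigma hqC hlC x
    have h0 : ∀ i, i ∉ T → Cyc.sheafFun δ k (cokernel (φ i)) x = 0 := fun i hi => by
      haveI := not_nontrivial_iff_subsingleton.1 fun hn => hi (hT i hn)
      simp only [Cyc.sheafFun]
      split_ifs <;> simp
    have hsub : (Function.support fun i => Cyc.sheafFun δ k (cokernel (φ i)) x) ⊆ ↑T := fun i hi =>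
      by_contra fun h => hi (h0 i h)
    refine ⟨T.finite_toSet.subset hsub, ?_⟩
    rw [finsum_eq_sum_of_support_subset _ hsub]
    simp only [Cyc.sheafFun]
    split_ifs with hx
    · rw [hlen, hl, ENat.toNat_sum fun i _ => length_ne_top_top hd (hC i) hx, Nat.cast_sum]
    · simp

variable (hd : Cyc.IsDimFun X δ)
include hd

/-- Changing the dimension bound. -/
theorem exists_incl (k : ℤ) : ∃ θ : Cyc.K0CohQuot δ k (k - 1) →+ Cyc.K0CohQuot δ (k + 1) (k - 1),
    ∀ F, Cyc.CohLe δ k F → θ (Cyc.toK0CohQuot δ k (k - 1) F) = Cyc.toK0CohQuot δ (k + 1) (k - 1) F := by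
  obtain ⟨φ, hφ⟩ := KZ.exists_liftSub (Cyc.CohLe δ k)
    (fun M : X.Modules => Cyc.toK0CohQuot δ (k + 1) (k - 1) M) fun S hS h₁ h₂ h₃ => by
      show (QuotientAddGroup.mk _ : Cyc.K0CohQuot δ (k + 1) (k - 1)) = _
      rw [KZ.clSub_ses _ hS (cohLe_mono (by omega) h₁) (cohLe_mono (by omega) h₂) (cohLe_mono (by omega) h₃),
        QuotientAddGroup.mk_add]
      rfl
  refine ⟨QuotientAddGroup.lift _ φ ?_, fun F hF => (QuotientAddGroup.lift_mk _ _ _).trans (hφ F hF)⟩
  rw [AddSubgroup.closure_le]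
  rintro _ ⟨F, hF, rfl⟩
  rw [SetLike.mem_coe, AddMonoidHom.mem_ker, hφ F (cohLe_mono (by omega) hF)]
  exact (QuotientAddGroup.eq_zero_iff _).2 (AddSubgroup.subset_closure ⟨F, hF, rfl⟩)

theorem pos_eq_neg {α : AlgebraicCycle X ℤ} (hα : α ∈ Cyc.Zk X δ k) (h0 : Cyc.RatEquivZero δ k α) :
    Cyc.toK0CohQuot δ (k + 1) (k - 1) (Cyc.cycleSheafPos ⇑α) =
      Cyc.toK0CohQuot δ (k + 1) (k - 1) (Cyc.cycleSheafNeg ⇑α) := by
  obtain ⟨ι, ξ, f, hξ, hf, hloc, hsum⟩ := h0
  choose N φ φ' hN hNs hinj hC hC' hdiv using fun i => exists_divisor hd (hξ i) (hf i)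
  have hO : ∀ i, Cyc.CohLe δ (k + 1) (Cyc.closureStructureSheaf (ξ i)) := fun i => cohLe_closureSheaf hd (hξ i).le
  have hl : ∀ {G : ι → X.Modules}, (∀ i y, Nontrivial ((G i).presheaf.stalk y) → ξ i ⤳ y) → LocFinSupp G :=
    fun {G} h x => by
      obtain ⟨U, hUo, hxU, hUf⟩ := hloc x
      refine ⟨U, hUo, hxU, hUf.subset ?_⟩
      rintro i ⟨y, hyU, hy⟩
      exact ⟨y, specializes_iff_mem_closure.1 (h i y hy), hyU⟩
  have hlN : LocFinSupp N := hl hNs
  have hlO : LocFinSupp fun i => Cyc.closureStructureSheaf (ξ i) := hl fun i y hy => support_closureSheaf hy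
  obtain ⟨hD, e, hS⟩ := sum_cokernel hd N _ φ hN hO hlN hlO (fun i y => (hinj i y).1) hC
  obtain ⟨hD', e', hS'⟩ := sum_cokernel hd N _ φ' hN hO hlN hlO (fun i y => (hinj i y).2) hC'
  have heq : Cyc.toK0CohQuot δ (k + 1) (k - 1) (cokernel (sumMap φ')) =
      Cyc.toK0CohQuot δ (k + 1) (k - 1) (cokernel (sumMap φ)) := add_left_cancel (e'.symm.trans e)
  obtain ⟨ψ, hψ, hinjψ⟩ := exists_psiK hd k
  obtain ⟨hp, hn, hpn⟩ := cycle_sub_pos_neg hd hα
  have key : Cyc.toK0CohQuot δ k (k - 1) (cokernel (sumMap φ')) - Cyc.toK0CohQuot δ k (k - 1) (cokernel (sumMap φ)) =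
      Cyc.toK0CohQuot δ k (k - 1) (Cyc.cycleSheafPos ⇑α) - Cyc.toK0CohQuot δ k (k - 1) (Cyc.cycleSheafNeg ⇑α) := by
    refine hinjψ ?_
    rw [map_sub, map_sub, hψ _ hD', hψ _ hD, hψ _ hp, hψ _ hn, hpn]
    funext x
    rw [Pi.sub_apply, (hS' x).2, (hS x).2, ← finsum_sub_distrib (hS' x).1 (hS x).1, hsum x]
    refine finsum_congr fun i => ?_
    by_cases hx : δ x = k
    · obtain ⟨p, p', h1, h2, h3⟩ := hdiv i x hx
      simp only [Cyc.sheafFun, if_pos hx, h1, h2, ENat.toNat_natCast]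
      exact h3
    · simp only [Cyc.sheafFun, if_neg hx, sub_zero]
      rw [CycLib.divFun_eq_zero_of_delta δ _ (by rw [hξ i]; omega)]
  obtain ⟨θ, hθ⟩ := exists_incl hd k
  have h := congrArg θ key
  rw [map_sub, map_sub, hθ _ hD', hθ _ hD, hθ _ hp, hθ _ hn, heq, sub_self] at h
  exact sub_eq_zero.1 h.symm

end Groth.Agent.Symb83
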