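import Groth.Agent.Symb83.Index
import Groth.Agent.CycLib.StalkSES
import Groth.Agent.CycLib.Div
import Groth.Agent.H23.StalkPrimes
import Groth.Agent.H23.ZeroSec
import Groth.Prelude.Def_ChowK

/-! Specialisation of stalks as localisation, and the one dimensional places of a scheme. -/

set_option autoImplicit false
set_option linter.style.haveILetI false
set_option linter.unusedSectionVars false

universe u

open CategoryTheory AlgebraicGeometry TopologicalSpace

namespace Groth.Agent.Symb83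

open CDiv6 IsLocalRing

variable {X : Scheme.{u}} {δ : X → ℤ} {k : ℤ}

/-- The generization as an algebra. -/
noncomputable abbrev stAlg {x ξ : X} (h : ξ ⤳ x) : Algebra (X.presheaf.stalk x) (X.presheaf.stalk ξ) :=
  (X.presheaf.stalkSpecializes h).hom.toAlgebra

/-- A stalk at a generization as a module over the local ring. -/
noncomputable abbrev stMod (M : X.Modules) {x ξ : X} (h : ξ ⤳ x) :
    Module (X.presheaf.stalk x) (M.presheaf.stalk ξ) :=
  Module.compHom _ (X.presheaf.stalkSpecializes h).hom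

theorem stTower (M : X.Modules) {x ξ : X} (h : ξ ⤳ x) :
    letI := stAlg h; letI := stMod M h
    IsScalarTower (X.presheaf.stalk x) (X.presheaf.stalk ξ) (M.presheaf.stalk ξ) :=
  letI := stAlg h; letI := stMod M h
  IsScalarTower.of_algebraMap_smul fun _ _ => rfl

/-- Specialisation of stalks as a linear map. -/
noncomputable def spLin (M : X.Modules) {x ξ : X} (h : ξ ⤳ x) :
    letI := stMod M h
    M.presheaf.stalk x →ₗ[X.presheaf.stalk x] M.presheaf.stalk ξ :=
  letI := stMod M h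
  { toFun := M.presheaf.stalkSpecializes h
    map_add' := map_add (M.presheaf.stalkSpecializes h).hom
    map_smul' := fun a m => H23.ZeroSec.stalkSpecializes_smul M h a m }

theorem spLin_natural {M N : X.Modules} (φ : M ⟶ N) {x ξ : X} (h : ξ ⤳ x) (m : M.presheaf.stalk x) :
    spLin N h (CycLib.stalkLin φ x m) = CycLib.stalkLin φ ξ (spLin M h m) := by
  obtain ⟨U, hx, n, rfl⟩ := M.presheaf.exists_germ_eq m
  show N.presheaf.stalkSpecializes h (CycLib.stalkAdd φ x _) =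
    CycLib.stalkAdd φ ξ (M.presheaf.stalkSpecializes h _)
  rw [CycLib.stalkAdd_germ, TopCat.Presheaf.germ_stalkSpecializes_apply,
    TopCat.Presheaf.germ_stalkSpecializes_apply, CycLib.stalkAdd_germ]

theorem qOf_eq {x ξ : X} (h : ξ ⤳ x) :
    letI := stAlg h
    qOf (X.presheaf.stalk x) (X.presheaf.stalk ξ) = (primeOf h).asIdeal := rfl

theorem spLin_eq_zero {M : X.Modules} (hM : Coh.IsQCoh M) {x ξ : X} (h : ξ ⤳ x) {m : M.presheaf.stalk x}
    (hm : spLin M h m = 0) : ∃ s, s ∉ (primeOf h).asIdeal ∧ s • m = 0 := by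
  obtain ⟨U, hU, hx, n, rfl⟩ := CycLib.exists_germ_affine M m
  have hξ : ξ ∈ U := h.mem_open U.isOpen hx
  have h0 : M.presheaf.germ U ξ hξ n = 0 :=
    (TopCat.Presheaf.germ_stalkSpecializes_apply M.presheaf hx h n).symm.trans hm
  obtain ⟨f, hf, hfn⟩ := (QCoh.germ_eq_zero_iff hM hU hξ n).1 h0
  refine ⟨X.presheaf.germ U x hx f, ?_, ?_⟩
  · rw [mem_primeOf, not_not, TopCat.Presheaf.germ_stalkSpecializes_apply]
    exact (X.mem_basicOpen _ ξ hξ).1 hf
  · rw [← QCoh.germ_smul', hfn, map_zero]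

theorem exists_spLin_eq {M : X.Modules} (hM : Coh.IsQCoh M) {x ξ : X} (h : ξ ⤳ x) (v : M.presheaf.stalk ξ) :
    letI := stMod M h
    ∃ s m, s ∉ (primeOf h).asIdeal ∧ spLin M h m = s • v := by
  letI := stMod M h
  obtain ⟨_, ⟨U, hU, rfl⟩, hx, -⟩ :=
    X.isBasis_affineOpens.exists_subset_of_mem_open (Set.mem_univ x) isOpen_univ
  have hU' : IsAffineOpen U := hU
  have hξ : ξ ∈ U := h.mem_open U.isOpen hx
  letI := QCoh.stalkModule M hξ
  haveI := QCoh.isLocalizedModule_germLin hM hU' hξ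
  obtain ⟨⟨n, t⟩, hnt⟩ := IsLocalizedModule.surj (hU'.primeIdealOf ⟨ξ, hξ⟩).asIdeal.primeCompl (QCoh.germLin M hξ) v
  refine ⟨X.presheaf.germ U x hx t.1, M.presheaf.germ U x hx n, ?_, ?_⟩
  · rw [mem_primeOf, not_not, TopCat.Presheaf.germ_stalkSpecializes_apply]
    exact (X.mem_basicOpen _ ξ hξ).1 ((QCoh.mem_basicOpen_iff_notMem hU' hξ t.1).2 t.2)
  · show M.presheaf.stalkSpecializes h (M.presheaf.germ U x hx n) =
      X.presheaf.stalkSpecializes h (X.presheaf.germ U x hx t.1) • v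
    rw [TopCat.Presheaf.germ_stalkSpecializes_apply, TopCat.Presheaf.germ_stalkSpecializes_apply]
    exact hnt.symm

variable [IsLocallyNoetherian X] (hd : Cyc.IsDimFun X δ)
include hd

theorem eq_or_of_between {x ξ y : X} (h1 : ξ ⤳ y) (h2 : y ⤳ x) (hx : δ x + 1 = δ ξ) : y = ξ ∨ y = x := by
  by_contra hc
  push Not at hc
  have := CycLib.delta_lt hd h1 hc.1.symm
  have := CycLib.delta_lt hd h2 hc.2
  omega

theorem isPlace {x ξ : X} (h : ξ ⤳ x) (hx : δ x + 1 = δ ξ) :
    letI := stAlg h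
    IsPlace (X.presheaf.stalk x) (X.presheaf.stalk ξ) := by
  letI := stAlg h
  haveI := H23.StalkPrimes.isLocalization_primeOf h
  refine ⟨fun c => ?_, fun P hP => ?_⟩
  · obtain ⟨⟨a, b⟩, hab⟩ := IsLocalization.surj (primeOf h).asIdeal.primeCompl c
    exact ⟨a, b.1, b.2, by rw [mul_comm]; exact hab⟩
  · obtain ⟨y, hy, hP'⟩ := H23.StalkPrimes.exists_point P.asIdeal
    rw [← hP'] at hP
    rcases eq_or_of_between hd ((H23.StalkPrimes.primeOf_le_iff hy h).1 hP) hy hx with rfl | rfl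
    · exact Or.inl hP'.symm
    · exact Or.inr (PrimeSpectrum.ext (hP'.symm.trans (H23.ZeroSec.primeOf_refl' y)))

omit hd in
theorem exists_point_ne {x : X} (P : PrimeSpectrum (X.presheaf.stalk x)) (hP : P ≠ closedPoint _) :
    ∃ (y : X) (h : y ⤳ x), y ≠ x ∧ (primeOf h).asIdeal = P.asIdeal := by
  obtain ⟨y, hy, hP'⟩ := H23.StalkPrimes.exists_point P.asIdeal
  refine ⟨y, hy, fun e => hP ?_, hP'⟩
  subst e
  exact PrimeSpectrum.ext (hP'.symm.trans (H23.ZeroSec.primeOf_refl' y))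

theorem ordAt_specMap {x ξ : X} (h : ξ ⤳ x) (hx : δ x + 1 = δ ξ) {a : X.presheaf.stalk x}
    (ha : a ∉ (primeOf h).asIdeal) :
    letI := stAlg h
    Cyc.ordAt x ξ h (Cyc.specMap x ξ h a) = ((ordQ (X.presheaf.stalk x) (X.presheaf.stalk ξ) a).toNat : ℤ) := by
  letI := stAlg h
  have hne : Ideal.Quotient.mk (RingHom.ker (Cyc.specMap x ξ h)) a ≠ 0 := fun h0 =>
    ha (CycLib.ker_specMap h ▸ Ideal.Quotient.eq_zero_iff_mem.1 h0)
  rw [← CycLib.algebraMap_locQuot_mk h a, CycLib.ordAt_algebraMap hd h hx hne]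
  have key : ∀ I : Ideal (X.presheaf.stalk x), I = qOf (X.presheaf.stalk x) (X.presheaf.stalk ξ) →
      Ring.ord (X.presheaf.stalk x ⧸ I) (Ideal.Quotient.mk I a) =
        ordQ (X.presheaf.stalk x) (X.presheaf.stalk ξ) a := fun I hI => by subst hI; rfl
  exact congrArg (fun n : ℕ∞ => (n.toNat : ℤ)) (key _ (CycLib.ker_specMap h))

/-- Points of dimension `k + 1` in the support of a module of dimension `≤ k + 1` are locally finite. -/
theorem locallyFinite_gens {M : X.Modules} (hM : Cyc.CohLe δ (k + 1) M) (x : X) :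
    ∃ U : Set X, IsOpen U ∧ x ∈ U ∧ {ξ | ξ ∈ U ∧ δ ξ = k + 1 ∧ Nontrivial (M.presheaf.stalk ξ)}.Finite := by
  set T : Set X := {x | Nontrivial (M.presheaf.stalk x)}
  have hT : IsClosed T := CycLib.isClosed_nontrivial M hM.1
  obtain ⟨U, hU, hfin⟩ := CycLib.locallyFinite_components hT x
  obtain ⟨U', hU'U, hU'o, hxU'⟩ := mem_nhds_iff.1 hU
  haveI : QuasiSober ↥T := hT.isClosedEmbedding_subtypeVal.quasiSober
  refine ⟨U', hU'o, hxU', ?_⟩
  let S := {ξ | ξ ∈ U' ∧ δ ξ = k + 1 ∧ Nontrivial (M.presheaf.stalk ξ)}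
  let c : ↥S → irreducibleComponents ↥T := fun ξ =>
    ⟨irreducibleComponent (⟨ξ.1, ξ.2.2.2⟩ : ↥T), irreducibleComponent_mem_irreducibleComponents _⟩
  have hgen : ∀ ξ : ↥S, IsGenericPoint (⟨ξ.1, ξ.2.2.2⟩ : ↥T) (c ξ).1 := fun ξ => by
    obtain ⟨η, hη⟩ := QuasiSober.sober (c ξ).2.1 (isClosed_of_mem_irreducibleComponents _ (c ξ).2)
    have h1 : η ⤳ (⟨ξ.1, ξ.2.2.2⟩ : ↥T) := hη.specializes mem_irreducibleComponent
    have h2 : (η : X) = ξ.1 := CycLib.eq_of_delta_le hd (h1.map continuous_subtype_val)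
      ((hM.2 η.1 η.2).trans ξ.2.2.1.ge)
    rwa [show η = ⟨ξ.1, ξ.2.2.2⟩ from Subtype.ext h2] at hη
  have hinj : Function.Injective c := fun a b hab => by
    have := (hgen a).eq (hab ▸ hgen b)
    exact Subtype.ext (congrArg Subtype.val this :)
  haveI : Finite ↥S := by
    haveI : Finite ↥(Set.range c) := (hfin.subset (by
      rintro _ ⟨ξ, rfl⟩
      exact ⟨ξ.1, ⟨⟨ξ.1, ξ.2.2.2⟩, mem_irreducibleComponent, rfl⟩, hU'U ξ.2.1⟩)).to_subtype
    exact Finite.of_injective_finite_range hinj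
  exact Set.toFinite S

theorem finite_gens {M : X.Modules} (hM : Cyc.CohLe δ (k + 1) M) (x : X) :
    {i : {ξ : X // ξ ⤳ x ∧ δ ξ = k + 1} | Nontrivial (M.presheaf.stalk i.1)}.Finite := by
  obtain ⟨U, hUo, hxU, hfin⟩ := locallyFinite_gens hd hM x
  exact (hfin.preimage Subtype.val_injective.injOn).subset fun i hi => ⟨i.2.1.mem_open hUo hxU, i.2.2, hi⟩

end Groth.Agent.Symb83
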