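import Groth.Agent.Symb83.Psi
import Groth.Agent.QCoh.Devissage
import Groth.Agent.KZ.Serre

/-! `Coh_{≤ k}` is closed under kernels, cokernels, images and isomorphisms. -/

set_option autoImplicit false
set_option linter.style.haveILetI false
set_option linter.unusedSectionVars false

universe u

open CategoryTheory CategoryTheory.Limits AlgebraicGeometry

namespace Groth.Agent.Symb83

variable {X : Scheme.{u}} [IsLocallyNoetherian X] {δ : X → ℤ} {a : ℤ}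

theorem cohLe_of_mono {M N : X.Modules} (i : N ⟶ M) [Mono i] (hM : Cyc.CohLe δ a M) (hN : Coh.IsQCoh N) :
    Cyc.CohLe δ a N :=
  ⟨QCoh.isCoh_of_mono i hM.1 hN, fun x hx => hM.2 x (not_subsingleton_iff_nontrivial.1
    (QCoh.mem_support_of_mono hN hM.1.1 i (not_subsingleton_iff_nontrivial.2 hx : x ∈ CohB1.support N)))⟩

theorem cohLe_of_epi {M N : X.Modules} (p : M ⟶ N) [Epi p] (hM : Cyc.CohLe δ a M) (hN : Coh.IsQCoh N) :
    Cyc.CohLe δ a N :=
  ⟨QCoh.isCoh_of_epi p hM.1 hN, fun x hx => hM.2 x (not_subsingleton_iff_nontrivial.1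
    (QCoh.support_of_epi hM.1.1 hN p (not_subsingleton_iff_nontrivial.2 hx : x ∈ CohB1.support N)))⟩

theorem cohLe_iso {M N : X.Modules} (e : M ≅ N) (hM : Cyc.CohLe δ a M) : Cyc.CohLe δ a N :=
  cohLe_of_epi e.hom hM ((QCoh.isQCoh_iff_iso e).1 hM.1.1)

theorem cohLe_kernel {M N : X.Modules} (φ : M ⟶ N) (hM : Cyc.CohLe δ a M) (hN : Coh.IsQCoh N) :
    Cyc.CohLe δ a (kernel φ) :=
  cohLe_of_mono (kernel.ι φ) hM (QCoh.isQCoh_kernel hM.1.1 hN φ)

theorem cohLe_cokernel {M N : X.Modules} (φ : M ⟶ N) (hM : Coh.IsQCoh M) (hN : Cyc.CohLe δ a N) :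
    Cyc.CohLe δ a (cokernel φ) :=
  cohLe_of_epi (cokernel.π φ) hN (QCoh.isQCoh_cokernel hM hN.1.1 φ)

theorem cohLe_image {M N : X.Modules} (φ : M ⟶ N) (hM : Coh.IsQCoh M) (hN : Cyc.CohLe δ a N) :
    Cyc.CohLe δ a (Abelian.image φ) :=
  cohLe_kernel (cokernel.π φ) hN (QCoh.isQCoh_cokernel hM hN.1.1 φ)

theorem clSub_eq_add_image {M N : X.Modules} (φ : M ⟶ N) (hM : Cyc.CohLe δ a M) (hN : Cyc.CohLe δ a N) :
    KZero.clSub (Cyc.CohLe δ a) M =
      KZero.clSub (Cyc.CohLe δ a) (kernel φ) + KZero.clSub (Cyc.CohLe δ a) (Abelian.image φ) :=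
  KZ.clSub_ses _ (KZ.clSub_homology_eq.shortExact_kernel_image φ) (cohLe_kernel φ hM hN.1.1) hM
    (cohLe_image φ hM.1.1 hN)

/-- The class of the homology of a complex. -/
theorem clSub_homology {M N O : X.Modules} (φ : M ⟶ N) (ψ : N ⟶ O) (w : φ ≫ ψ = 0) (hM : Cyc.CohLe δ a M)
    (hN : Cyc.CohLe δ a N) (hO : Cyc.CohLe δ a O) :
    Cyc.CohLe δ a (ShortComplex.mk φ ψ w).homology ∧
    KZero.clSub (Cyc.CohLe δ a) (ShortComplex.mk φ ψ w).homology =
      KZero.clSub (Cyc.CohLe δ a) (kernel φ) + KZero.clSub (Cyc.CohLe δ a) (kernel ψ) -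
        KZero.clSub (Cyc.CohLe δ a) M := by
  let d := ShortComplex.LeftHomologyData.ofHasKernelOfHasCokernel (ShortComplex.mk φ ψ w)
  let l : M ⟶ kernel ψ := kernel.lift ψ φ w
  have hK : Cyc.CohLe δ a (kernel ψ) := cohLe_kernel ψ hN hO.1.1
  have hl : Cyc.CohLe δ a (cokernel l) := cohLe_cokernel l hM.1.1 hK
  have e : (ShortComplex.mk φ ψ w).homology ≅ cokernel l := d.homologyIso
  have hH := cohLe_iso e.symm hl
  refine ⟨hH, ?_⟩
  have e2 : kernel l ≅ kernel φ :=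
    (kernelCompMono l (kernel.ι ψ)).symm ≪≫ kernelIsoOfEq (kernel.lift_ι ..)
  have hkl : Cyc.CohLe δ a (kernel l) := cohLe_kernel l hM hK.1.1
  have hz : Cyc.CohLe δ a (kernel (𝟙 M)) := cohLe_kernel (𝟙 M) hM hM.1.1
  have h0 : IsZero (kernel (𝟙 M)) := Limits.isZero_kernel_of_mono (𝟙 M)
  have h1 := clSub_eq_add_image l hM hK
  have h2 := KZ.clSub_ses (Cyc.CohLe δ a) (KZ.kerSeq_shortExact (cokernel.π l)) (cohLe_image l hM.1.1 hK) hK hl
  change KZero.clSub _ (kernel ψ) = KZero.clSub _ (Abelian.image l) + KZero.clSub _ (cokernel l) at h2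
  rw [KZ.clSub_iso _ e hH hl h0 hz, ← KZ.clSub_iso _ e2 hkl (cohLe_iso e2 hkl) h0 hz, h1, h2]
  abel

end Groth.Agent.Symb83
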