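import Groth.Agent.QCoh.DevissageP
import Groth.Agent.H23.RedSub
import Groth.Agent.QCoh.Devissage
import Groth.Agent.CycLib.StalkSES
import Groth.Prelude.Def_ChowK

/-! The structure sheaf of the closure of a point, on a locally Noetherian scheme. -/

set_option autoImplicit false
set_option linter.style.haveILetI false
set_option linter.unusedSectionVars false
set_option backward.isDefEq.respectTransparency false
set_option backward.isDefEq.respectTransparency.types false

universe u

open CategoryTheory CategoryTheory.Limits AlgebraicGeometry TopologicalSpace Opposite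

namespace Groth.Agent.Symb83

open Groth.Agent

variable {X : Scheme.{u}}

section Integral

variable {Z : Scheme.{u}} (i : Z ⟶ X) [IsClosedImmersion i] [IsIntegral Z]

theorem not_isZero_structureModule : ¬ IsZero (Coh.structureModule Z) := fun h => by
  have h1 : Scheme.Modules.Hom.app (𝟙 (Coh.structureModule Z)) ⊤ (1 : Γ(Z, ⊤)) =
      Scheme.Modules.Hom.app (0 : Coh.structureModule Z ⟶ Coh.structureModule Z) ⊤ (1 : Γ(Z, ⊤)) := by
    rw [h.eq_of_src (𝟙 _) 0]
  exact one_ne_zero (α := Γ(Z, ⊤)) h1

theorem generic_mem_support :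
    i (genericPoint Z) ∈ CohB1.support ((Coh.push i).obj (Coh.structureModule Z)) :=
  (QCoh.mem_support_push_ideal i (𝟙 _) QCoh.isQCoh_structureModule not_isZero_structureModule).1

theorem length_push_structure :
    Module.length (X.presheaf.stalk (i (genericPoint Z)))
      (((Coh.push i).obj (Coh.structureModule Z)).presheaf.stalk (i (genericPoint Z))) = 1 := by
  set M := (Coh.push i).obj (Coh.structureModule Z)
  set ξ := i (genericPoint Z) with hξ
  obtain ⟨U, hU, hξU⟩ := QCoh.exists_affine_mem ξ
  set e : M.presheaf.stalk ξ := M.presheaf.germ U ξ hξU (1 : Γ(Z, i ⁻¹ᵁ U))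
  let L := LinearMap.toSpanSingleton (X.presheaf.stalk ξ) (M.presheaf.stalk ξ) e
  have hne : Nontrivial (M.presheaf.stalk ξ) := not_subsingleton_iff_nontrivial.1 (generic_mem_support i)
  have hsurj : Function.Surjective L := fun t => by
    obtain ⟨V, hV, hξV, m, rfl⟩ := CycLib.exists_germ_affine M t
    obtain ⟨_, ⟨W, hW, rfl⟩, hξW, hle⟩ :=
      X.isBasis_affineOpens.exists_subset_of_mem_open (show ξ ∈ U ⊓ V from ⟨hξU, hξV⟩) (U ⊓ V).isOpen
    have hWU : W ≤ U := fun a ha => (hle ha).1
    have hWV : W ≤ V := fun a ha => (hle ha).2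
    set m' : Γ(M, W) := M.presheaf.map (homOfLE hWV).op m
    obtain ⟨r, hr⟩ := i.app_surjective W hW (show Γ(Z, i ⁻¹ᵁ W) from m')
    refine ⟨X.presheaf.germ W ξ hξW r, ?_⟩
    show X.presheaf.germ W ξ hξW r • e = _
    rw [show e = M.presheaf.germ W ξ hξW (M.presheaf.map (homOfLE hWU).op (1 : Γ(Z, i ⁻¹ᵁ U))) from
        (TopCat.Presheaf.germ_res_apply (F := M.presheaf) (homOfLE hWU) ξ hξW _).symm,
      ← QCoh.germ_smul']
    refine Eq.trans (congrArg _ ?_) (TopCat.Presheaf.germ_res_apply (F := M.presheaf) (homOfLE hWV) ξ hξW m)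
    refine (QCoh.pushforward_smul i W r _).trans ?_
    have h1 : (show Γ(Z, i ⁻¹ᵁ W) from M.presheaf.map (homOfLE hWU).op (1 : Γ(Z, i ⁻¹ᵁ U))) = 1 :=
      map_one (Z.presheaf.map ((Opens.map i.base).map (homOfLE hWU)).op).hom
    exact (congrArg (fun a : Γ(Z, i ⁻¹ᵁ W) => (i.app W r) * a) h1).trans ((mul_one _).trans hr)
  have hker : LinearMap.ker L = IsLocalRing.maximalIdeal (X.presheaf.stalk ξ) := by
    refine ((IsLocalRing.maximalIdeal.isMaximal _).eq_of_le ?_ fun a ha => ?_).symm
    · intro h
      obtain ⟨t, ht⟩ := exists_ne (0 : M.presheaf.stalk ξ)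
      obtain ⟨a, rfl⟩ := hsurj t
      exact ht (LinearMap.mem_ker.1 (h.ge trivial))
    · obtain ⟨V, hξV, r, rfl⟩ := X.presheaf.exists_germ_eq a
      set W := U ⊓ V
      have hξW : ξ ∈ W := ⟨hξU, hξV⟩
      rw [LinearMap.mem_ker]
      show X.presheaf.germ V ξ hξV r • e = 0
      rw [show e = M.presheaf.germ W ξ hξW (M.presheaf.map (homOfLE inf_le_left).op (1 : Γ(Z, i ⁻¹ᵁ U))) from
          (TopCat.Presheaf.germ_res_apply (F := M.presheaf) (homOfLE (inf_le_left : W ≤ U)) ξ hξW _).symm,
        ← X.presheaf.germ_res_apply (homOfLE (inf_le_right : W ≤ V)) ξ hξW r, ← QCoh.germ_smul']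
      set r' : Γ(X, W) := X.presheaf.map (homOfLE (inf_le_right : W ≤ V)).op r
      have hr0 : i.app W r' = 0 := by
        by_contra hc
        have hb := (QCoh.ne_zero_iff_mem_basicOpen _).1 hc
        rw [← Scheme.preimage_basicOpen] at hb
        have hu : IsUnit (X.presheaf.germ W ξ hξW r') := (X.mem_basicOpen _ _ hξW).1 hb
        rw [X.presheaf.germ_res_apply] at hu
        exact (IsLocalRing.mem_maximalIdeal _).1 ha hu
      refine (congrArg _ ((QCoh.pushforward_smul i W r' _).trans ?_)).trans (map_zero _)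
      rw [hr0]
      exact zero_mul (M₀ := Γ(Z, i ⁻¹ᵁ W)) _
  refine Module.length_eq_one_iff.2 (isSimpleModule_iff_quot_maximal.2
    ⟨LinearMap.ker L, hker ▸ IsLocalRing.maximalIdeal.isMaximal _,
      ⟨(L.quotKerEquivOfSurjective hsurj).symm⟩⟩)

end Integral

variable [IsLocallyNoetherian X]

theorem isCoh_closureSheaf (x : X) : Coh.IsCoh (Cyc.closureStructureSheaf x) :=
  haveI := LocallyOfFiniteType.isLocallyNoetherian (IntMult.ptIdeal x).subschemeι
  QCoh.isCoh_pushforward_finite (IntMult.ptIdeal x).subschemeι QCoh.isCoh_structureModule'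

theorem support_closureSheaf {x y : X} (h : Nontrivial ((Cyc.closureStructureSheaf x).presheaf.stalk y)) :
    x ⤳ y :=
  specializes_iff_mem_closure.2 (((QCoh.support_push_subset (IntMult.ptIdeal x).subschemeι
    QCoh.isQCoh_structureModule).trans (H23.RedSub.range_vanishingIdeal _).subset)
    (not_subsingleton_iff_nontrivial.2 h : y ∈ CohB1.support (Cyc.closureStructureSheaf x)))

theorem length_closureSheaf_self (x : X) :
    Module.length (X.presheaf.stalk x) ((Cyc.closureStructureSheaf x).presheaf.stalk x) = 1 := by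
  haveI : IsIntegral (IntMult.ptIdeal x).subscheme := QCoh.isIntegral_closure_point x
  have h := length_push_structure (IntMult.ptIdeal x).subschemeι
  have hr : closure ({(IntMult.ptIdeal x).subschemeι (genericPoint _)} : Set X) = closure {x} := by
    rw [← QCoh.range_eq_closure]
    exact H23.RedSub.range_vanishingIdeal _
  have hx : (IntMult.ptIdeal x).subschemeι (genericPoint _) = x :=
    ((specializes_iff_mem_closure.2 (hr.ge (subset_closure rfl))).antisymm
      (specializes_iff_mem_closure.2 (hr.le (subset_closure rfl)))).eq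
  rw [hx] at h
  exact h

end Groth.Agent.Symb83
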