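import Groth.Agent.Symb83.LocSum
import Groth.Agent.Symb83.PtSheaf
import Groth.Agent.CycLib.Basic

/-! The modules attached to a cycle. -/

set_option autoImplicit false
set_option linter.style.haveILetI false
set_option linter.unusedSectionVars false

universe u

open CategoryTheory CategoryTheory.Limits AlgebraicGeometry TopologicalSpace

namespace Groth.Agent.Symb83

variable {X : Scheme.{u}} [IsLocallyNoetherian X] {δ : X → ℤ} {k : ℤ} (hd : Cyc.IsDimFun X δ)
include hd

theorem length_closureSheaf {ζ x : X} (hζ : δ ζ = k) (hx : δ x = k) [Decidable (ζ = x)] :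
    Module.length (X.presheaf.stalk x) ((Cyc.closureStructureSheaf ζ).presheaf.stalk x) =
      if ζ = x then 1 else 0 := by
  split_ifs with h
  · subst h
    exact length_closureSheaf_self ζ
  · haveI : Subsingleton ((Cyc.closureStructureSheaf ζ).presheaf.stalk x) :=
      not_nontrivial_iff_subsingleton.1 fun hn =>
        h (CycLib.eq_of_delta_le hd (support_closureSheaf hn) (hζ.le.trans hx.ge))
    exact Module.length_eq_zero_iff.2 inferInstance

/-- Finitely many summands meet a small open. -/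
theorem locFinSupp_cycle {α : X → ℤ}
    (hfin : ∀ x : X, ∃ W : Set X, IsOpen W ∧ x ∈ W ∧ {ζ | ζ ∈ W ∧ α ζ ≠ 0}.Finite) :
    LocFinSupp fun i : (Σ ζ : {ζ : X // 0 < α ζ}, Fin (α ζ.1).toNat) => Cyc.closureStructureSheaf i.1.1 := by
  intro x
  obtain ⟨W, hWo, hxW, hWf⟩ := hfin x
  refine ⟨W, hWo, hxW, ?_⟩
  have hf : {ζ : {ζ : X // 0 < α ζ} | ζ.1 ∈ W}.Finite :=
    (hWf.preimage Subtype.val_injective.injOn).subset fun ζ hζ => ⟨hζ, ne_of_gt ζ.2⟩
  refine (hf.toFinset.sigma fun _ => Finset.univ).finite_toSet.subset ?_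
  rintro i ⟨y, hyW, hy⟩
  exact Finset.mem_sigma.2 ⟨hf.mem_toFinset.2 ((support_closureSheaf hy).mem_open hWo hyW), Finset.mem_univ _⟩

/-- The sheaf of the positive part: coherent, of dimension `k`, with cycle the positive part. -/
theorem cycleSheafPos_spec {α : X → ℤ} (hk : ∀ x, δ x ≠ k → α x = 0)
    (hfin : ∀ x : X, ∃ W : Set X, IsOpen W ∧ x ∈ W ∧ {ζ | ζ ∈ W ∧ α ζ ≠ 0}.Finite) :
    Cyc.CohLe δ k (Cyc.cycleSheafPos α) ∧
      ∀ x, Cyc.sheafFun δ k (Cyc.cycleSheafPos α) x = max (α x) 0 := by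
  classical
  let F : (Σ ζ : {ζ : X // 0 < α ζ}, Fin (α ζ.1).toNat) → X.Modules := fun i => Cyc.closureStructureSheaf i.1.1
  have hc : ∀ i, Coh.IsCoh (F i) := fun i => isCoh_closureSheaf _
  have hq : ∀ i, Coh.IsQCoh (F i) := fun i => (hc i).1
  have hl : LocFinSupp F := locFinSupp_cycle hd hfin
  have hδ : ∀ i : (Σ ζ : {ζ : X // 0 < α ζ}, Fin (α ζ.1).toNat), δ i.1.1 = k := fun i =>
    by_contra fun h => (ne_of_gt i.1.2) (hk _ h)
  refine ⟨⟨isCoh_sigma hq hc hl, fun x hx => ?_⟩, fun x => ?_⟩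
  · obtain ⟨i, hi⟩ := support_sigma hq hl (x := x) hx
    exact hδ i ▸ CycLib.delta_le hd (support_closureSheaf hi)
  · simp only [Cyc.sheafFun]
    split_ifs with hx
    · obtain ⟨T, hT, hlen⟩ := length_stalk_sigma hq hl x
      change ((Module.length (X.presheaf.stalk x) ((∐ F).presheaf.stalk x)).toNat : ℤ) = _
      rw [hlen, Finset.sum_congr rfl fun i _ => length_closureSheaf hd (hδ i) hx, Finset.sum_boole]
      have hS : (T.filter fun i => i.1.1 = x).card = (α x).toNat := by
        by_cases hpos : 0 < α x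
        · have e : T.filter (fun i => i.1.1 = x) =
              (Finset.univ : Finset (Fin (α x).toNat)).map ⟨fun j => ⟨⟨x, hpos⟩, j⟩, fun a b h => by simpa using h⟩ := by
            ext ⟨⟨ζ, hζ⟩, j⟩
            simp only [Finset.mem_filter, Finset.mem_map, Finset.mem_univ, true_and, Function.Embedding.coeFn_mk]
            constructor
            · rintro ⟨-, he : ζ = x⟩
              subst he
              exact ⟨j, rfl⟩
            · rintro ⟨j', hj'⟩
              have he : ζ = x := (congrArg (fun i : (Σ ζ : {ζ : X // 0 < α ζ}, Fin (α ζ.1).toNat) => i.1.1) hj').symm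
              refine ⟨hT _ ?_, he⟩
              subst he
              have h1 := length_closureSheaf_self ζ
              by_contra hn
              haveI := not_nontrivial_iff_subsingleton.1 hn
              rw [Module.length_eq_zero_iff.2 (inferInstance : Subsingleton ((F ⟨⟨ζ, hζ⟩, j⟩).presheaf.stalk ζ))] at h1
              exact zero_ne_one h1
          rw [e, Finset.card_map, Finset.card_univ, Fintype.card_fin]
        · rw [Int.toNat_of_nonpos (not_lt.1 hpos), Finset.card_eq_zero, Finset.filter_eq_empty_iff]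
          intro i _ he
          exact hpos (he ▸ i.1.2)
      rw [ENat.toNat_natCast, hS, Int.toNat_eq_max]
    · rw [hk x hx]
      simp

theorem cycleSheafNeg_spec {α : X → ℤ} (hk : ∀ x, δ x ≠ k → α x = 0)
    (hfin : ∀ x : X, ∃ W : Set X, IsOpen W ∧ x ∈ W ∧ {ζ | ζ ∈ W ∧ α ζ ≠ 0}.Finite) :
    Cyc.CohLe δ k (Cyc.cycleSheafNeg α) ∧
      ∀ x, Cyc.sheafFun δ k (Cyc.cycleSheafNeg α) x = max (-α x) 0 :=
  cycleSheafPos_spec hd (α := -α) (fun x hx => by simp [hk x hx]) fun x => by
    obtain ⟨W, h1, h2, h3⟩ := hfin x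
    exact ⟨W, h1, h2, h3.subset fun z hz => ⟨hz.1, fun h => hz.2 (by simp [h])⟩⟩

omit hd in
theorem finite_support_nhds (α : AlgebraicCycle X ℤ) (x : X) :
    ∃ W : Set X, IsOpen W ∧ x ∈ W ∧ {ζ | ζ ∈ W ∧ α ζ ≠ 0}.Finite := by
  obtain ⟨t, ht, hf⟩ := α.supportLocallyFiniteWithinDomain' x trivial
  obtain ⟨W, hWt, hWo, hxW⟩ := mem_nhds_iff.1 ht
  exact ⟨W, hWo, hxW, hf.subset fun z hz => ⟨hWt hz.1, hz.2⟩⟩

end Groth.Agent.Symb83
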