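import Groth.Agent.Symb83.TwistDiv
import Groth.Agent.KFlatLib.Scheme.InnerHom
import Mathlib.CategoryTheory.Limits.Preserves.Shapes.Products

/-! `[F ⊗ L] - [F] = c₁(L) ∩ [F]`. -/

set_option autoImplicit false
set_option linter.style.haveILetI false
set_option linter.unusedSectionVars false
set_option linter.unusedVariables false
set_option backward.isDefEq.respectTransparency false
set_option backward.isDefEq.respectTransparency.types false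

universe u

open CategoryTheory CategoryTheory.Limits AlgebraicGeometry TopologicalSpace

namespace Groth.Agent.Symb83

variable {X : Scheme.{u}}

theorem finsum_cycle_index {α : X → ℤ} (hα : ∀ ζ, 0 ≤ α ζ) (f : X → ℤ)
    (hf : (Function.support fun b : (Σ z : {ζ : X // 0 < α ζ}, Fin (α z.1).toNat) => f b.1.1).Finite) :
    (∑ᶠ b : (Σ z : {ζ : X // 0 < α ζ}, Fin (α z.1).toNat), f b.1.1) = ∑ᶠ ζ, α ζ * f ζ := by
  classical
  let S := hf.toFinset.image fun b => b.1.1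
  have hS : ∀ z : {ζ : X // 0 < α ζ}, f z.1 ≠ 0 → z.1 ∈ S := fun z hz => Finset.mem_image.2
    ⟨⟨z, ⟨0, by have := z.2; omega⟩⟩, hf.mem_toFinset.2 hz, rfl⟩
  rw [finsum_eq_sum_of_support_subset (s := ((S.subtype fun ζ => 0 < α ζ).sigma fun _ => Finset.univ)) _
      (fun b hb => Finset.mem_coe.2 (Finset.mem_sigma.2 ⟨Finset.mem_subtype.2 (hS b.1 hb), Finset.mem_univ _⟩)),
    Finset.sum_sigma,
    finsum_eq_sum_of_support_subset (s := S) _ (fun ζ hζ => by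
      have h : α ζ ≠ 0 ∧ f ζ ≠ 0 := mul_ne_zero_iff.1 hζ
      exact hS ⟨ζ, lt_of_le_of_ne (hα ζ) (Ne.symm h.1)⟩ h.2)]
  rw [← Finset.sum_subtype_eq_sum_filter (s := S) (fun ζ => α ζ * f ζ) (p := fun ζ => 0 < α ζ) |>.trans
    (Finset.sum_filter_of_ne fun ζ _ h => lt_of_le_of_ne (hα ζ) (Ne.symm (mul_ne_zero_iff.1 h).1))]
  refine Finset.sum_congr rfl fun z _ => ?_
  show (∑ _j : Fin (α z.1).toNat, f z.1) = _
  rw [Finset.sum_const, Finset.card_univ, Fintype.card_fin, nsmul_eq_mul, Int.toNat_of_nonneg z.2.le]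

theorem toK0_ses {δ : X → ℤ} {a b : ℤ} {A B C : X.Modules} {f : A ⟶ B} {g : B ⟶ C} {w : f ≫ g = 0}
    (hS : (ShortComplex.mk f g w).ShortExact) (h₁ : Cyc.CohLe δ a A) (h₂ : Cyc.CohLe δ a B)
    (h₃ : Cyc.CohLe δ a C) :
    Cyc.toK0CohQuot δ a b B = Cyc.toK0CohQuot δ a b A + Cyc.toK0CohQuot δ a b C := by
  show (QuotientAddGroup.mk _ : Cyc.K0CohQuot δ a b) = _
  rw [show KZero.clSub (Cyc.CohLe δ a) B = _ from KZ.clSub_ses _ hS h₁ h₂ h₃, QuotientAddGroup.mk_add]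
  rfl

variable [IsLocallyNoetherian X] {δ : X → ℤ} {k : ℤ} (hd : Cyc.IsDimFun X δ) {L : X.Modules}
  (hL : PicF.IsInvertible L)
include hd hL

/-- The map `F ↦ [F ⊗ L] - [F]`. -/
theorem exists_twistMap (k : ℤ) :
    ∃ T : Cyc.K0CohQuot δ (k + 1) (k + 1 - 1) →+ Cyc.K0CohQuot δ (k + 1) (k - 1),
      ∀ F, Cyc.CohLe δ (k + 1) F → T (Cyc.toK0CohQuot δ (k + 1) (k + 1 - 1) F) =
        Cyc.toK0CohQuot δ (k + 1) (k - 1) ((twist L).obj F) - Cyc.toK0CohQuot δ (k + 1) (k - 1) F := by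
  obtain ⟨φ, hφ⟩ := KZ.exists_liftSub (Cyc.CohLe δ (k + 1))
    (fun F : X.Modules => Cyc.toK0CohQuot δ (k + 1) (k - 1) ((twist L).obj F) -
      Cyc.toK0CohQuot δ (k + 1) (k - 1) F) fun S hS h₁ h₂ h₃ => by
    rw [toK0_ses (b := k - 1) (twist_shortExact hL hS h₁.1 h₂.1 h₃.1)
        (cohLe_twist hL h₁) (cohLe_twist hL h₂) (cohLe_twist hL h₃),
      toK0_ses (b := k - 1) (f := S.f) (g := S.g) (w := S.zero) hS h₁ h₂ h₃]
    abel
  refine ⟨QuotientAddGroup.lift _ φ ?_, fun F hF => (QuotientAddGroup.lift_mk _ _ _).trans (hφ F hF)⟩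
  rw [AddSubgroup.closure_le]
  rintro _ ⟨F, hF, rfl⟩
  rw [add_sub_cancel_right] at hF
  rw [SetLike.mem_coe, AddMonoidHom.mem_ker, hφ F (cohLe_mono (by omega) hF), sub_eq_zero]
  obtain ⟨θ, hθ⟩ := exists_incl hd k
  obtain ⟨ψ, hψ, hinj⟩ := exists_psiK hd k
  have hG := cohLe_twist hL hF
  rw [← hθ F hF, ← hθ _ hG]
  exact congrArg θ (hinj (by rw [hψ _ hG, hψ F hF, sheafFun_twist hL]))

omit hd in
theorem toK0_iso {A B : X.Modules} {a b : ℤ} (i : A ≅ B) (hA : Cyc.CohLe δ a A) (hB : Cyc.CohLe δ a B) :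
    Cyc.toK0CohQuot δ a b A = Cyc.toK0CohQuot δ a b B :=
  congrArg (QuotientAddGroup.mk (s := _)) (KZ.clSub_iso (Cyc.CohLe δ a) i hA hB
    (isZero_kernel_of_mono (𝟙 A)) (cohLe_kernel (𝟙 A) hA hA.1.1))

theorem twist_sum_sub {α : X → ℤ} (hαpos : ∀ ζ, 0 ≤ α ζ) (hαk : ∀ x, δ x ≠ k + 1 → α x = 0)
    (hfin : ∀ x : X, ∃ W : Set X, IsOpen W ∧ x ∈ W ∧ {ζ | ζ ∈ W ∧ α ζ ≠ 0}.Finite)
    {s : (ξ : X) → Cyc.secFibre L ξ} (hs : ∀ ξ, s ξ ≠ 0) :
    ∃ D D' : X.Modules, Cyc.CohLe δ k D ∧ Cyc.CohLe δ k D' ∧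
      Cyc.toK0CohQuot δ (k + 1) (k - 1) ((twist L).obj (Cyc.cycleSheafPos α)) -
          Cyc.toK0CohQuot δ (k + 1) (k - 1) (Cyc.cycleSheafPos α) =
        Cyc.toK0CohQuot δ (k + 1) (k - 1) D' - Cyc.toK0CohQuot δ (k + 1) (k - 1) D ∧
      Cyc.sheafFun δ k D' - Cyc.sheafFun δ k D = Cyc.c1CapFun δ L α s := by
  let O := fun b : (Σ z : {ζ : X // 0 < α ζ}, Fin (α z.1).toNat) => Cyc.closureStructureSheaf b.1.1
  have hP : Cyc.CohLe δ (k + 1) (∐ O) := (cycleSheafPos_spec hd hαk hfin).1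
  have hzk : ∀ b : (Σ z : {ζ : X // 0 < α ζ}, Fin (α z.1).toNat), δ b.1.1 = k + 1 := fun b =>
    by_contra fun h => (ne_of_gt b.1.2) (hαk _ h)
  choose N φ φ' hN hNs hinj hC hC' hdiv using fun b : (Σ z : {ζ : X // 0 < α ζ}, Fin (α z.1).toNat) =>
    exists_secDivisor hd hL (hzk b) (hs b.1.1)
  let O' := fun b => (twist L).obj (O b)
  have hO : ∀ b, Cyc.CohLe δ (k + 1) (O b) := fun b => cohLe_closureSheaf hd (hzk b).le
  have hO' : ∀ b, Cyc.CohLe δ (k + 1) (O' b) := fun b => cohLe_twist hL (hO b)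
  have hlO : LocFinSupp O := locFinSupp_cycle hd hfin
  have hlN : LocFinSupp N := locFinSupp_reindex (G := O) id Function.injective_id (fun b y hy =>
    @Function.Injective.nontrivial _ _ hy _ (hinj b y).1) hlO
  have hlO' : LocFinSupp O' := locFinSupp_reindex id Function.injective_id
    (fun b y hy => nontrivial_twist hL hy) hlO
  obtain ⟨hD, e, hS⟩ := sum_cokernel hd N O φ hN hO hlN hlO (fun b y => (hinj b y).1) hC
  obtain ⟨hD', e', hS'⟩ := sum_cokernel hd N O' φ' hN hO' hlN hlO' (fun b y => (hinj b y).2) hC'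
  have hiso : Cyc.toK0CohQuot δ (k + 1) (k - 1) ((twist L).obj (∐ O)) =
      Cyc.toK0CohQuot δ (k + 1) (k - 1) (∐ O') :=
    toK0_iso hL (PreservesCoproduct.iso (twist L) O) (cohLe_twist hL hP) (cohLe_sigma hO' hlO')
  refine ⟨_, _, hD, hD', ?_, ?_⟩
  · show Cyc.toK0CohQuot δ (k + 1) (k - 1) ((twist L).obj (∐ O)) -
      Cyc.toK0CohQuot δ (k + 1) (k - 1) (∐ O) = _
    rw [hiso, e', e]
    abel
  · funext x
    rw [Pi.sub_apply, (hS' x).2, (hS x).2, ← finsum_sub_distrib (hS' x).1 (hS x).1]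
    have hval : ∀ b, Cyc.sheafFun δ k (cokernel (φ' b)) x - Cyc.sheafFun δ k (cokernel (φ b)) x =
        Cyc.secDivFun δ L b.1.1 (s b.1.1) x := fun b => by
      by_cases hx : δ x = k
      · obtain ⟨p, p', h1, h2, h3⟩ := hdiv b x hx
        simp only [Cyc.sheafFun, if_pos hx, h1, h2, ENat.toNat_natCast]
        exact h3
      · simp only [Cyc.sheafFun, if_neg hx, sub_zero]
        rw [Cyc.secDivFun, dif_neg fun h => hx (by have := hzk b; omega)]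
    rw [finsum_congr hval]
    refine finsum_cycle_index hαpos (fun ζ => Cyc.secDivFun δ L ζ (s ζ) x)
      (((hS' x).1.union (hS x).1).subset fun b hb => ?_)
    by_contra hc
    simp only [Set.mem_union, Function.mem_support, not_or, not_not] at hc
    refine hb ?_
    show Cyc.secDivFun δ L b.1.1 (s b.1.1) x = 0
    rw [← hval b, hc.1, hc.2, sub_zero]

theorem toK0_twist_sub {F : X.Modules} (hF : Cyc.CohLe δ (k + 1) F) {s : (ξ : X) → Cyc.secFibre L ξ}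
    (hs : ∀ ξ, s ξ ≠ 0) {γ : AlgebraicCycle X ℤ} (hγk : γ ∈ Cyc.Zk X δ k)
    (hγ : ⇑γ = Cyc.c1CapFun δ L (Cyc.sheafFun δ (k + 1) F) s) :
    Cyc.toK0CohQuot δ (k + 1) (k - 1) ((twist L).obj F) - Cyc.toK0CohQuot δ (k + 1) (k - 1) F =
      Cyc.toK0CohQuot δ (k + 1) (k - 1) (Cyc.cycleSheafPos ⇑γ) -
        Cyc.toK0CohQuot δ (k + 1) (k - 1) (Cyc.cycleSheafNeg ⇑γ) := by
  obtain ⟨α₀, hα₀, eα⟩ := cycle_of_sheafFun hd (k := k + 1) hF
  have hαpos : ∀ ζ, 0 ≤ Cyc.sheafFun δ (k + 1) F ζ := fun ζ => by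
    simp only [Cyc.sheafFun]
    split_ifs <;> simp
  have hαk : ∀ x, δ x ≠ k + 1 → Cyc.sheafFun δ (k + 1) F x = 0 := fun x hx => if_neg hx
  have hfin : ∀ x : X, ∃ W : Set X, IsOpen W ∧ x ∈ W ∧ {ζ | ζ ∈ W ∧ Cyc.sheafFun δ (k + 1) F ζ ≠ 0}.Finite :=
    fun x => by rw [← eα]; exact finite_support_nhds α₀ x
  have hP := (cycleSheafPos_spec hd hαk hfin).1
  obtain ⟨D, D', hD, hD', e, ec⟩ := twist_sum_sub hd hL hαpos hαk hfin hs
  obtain ⟨T, hT⟩ := exists_twistMap hd hL k (δ := δ)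
  rw [← hT F hF, congrArg T (mk_eq_cycle hd hF), hT _ hP, e]
  obtain ⟨ψ, hψ, hinjψ⟩ := exists_psiK hd k
  obtain ⟨θ, hθ⟩ := exists_incl hd k
  obtain ⟨hp, hn, hpn⟩ := cycle_sub_pos_neg hd hγk
  have key : Cyc.toK0CohQuot δ k (k - 1) D' - Cyc.toK0CohQuot δ k (k - 1) D =
      Cyc.toK0CohQuot δ k (k - 1) (Cyc.cycleSheafPos ⇑γ) - Cyc.toK0CohQuot δ k (k - 1) (Cyc.cycleSheafNeg ⇑γ) :=
    hinjψ (by rw [map_sub, map_sub, hψ _ hD', hψ _ hD, hψ _ hp, hψ _ hn, hpn, hγ, ec])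
  have h := congrArg θ key
  rw [map_sub, map_sub, hθ _ hD', hθ _ hD, hθ _ hp, hθ _ hn] at h
  exact h

end Groth.Agent.Symb83
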