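import Groth.Agent.Symb83.Nu
import Groth.Agent.H23.RatOn

/-! The index cycle is additive up to principal divisors. -/

set_option autoImplicit false
set_option linter.style.haveILetI false
set_option linter.unusedSectionVars false

universe u

open CategoryTheory AlgebraicGeometry

namespace Groth.Agent.Symb83

open CDiv6 CycAlg

variable {X : Scheme.{u}} {δ : X → ℤ} {k : ℤ} [IsLocallyNoetherian X] (hd : Cyc.IsDimFun X δ)
  {S : ShortComplex X.Modules} (hS : S.ShortExact) (h₁ : Cyc.CohLe δ (k + 1) S.X₁)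
  (h₂ : Cyc.CohLe δ (k + 1) S.X₂) (h₃ : Cyc.CohLe δ (k + 1) S.X₃)
include hd hS h₁ h₂ h₃

theorem flagLen_add {ξ : X} (hξ : δ ξ = k + 1) :
    flagLen S.X₂ ξ = flagLen S.X₁ ξ + flagLen S.X₃ ξ := by
  have e := CycLib.length_stalk_shortExact hS h₁.1.1 h₂.1.1 h₃.1.1 ξ
  rw [length_eq_flagLen hd h₁ hξ, length_eq_flagLen hd h₂ hξ, length_eq_flagLen hd h₃ hξ] at e
  exact_mod_cast e

theorem exists_scalar {ξ : X} (hξ : δ ξ = k + 1) :
    ∃ g : X.residueField ξ, g ≠ 0 ∧ ∀ (x : X) (h : ξ ⤳ x), δ x = k →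
      letI := stMod S.X₁ h; letI := stMod S.X₂ h; letI := stMod S.X₃ h
      ∀ (j : S.X₁.presheaf.stalk ξ →ₗ[X.presheaf.stalk x] S.X₂.presheaf.stalk ξ)
        (r : S.X₂.presheaf.stalk ξ →ₗ[X.presheaf.stalk x] S.X₃.presheaf.stalk ξ),
        (∀ v, j v = CycLib.stalkLin S.f ξ v) → (∀ v, r v = CycLib.stalkLin S.g ξ v) →
        idxL h (spRange S.X₂ h) (flag S.X₂ ξ) = idxL h ((spRange S.X₂ h).comap j) (flag S.X₁ ξ) +
          idxL h ((spRange S.X₂ h).map r) (flag S.X₃ ξ) + Cyc.ordAt x ξ h g := by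
  obtain ⟨hi, he, hs⟩ := CycLib.stalk_shortExact hS h₁.1.1 h₂.1.1 h₃.1.1 ξ
  have hfg := (LinearMap.exact_iff.mp he).symm
  have hl : Module.length (X.presheaf.stalk ξ) (S.X₂.presheaf.stalk ξ) =
      (flagLen S.X₁ ξ + flagLen S.X₃ ξ : ℕ) := by
    rw [← flagLen_add hd hS h₁ h₂ h₃ hξ]
    exact length_eq_flagLen hd h₂ hξ
  have hF := IsFlag.glue (f := CycLib.stalkLin S.f ξ) hs hfg (isFlag_flag hd h₁ hξ) (isFlag_flag hd h₃ hξ)
    (length_eq_flagLen hd h₁ hξ) (length_eq_flagLen hd h₃ hξ) hl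
  obtain ⟨g, hg, hW⟩ := compare hl (length_eq_flagLen hd h₂ hξ) hF (isFlag_flag hd h₂ hξ)
  refine ⟨g, hg, fun x h hx => ?_⟩
  letI := stAlg h
  letI := stMod S.X₁ h; letI := stMod S.X₂ h; letI := stMod S.X₃ h
  haveI := stTower S.X₁ h; haveI := stTower S.X₂ h; haveI := stTower S.X₃ h
  intro j r hj hr
  obtain rfl : j = (CycLib.stalkLin S.f ξ).restrictScalars (X.presheaf.stalk x) := LinearMap.ext hj
  obtain rfl : r = (CycLib.stalkLin S.g ξ).restrictScalars (X.presheaf.stalk x) := LinearMap.ext hr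
  have hx1 : δ x + 1 = δ ξ := by rw [hx, hξ]
  have hL := isLat hd h₂ h ⟨le_rfl, fg_spRange hd h₂ h⟩
  have e := hW (fun _ e => idx (X.presheaf.stalk ξ) (spRange S.X₂ h) e)
    (idxWeight (isPlace hd h hx1) hl hL (fun u => Cyc.ordAt x ξ h u)
      (fun ha hb => CycLib.ordAt_mul hd h hx1 ha hb) fun a ha => ordAt_specMap hd h hx1 ha) rfl
  show idx (X.presheaf.stalk ξ) (spRange S.X₂ h) (flag S.X₂ ξ) = _
  rw [e, idx_glue hi hs hfg _ ((isFlag_flag hd h₁ hξ).span_eq_top (length_eq_flagLen hd h₁ hξ))]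
  rfl

theorem nu_add (g : (ξ : X) → X.residueField ξ)
    (hg : ∀ (ξ : X), δ ξ = k + 1 → Nontrivial (S.X₂.presheaf.stalk ξ) → ∀ (x : X) (h : ξ ⤳ x), δ x = k →
      letI := stMod S.X₁ h; letI := stMod S.X₂ h; letI := stMod S.X₃ h
      ∀ (j : S.X₁.presheaf.stalk ξ →ₗ[X.presheaf.stalk x] S.X₂.presheaf.stalk ξ)
        (r : S.X₂.presheaf.stalk ξ →ₗ[X.presheaf.stalk x] S.X₃.presheaf.stalk ξ),
        (∀ v, j v = CycLib.stalkLin S.f ξ v) → (∀ v, r v = CycLib.stalkLin S.g ξ v) →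
        idxL h (spRange S.X₂ h) (flag S.X₂ ξ) = idxL h ((spRange S.X₂ h).comap j) (flag S.X₁ ξ) +
          idxL h ((spRange S.X₂ h).map r) (flag S.X₃ ξ) + Cyc.ordAt x ξ h (g ξ))
    (x : X) (hx : δ x = k) (T : Finset (Gens δ k x))
    (hT : ∀ i, i ∈ T ↔ Nontrivial (S.X₂.presheaf.stalk i.1)) :
    nu δ k S.X₂ x = nu δ k S.X₁ x + nu δ k S.X₃ x + ∑ i ∈ T, Cyc.divFun δ i.1 (g i.1) x := by
  classical
  letI := gensMod δ k S.X₁ x; letI := gensMod δ k S.X₂ x; letI := gensMod δ k S.X₃ x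
  have hex : ∀ ξ, _ := fun ξ => CycLib.stalk_shortExact hS h₁.1.1 h₂.1.1 h₃.1.1 ξ
  let j : ∀ i : Gens δ k x, S.X₁.presheaf.stalk i.1 →ₗ[X.presheaf.stalk x] S.X₂.presheaf.stalk i.1 := fun i =>
    { toFun := CycLib.stalkLin S.f i.1
      map_add' := map_add _
      map_smul' := fun a v => LinearMap.map_smul (CycLib.stalkLin S.f i.1) _ v }
  let r : ∀ i : Gens δ k x, S.X₂.presheaf.stalk i.1 →ₗ[X.presheaf.stalk x] S.X₃.presheaf.stalk i.1 := fun i =>
    { toFun := CycLib.stalkLin S.g i.1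
      map_add' := map_add _
      map_smul' := fun a v => LinearMap.map_smul (CycLib.stalkLin S.g i.1) _ v }
  have hj : ∀ i, Function.Injective (j i) := fun i => (hex i.1).1
  have hjr : ∀ i, Function.Exact (j i) (r i) := fun i => (hex i.1).2.1
  let L : ∀ i : Gens δ k x, Submodule (X.presheaf.stalk x) (S.X₂.presheaf.stalk i.1) := fun i => spRange S.X₂ i.2.1
  have hLfg : ∀ i, (L i).FG := fun i => fg_spRange hd h₂ i.2.1
  have hB₁ : ∀ i : Gens δ k x, spRange S.X₁ i.2.1 ≤ (L i).comap (j i) := by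
    rintro i _ ⟨m, rfl⟩
    exact ⟨CycLib.stalkLin S.f x m, spLin_natural S.f i.2.1 m⟩
  have hfg₁ : ∀ i, ((L i).comap (j i)).FG := fun i => by
    refine Submodule.fg_of_fg_map_injective (j i) (hj i) (Submodule.FG.of_le (hLfg i) ?_)
    exact Submodule.map_comap_le _ _
  have hB₃ : ∀ i : Gens δ k x, spRange S.X₃ i.2.1 ≤ (L i).map (r i) := by
    rintro i _ ⟨m, rfl⟩
    obtain ⟨m', rfl⟩ := (hex x).2.2 m
    exact ⟨spLin S.X₂ i.2.1 m', ⟨m', rfl⟩, (spLin_natural S.g i.2.1 m').symm⟩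
  have hfg₃ : ∀ i, ((L i).map (r i)).FG := fun i => (hLfg i).map _
  have hT₁ : ∀ i : Gens δ k x, Nontrivial (S.X₁.presheaf.stalk i.1) → i ∈ T := fun i hn => by
    haveI := hn; exact (hT i).2 ((hj i).nontrivial)
  have hT₃ : ∀ i : Gens δ k x, Nontrivial (S.X₃.presheaf.stalk i.1) → i ∈ T := fun i hn => by
    haveI := hn; exact (hT i).2 ((hex i.1).2.2.nontrivial)
  rw [nu_eq hd h₁ hx T hT₁ _ hB₁ hfg₁, nu_eq hd h₃ hx T hT₃ _ hB₃ hfg₃,
    nu_eq hd h₂ hx T (fun i hn => (hT i).2 hn) L (fun _ => le_rfl) hLfg]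
  obtain ⟨J, P, hJ, hJP, hP, eJ, eP⟩ := exact_pi j r hj hjr L
  have hchi := chi_additive (f' := spPi δ k S.X₁ x _ hB₁) (f := spPi δ k S.X₂ x L fun _ => le_rfl)
    (f'' := spPi δ k S.X₃ x _ hB₃) (i := CycLib.stalkLin S.f x) (j := J) (p := CycLib.stalkLin S.g x) (r := P)
    (LinearMap.ext fun m => funext fun i => Subtype.ext ((spLin_natural S.f i.2.1 m).trans (eJ (spPi δ k S.X₁ x _ hB₁ m) i).symm))
    (LinearMap.ext fun m => funext fun i => Subtype.ext ((spLin_natural S.g i.2.1 m).trans (eP (spPi δ k S.X₂ x L (fun _ => le_rfl) m) i).symm))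
    (hex x).1 hJ (hex x).2.2 hP (hex x).2.1 hJP (finCoh_spPi hd h₁ hx _ hB₁ hfg₁)
    (finCoh_spPi hd h₃ hx _ hB₃ hfg₃)
  have hsum : ∀ i ∈ T, idxL i.2.1 (L i) (flag S.X₂ i.1) = idxL i.2.1 ((L i).comap (j i)) (flag S.X₁ i.1) +
      idxL i.2.1 ((L i).map (r i)) (flag S.X₃ i.1) + Cyc.divFun δ i.1 (g i.1) x := fun i hi => by
    rw [CycLib.divFun_eq δ _ i.2.1 (by rw [hx, i.2.2])]
    exact hg i.1 i.2.2 ((hT i).1 hi) x i.2.1 hx (j i) (r i) (fun _ => rfl) (fun _ => rfl)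
  rw [hchi, Finset.sum_congr rfl hsum, Finset.sum_add_distrib, Finset.sum_add_distrib]
  ring

omit h₂ in
theorem nu_of_ne {x : X} (hx : δ x ≠ k) (M : X.Modules) : nu δ k M x = 0 := if_neg hx

/-- The index cycle is additive modulo rational equivalence. -/
theorem zeroOn_nu :
    H23.RatOn.ZeroOn δ k Set.univ fun x => nu δ k S.X₂ x - nu δ k S.X₁ x - nu δ k S.X₃ x := by
  classical
  let I : Set X := {ξ | δ ξ = k + 1 ∧ Nontrivial (S.X₂.presheaf.stalk ξ)}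
  choose g hg0 hg using fun (ξ : X) (hξ : δ ξ = k + 1) => exists_scalar hd hS h₁ h₂ h₃ hξ
  let G : (ξ : X) → X.residueField ξ := fun ξ => if hξ : δ ξ = k + 1 then g ξ hξ else 1
  have hG : ∀ ξ (hξ : δ ξ = k + 1), G ξ = g ξ hξ := fun ξ hξ => dif_pos hξ
  refine ⟨↥I, fun i => i.1, fun i => G i.1, fun i => i.2.1, fun i => ?_, fun i => trivial, fun x => ?_, fun x => ?_⟩
  · show G i.1 ≠ 0
    rw [hG _ i.2.1]
    exact hg0 _ _
  · obtain ⟨U, hUo, hxU, hfin⟩ := locallyFinite_gens hd h₂ x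
    refine ⟨U, hUo, hxU, (hfin.preimage Subtype.val_injective.injOn).subset ?_⟩
    rintro i ⟨z, hz, hzU⟩
    exact ⟨(specializes_iff_mem_closure.2 hz).mem_open hUo hzU, i.2⟩
  · by_cases hx : δ x = k
    · let T : Finset (Gens δ k x) := (finite_gens hd h₂ x).toFinset
      have hT : ∀ i, i ∈ T ↔ Nontrivial (S.X₂.presheaf.stalk i.1) := fun i => Set.Finite.mem_toFinset _
      let em : {i // i ∈ T} ↪ ↥I := ⟨fun i => (⟨i.1.1, i.1.2.2, (hT i.1).1 i.2⟩ : ↥I),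
        fun a b hab => Subtype.ext (Subtype.ext (congrArg (fun i : ↥I => i.1) hab))⟩
      simp only []
      rw [nu_add hd hS h₁ h₂ h₃ G (fun ξ hξ _ => by rw [hG ξ hξ]; exact hg ξ hξ) x hx T hT,
        finsum_eq_sum_of_support_subset (s := T.attach.map em) _ ?_, Finset.sum_map,
        ← Finset.sum_attach T]
      · show _ = ∑ i ∈ T.attach, Cyc.divFun δ i.1.1 (G i.1.1) x
        ring
      · intro i hi
        have hix : i.1 ⤳ x := by
          by_contra hn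
          exact hi (CycLib.divFun_eq_zero_of_not_specializes δ _ hn)
        rw [Finset.coe_map, Set.mem_image]
        exact ⟨⟨⟨i.1, hix, i.2.1⟩, (hT _).2 i.2.2⟩, Finset.mem_attach _ _, rfl⟩
    · simp only [nu, if_neg hx]
      refine (finsum_eq_zero_of_forall_eq_zero fun i => CycLib.divFun_eq_zero_of_delta δ _ ?_).symm
      rw [i.2.1]
      omega

end Groth.Agent.Symb83
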