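import Groth.Agent.IntThLib.Lattice
import Mathlib.RingTheory.Support
import Groth.Agent.CycLib.FinLen

/-! Signed distances of commensurable submodules. -/

set_option autoImplicit false
set_option linter.style.haveILetI false

universe u

namespace Groth.Agent.Symb83

open IntThLib

variable {R : Type u} [CommRing R] {V W : Type u} [AddCommGroup V] [Module R V] [AddCommGroup W] [Module R W]

theorem relLen_sup_inf (B T : Submodule R V) : relLen R (B ⊔ T) T = relLen R B (B ⊓ T) :=
  ((Submodule.quotEquivOfEq _ _ (by rw [Submodule.submoduleOf, Submodule.comap_inf])).trans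
    (LinearMap.quotientInfEquivSupQuotient B T)).length_eq.symm

/-- A pair of nested submodules splits along any submodule. -/
theorem relLen_split {C A : Submodule R V} (h : C ≤ A) (F : Submodule R V) :
    relLen R A C = relLen R (A ⊓ F) (C ⊓ F) + relLen R (A ⊔ F) (C ⊔ F) := by
  have h1 : C ≤ C ⊔ (A ⊓ F) := le_sup_left
  have h2 : C ⊔ (A ⊓ F) ≤ A := sup_le h inf_le_left
  have e1 : relLen R (C ⊔ (A ⊓ F)) C = relLen R (A ⊓ F) (C ⊓ F) := by
    rw [sup_comm, relLen_sup_inf, show A ⊓ F ⊓ C = C ⊓ F by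
      rw [inf_comm (A ⊓ F), ← inf_assoc, inf_eq_left.mpr h]]
  have e2 : relLen R (A ⊔ F) (C ⊔ F) = relLen R A (C ⊔ (A ⊓ F)) := by
    rw [show A ⊔ F = A ⊔ (C ⊔ F) by rw [← sup_assoc, sup_eq_left.mpr h], relLen_sup_inf,
      show A ⊓ (C ⊔ F) = C ⊔ (A ⊓ F) by rw [inf_comm A (C ⊔ F), sup_inf_assoc_of_le F h, inf_comm A F]]
  rw [relLen_add h1 h2, e1, e2]

theorem relLen_mono {A A' C : Submodule R V} (h : A ≤ A') : relLen R A C ≤ relLen R A' C :=
  Module.length_le_of_injective (Submodule.mapQ (C.submoduleOf A) (C.submoduleOf A') (Submodule.inclusion h)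
    fun _ hx => hx) (by
    rw [injective_iff_map_eq_zero]
    intro a
    induction a using Submodule.Quotient.induction_on with
    | _ a =>
      intro ha
      change Submodule.Quotient.mk (Submodule.inclusion h a) = 0 at ha
      rw [Submodule.Quotient.mk_eq_zero] at ha ⊢
      exact ha)

theorem relLen_comap {g : V →ₗ[R] W} (hg : Function.Surjective g) (A B : Submodule R W) :
    relLen R (A.comap g) (B.comap g) = relLen R A B := by
  let f : ↥(A.comap g) →ₗ[R] ↥A ⧸ B.submoduleOf A :=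
    (B.submoduleOf A).mkQ ∘ₗ g.restrict fun v hv => hv
  have hf : Function.Surjective f := fun z => by
    obtain ⟨⟨w, hw⟩, rfl⟩ := Submodule.mkQ_surjective _ z
    obtain ⟨v, rfl⟩ := hg w
    exact ⟨⟨v, hw⟩, rfl⟩
  have hk : LinearMap.ker f = (B.comap g).submoduleOf (A.comap g) := by
    ext v
    simp only [f, LinearMap.mem_ker, LinearMap.comp_apply, Submodule.mkQ_apply, Submodule.Quotient.mk_eq_zero]
    rfl
  exact ((Submodule.quotEquivOfEq _ _ hk.symm).trans (f.quotKerEquivOfSurjective hf)).length_eq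

theorem dist_map' {g : V →ₗ[R] W} (hg : Function.Injective g) (A B : Submodule R V) :
    dist (A.map g) (B.map g) = dist A B := by
  rw [IntThLib.dist, IntThLib.dist, ← Submodule.map_inf g hg]
  have e : ∀ M N : Submodule R V, relLen R (M.map g) (N.map g) = relLen R M N := fun M N => by
    symm
    refine LinearEquiv.length_eq (Submodule.Quotient.equiv _ _ (Submodule.equivMapOfInjective g hg M) ?_)
    ext ⟨y, hy⟩
    simp only [Submodule.mem_map, Submodule.submoduleOf, Submodule.mem_comap, Submodule.subtype_apply]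
    constructor
    · rintro ⟨x, hx, hxy⟩
      exact ⟨x, hx, congrArg Subtype.val hxy⟩
    · rintro ⟨x, hx, hxy⟩
      obtain ⟨m, hm, rfl⟩ := hy
      have : x = m := hg hxy
      exact ⟨⟨m, hm⟩, this ▸ hx, rfl⟩
  rw [e, e]

theorem dist_comap {g : V →ₗ[R] W} (hg : Function.Surjective g) (A B : Submodule R W) :
    dist (A.comap g) (B.comap g) = dist A B := by
  rw [IntThLib.dist, IntThLib.dist, ← Submodule.comap_inf, relLen_comap hg, relLen_comap hg]

theorem dist_symm (A B : Submodule R V) : dist A B = - dist B A := by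
  rw [IntThLib.dist, IntThLib.dist, inf_comm]; ring

theorem dist_refl (A : Submodule R V) : dist A A = 0 := by
  simp [IntThLib.dist, relLen_self]

/-- Two submodules are commensurable. -/
def Near (A B : Submodule R V) : Prop :=
  ∃ C, C ≤ A ∧ C ≤ B ∧ relLen R A C ≠ ⊤ ∧ relLen R B C ≠ ⊤

theorem Near.refl (A : Submodule R V) : Near A A := ⟨A, le_rfl, le_rfl, by simp [relLen_self], by simp [relLen_self]⟩

theorem Near.symm {A B : Submodule R V} (h : Near A B) : Near B A := by
  obtain ⟨C, h1, h2, h3, h4⟩ := h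
  exact ⟨C, h2, h1, h4, h3⟩

theorem Near.of_le {A B : Submodule R V} (h : B ≤ A) (hf : relLen R A B ≠ ⊤) : Near A B :=
  ⟨B, h, le_rfl, hf, by simp [relLen_self]⟩

theorem Near.inf_common {B C C' : Submodule R V} (hC : C ≤ B) (hC' : C' ≤ B) (f : relLen R B C ≠ ⊤)
    (f' : relLen R B C' ≠ ⊤) : relLen R B (C ⊓ C') ≠ ⊤ := by
  rw [relLen_add inf_le_left hC, ← relLen_sup_inf]
  exact WithTop.add_ne_top.mpr ⟨ne_top_of_le_ne_top f' (relLen_mono (sup_le hC hC')), f⟩

theorem Near.exists_common {A B C : Submodule R V} (h : Near A B) (h' : Near B C) :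
    ∃ D, D ≤ A ∧ D ≤ B ∧ D ≤ C ∧ relLen R A D ≠ ⊤ ∧ relLen R B D ≠ ⊤ ∧ relLen R C D ≠ ⊤ := by
  obtain ⟨D, a1, a2, a3, a4⟩ := h
  obtain ⟨E, b1, b2, b3, b4⟩ := h'
  have hB := Near.inf_common a2 b1 a4 b3
  have key : ∀ {M G : Submodule R V}, G ≤ M → D ⊓ E ≤ G → relLen R M G ≠ ⊤ → G ≤ B →
      relLen R M (D ⊓ E) ≠ ⊤ := fun {M G} hG hle hf hGB => by
    rw [relLen_add hle hG]
    exact WithTop.add_ne_top.mpr ⟨ne_top_of_le_ne_top hB (relLen_mono hGB), hf⟩
  exact ⟨D ⊓ E, inf_le_left.trans a1, inf_le_left.trans a2, inf_le_right.trans b2,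
    key a1 inf_le_left a3 a2, hB, key b2 inf_le_right b4 b1⟩

theorem Near.trans {A B C : Submodule R V} (h : Near A B) (h' : Near B C) : Near A C := by
  obtain ⟨D, a, -, c, fa, -, fc⟩ := h.exists_common h'
  exact ⟨D, a, c, fa, fc⟩

theorem dist_trans {A B C : Submodule R V} (h : Near A B) (h' : Near B C) :
    dist A C = dist A B + dist B C := by
  obtain ⟨D, a, b, c, fa, fb, fc⟩ := h.exists_common h'
  rw [dist_eq a c fa fc, dist_eq a b fa fb, dist_eq b c fb fc]
  ring

theorem Near.inf_sup {A B : Submodule R V} (h : Near A B) (F : Submodule R V) :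
    Near (A ⊓ F) (B ⊓ F) ∧ Near (A ⊔ F) (B ⊔ F) := by
  obtain ⟨C, a, b, fa, fb⟩ := h
  rw [relLen_split a F] at fa
  rw [relLen_split b F] at fb
  obtain ⟨fa1, fa2⟩ := WithTop.add_ne_top.mp fa
  obtain ⟨fb1, fb2⟩ := WithTop.add_ne_top.mp fb
  exact ⟨⟨C ⊓ F, inf_le_inf_right F a, inf_le_inf_right F b, fa1, fb1⟩,
    ⟨C ⊔ F, sup_le_sup_right a F, sup_le_sup_right b F, fa2, fb2⟩⟩

/-- The signed distance splits along any submodule. -/
theorem dist_split {A B : Submodule R V} (h : Near A B) (F : Submodule R V) :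
    dist A B = dist (A ⊓ F) (B ⊓ F) + dist (A ⊔ F) (B ⊔ F) := by
  obtain ⟨C, a, b, fa, fb⟩ := h
  have ea := relLen_split a F
  have eb := relLen_split b F
  obtain ⟨fa1, fa2⟩ := WithTop.add_ne_top.mp (ea ▸ fa)
  obtain ⟨fb1, fb2⟩ := WithTop.add_ne_top.mp (eb ▸ fb)
  rw [dist_eq a b fa fb, dist_eq (inf_le_inf_right F a) (inf_le_inf_right F b) fa1 fb1,
    dist_eq (sup_le_sup_right a F) (sup_le_sup_right b F) fa2 fb2, ea, eb, ENat.toNat_add fa1 fa2,
    ENat.toNat_add fb1 fb2]
  push_cast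
  ring

section Local

variable [IsNoetherianRing R] [IsLocalRing R]

/-- A finite module vanishing outside the closed point has finite length. -/
theorem length_ne_top_of_loc {N : Type u} [AddCommGroup N] [Module R N] [Module.Finite R N]
    (h : ∀ P : PrimeSpectrum R, P ≠ IsLocalRing.closedPoint R → ∀ n : N, ∃ s, s ∉ P.asIdeal ∧ s • n = 0) :
    Module.length R N ≠ ⊤ := by
  refine CycLib.length_ne_top_of_support fun P hP => ?_
  by_contra hne
  obtain ⟨n, hn⟩ := Module.mem_support_iff'.1 hP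
  obtain ⟨s, hs, h0⟩ := h P hne n
  exact hn s hs h0

theorem relLen_ne_top_of_loc {A C G : Submodule R V} (hAG : A ≤ C ⊔ G) (hG : G.FG)
    (h : ∀ P : PrimeSpectrum R, P ≠ IsLocalRing.closedPoint R → ∀ g ∈ G, ∃ s, s ∉ P.asIdeal ∧ s • g ∈ C) :
    relLen R A C ≠ ⊤ := by
  refine ne_top_of_le_ne_top ?_ (relLen_mono hAG)
  rw [sup_comm, relLen_sup_inf]
  haveI : Module.Finite R ↥G := Module.Finite.iff_fg.mpr hG
  refine length_ne_top_of_loc fun P hP n => ?_
  induction n using Submodule.Quotient.induction_on with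
  | _ n =>
    obtain ⟨s, hs, hsn⟩ := h P hP n n.2
    exact ⟨s, hs, (Submodule.Quotient.mk_eq_zero _).mpr ⟨G.smul_mem s n.2, hsn⟩⟩

end Local

end Groth.Agent.Symb83
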