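import Groth.Agent.CycLib.Periodic
import Groth.Agent.Symb83.Lat
import Mathlib.LinearAlgebra.Pi
import Mathlib.RingTheory.Finiteness.Basic

/-! The Euler characteristic of a map. -/

set_option autoImplicit false
set_option linter.style.haveILetI false
set_option linter.unusedSectionVars false

universe u

namespace Groth.Agent.Symb83

open CycAlg
open IntThLib (relLen)

variable {R : Type u} [CommRing R] {M N M' N' M'' N'' : Type u} [AddCommGroup M] [Module R M] [AddCommGroup N]
  [Module R N] [AddCommGroup M'] [Module R M'] [AddCommGroup N'] [Module R N'] [AddCommGroup M''] [Module R M'']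
  [AddCommGroup N''] [Module R N'']

/-- Length of kernel minus length of cokernel. -/
noncomputable abbrev chi (f : M →ₗ[R] N) : ℤ := herbrand R f (0 : N →ₗ[R] M)

theorem periodic_zero (f : M →ₗ[R] N) : IsPeriodic f (0 : N →ₗ[R] M) :=
  ⟨LinearMap.comp_zero _, LinearMap.zero_comp _⟩

theorem chi_additive {f' : M' →ₗ[R] N'} {f : M →ₗ[R] N} {f'' : M'' →ₗ[R] N''} {i : M' →ₗ[R] M} {j : N' →ₗ[R] N}
    {p : M →ₗ[R] M''} {r : N →ₗ[R] N''} (c₁ : f ∘ₗ i = j ∘ₗ f') (c₂ : f'' ∘ₗ p = r ∘ₗ f)
    (hi : Function.Injective i) (hj : Function.Injective j) (hp : Function.Surjective p)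
    (hr : Function.Surjective r) (hM : Function.Exact i p) (hN : Function.Exact j r)
    (h' : FinCoh R f' 0) (h'' : FinCoh R f'' 0) : chi f = chi f' + chi f'' :=
  (CycLib.Periodic.additive c₁ (by simp) c₂ (by simp) (periodic_zero f) hi hj hp hr
    (LinearMap.exact_iff.mp hM).symm (LinearMap.exact_iff.mp hN).symm (Or.inr (Or.inl ⟨h', h''⟩))).2.2.2

theorem finCoh_of_loc [IsLocalRing R] [IsNoetherianRing R] [Module.Finite R M] [Module.Finite R N] {f : M →ₗ[R] N}
    (hk : ∀ P : PrimeSpectrum R, P ≠ IsLocalRing.closedPoint R → ∀ m, f m = 0 → ∃ s, s ∉ P.asIdeal ∧ s • m = 0)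
    (hc : ∀ P : PrimeSpectrum R, P ≠ IsLocalRing.closedPoint R → ∀ n, ∃ s, s ∉ P.asIdeal ∧ s • n ∈ LinearMap.range f) :
    FinCoh R f 0 := by
  refine ⟨lt_top_iff_ne_top.mpr (length_ne_top_of_loc fun P hP n => ?_),
    lt_top_iff_ne_top.mpr (length_ne_top_of_loc fun P hP n => ?_)⟩
  · induction n using Submodule.Quotient.induction_on with
    | _ n =>
      obtain ⟨s, hs, h0⟩ := hk P hP n.1 n.2
      refine ⟨s, hs, ?_⟩
      rw [← Submodule.Quotient.mk_smul, show s • n = 0 from Subtype.ext h0, Submodule.Quotient.mk_zero]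
  · induction n using Submodule.Quotient.induction_on with
    | _ n =>
      obtain ⟨s, hs, h0⟩ := hc P hP n.1
      exact ⟨s, hs, (Submodule.Quotient.mk_eq_zero _).mpr h0⟩

/-- Composing with an injection adds minus the length of its cokernel. -/
theorem chi_comp {f : M →ₗ[R] N} {g : N →ₗ[R] N'} (hg : Function.Injective g) (hf : FinCoh R f 0)
    (hc : Module.length R (N' ⧸ LinearMap.range g) ≠ ⊤) :
    chi f = chi (g ∘ₗ f) + ((Module.length R (N' ⧸ LinearMap.range g)).toNat : ℤ) := by
  have h0 : Module.length R (LinearMap.ker (LinearMap.id : M →ₗ[R] M)) = 0 := by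
    rw [LinearMap.ker_id, Module.length_bot]
  have h1 : Module.length R (LinearMap.ker g) = 0 := by
    rw [LinearMap.ker_eq_bot.mpr hg, Module.length_bot]
  have h2 : Module.length R (M ⧸ LinearMap.range (LinearMap.id : M →ₗ[R] M)) = 0 := by
    rw [Module.length_eq_zero_iff, Submodule.Quotient.subsingleton_iff, LinearMap.range_id]
  have := (CycLib.Periodic.eq_of_ker_coker (periodic_zero f) (periodic_zero (g ∘ₗ f))
    (f := (LinearMap.id : M →ₗ[R] M)) (g := g) (by simp) (by simp) hf (by rw [h0]; exact ENat.top_pos)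
    (by rw [h1]; exact ENat.top_pos) (by rw [h2]; exact ENat.top_pos) (lt_top_iff_ne_top.mpr hc)).2
  rw [h0, h1, h2] at this
  simp only [ENat.toNat_zero, Nat.cast_zero, sub_zero, zero_sub] at this
  rw [chi, chi]
  linarith

theorem chi_of_subsingleton [Subsingleton N] (f : M →ₗ[R] N) :
    chi f = ((Module.length R M).toNat : ℤ) := by
  have hf : f = 0 := LinearMap.ext fun m => Subsingleton.elim _ _
  have e1 : Module.length R (perH f (0 : N →ₗ[R] M)) = Module.length R M := by
    refine LinearEquiv.length_eq ((Submodule.quotEquivOfEqBot _ ?_).trans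
      ((LinearEquiv.ofEq _ _ (by rw [hf, LinearMap.ker_zero])).trans Submodule.topEquiv))
    rw [LinearMap.range_zero, Submodule.submoduleOf, Submodule.comap_bot, Submodule.ker_subtype]
  have e2 : Module.length R (perH (0 : N →ₗ[R] M) f) = 0 := Module.length_eq_zero_iff.mpr inferInstance
  rw [chi, herbrand, e1, e2]
  simp

section Pi

variable {ι : Type u} {V : ι → Type u} [∀ i, AddCommGroup (V i)] [∀ i, Module R (V i)]

/-- The map into a product of submodules. -/
noncomputable def toPi (f : ∀ i, M →ₗ[R] V i) (B : ∀ i, Submodule R (V i)) (h : ∀ i m, f i m ∈ B i) :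
    M →ₗ[R] ∀ i, ↥(B i) :=
  LinearMap.pi fun i => (f i).codRestrict (B i) (h i)

/-- The inclusion of products of submodules. -/
noncomputable def piIncl {B B' : ∀ i, Submodule R (V i)} (h : ∀ i, B i ≤ B' i) :
    (∀ i, ↥(B i)) →ₗ[R] ∀ i, ↥(B' i) :=
  LinearMap.pi fun i => Submodule.inclusion (h i) ∘ₗ LinearMap.proj i

variable (R) in
/-- A product with almost all factors trivial is a finite product. -/
noncomputable def piFiniteEquiv {W : ι → Type u} [∀ i, AddCommGroup (W i)] [∀ i, Module R (W i)] (T : Set ι)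
    (hT : ∀ i, i ∉ T → Subsingleton (W i)) : (∀ i, W i) ≃ₗ[R] ∀ i : ↥T, W i :=
  LinearEquiv.ofBijective (LinearMap.pi fun i : ↥T => LinearMap.proj (i : ι)) (by
    classical
    refine ⟨fun a b h => funext fun i => ?_, fun y => ⟨fun i => if h : i ∈ T then y ⟨i, h⟩ else 0, ?_⟩⟩
    · by_cases hi : i ∈ T
      · exact congrFun h ⟨i, hi⟩
      · haveI := hT i hi
        exact Subsingleton.elim _ _
    · funext i
      simp [LinearMap.pi_apply, i.2])

theorem finite_pi {T : Set ι} (hfin : T.Finite) (hT : ∀ i, i ∉ T → Subsingleton (V i))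
    {B : ∀ i, Submodule R (V i)} (hB : ∀ i, (B i).FG) : Module.Finite R (∀ i, ↥(B i)) := by
  haveI := hfin.to_subtype
  haveI : ∀ i : ↥T, Module.Finite R ↥(B i) := fun i => Module.Finite.iff_fg.mpr (hB i)
  exact Module.Finite.equiv (piFiniteEquiv R (W := fun i => ↥(B i)) T
    fun i hi => haveI := hT i hi; inferInstance).symm

theorem length_coker_piIncl {T : Set ι} (hfin : T.Finite) (hT : ∀ i, i ∉ T → Subsingleton (V i))
    {B B' : ∀ i, Submodule R (V i)} (h : ∀ i, B i ≤ B' i) :
    Module.length R ((∀ i, ↥(B' i)) ⧸ LinearMap.range (piIncl h)) =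
      ∑ i ∈ hfin.toFinset, relLen R (B' i) (B i) := by
  let q : (∀ i, ↥(B' i)) →ₗ[R] ∀ i, ↥(B' i) ⧸ (B i).submoduleOf (B' i) :=
    LinearMap.pi fun i => ((B i).submoduleOf (B' i)).mkQ ∘ₗ LinearMap.proj i
  have hq : Function.Surjective q := fun z => by
    choose y hy using fun i => Submodule.mkQ_surjective _ (z i)
    exact ⟨y, funext hy⟩
  have hk : LinearMap.ker q = LinearMap.range (piIncl h) := by
    ext y
    simp only [q, LinearMap.mem_ker, funext_iff, LinearMap.pi_apply, LinearMap.comp_apply, LinearMap.proj_apply,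
      Pi.zero_apply, Submodule.mkQ_apply, Submodule.Quotient.mk_eq_zero, LinearMap.mem_range]
    exact ⟨fun hy => ⟨fun i => ⟨y i, hy i⟩, fun i => Subtype.ext rfl⟩,
      fun ⟨x, hx⟩ i => by rw [← hx i]; exact (x i).2⟩
  haveI : Fintype ↥T := hfin.fintype
  rw [((Submodule.quotEquivOfEq _ _ hk.symm).trans (q.quotKerEquivOfSurjective hq)).length_eq,
    (piFiniteEquiv R T fun i hi => haveI := hT i hi; inferInstance).length_eq, Module.length_pi_of_fintype,
    Finset.sum_subtype hfin.toFinset (fun i => hfin.mem_toFinset) (fun i => relLen R (B' i) (B i))]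
  rfl

/-- Exactness of products of submodules. -/
theorem exact_pi {V' V'' : ι → Type u} [∀ i, AddCommGroup (V' i)] [∀ i, Module R (V' i)]
    [∀ i, AddCommGroup (V'' i)] [∀ i, Module R (V'' i)] (j : ∀ i, V' i →ₗ[R] V i) (r : ∀ i, V i →ₗ[R] V'' i)
    (hj : ∀ i, Function.Injective (j i)) (he : ∀ i, Function.Exact (j i) (r i)) (B : ∀ i, Submodule R (V i)) :
    ∃ (J : (∀ i, ↥((B i).comap (j i))) →ₗ[R] ∀ i, ↥(B i)) (P : (∀ i, ↥(B i)) →ₗ[R] ∀ i, ↥((B i).map (r i))),
      Function.Injective J ∧ Function.Exact J P ∧ Function.Surjective P ∧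
      (∀ x i, (J x i : V i) = j i (x i)) ∧ ∀ y i, (P y i : V'' i) = r i (y i) := by
  refine ⟨LinearMap.pi fun i => (j i).restrict (fun x hx => hx) ∘ₗ LinearMap.proj i,
    LinearMap.pi fun i => (r i).restrict (fun x hx => Submodule.mem_map_of_mem hx) ∘ₗ LinearMap.proj i,
    fun a b h => funext fun i => Subtype.ext (hj i (congrArg Subtype.val (congrFun h i) :)), fun y => ?_,
    fun z => ?_, fun _ _ => rfl, fun _ _ => rfl⟩
  · constructor
    · intro hy
      choose w hw using fun i => (he i _).mp (congrArg Subtype.val (congrFun hy i) :)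
      exact ⟨fun i => ⟨w i, show j i (w i) ∈ B i from (hw i).symm ▸ (y i).2⟩, funext fun i => Subtype.ext (hw i)⟩
    · rintro ⟨w, rfl⟩
      exact funext fun i => Subtype.ext ((he i _).mpr ⟨w i, rfl⟩)
  · choose y hy hyz using fun i => Submodule.mem_map.mp (z i).2
    exact ⟨fun i => ⟨y i, hy i⟩, funext fun i => Subtype.ext (hyz i)⟩

end Pi

end Groth.Agent.Symb83
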