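import Groth.Agent.Symb83.PtSheaf
import Groth.Agent.Symb83.Stalks

/-! The stalks of the structure sheaf of the closure of a point, and lengths of twisted quotients. -/

set_option autoImplicit false
set_option linter.style.haveILetI false
set_option linter.unusedSectionVars false
set_option backward.isDefEq.respectTransparency false
set_option backward.isDefEq.respectTransparency.types false

universe u

open CategoryTheory CategoryTheory.Limits AlgebraicGeometry TopologicalSpace Opposite

namespace Groth.Agent.Symb83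

open IntThLib IsLocalRing

section Algebra

variable {S O : Type u} [CommRing S] [AddCommGroup O] [Module S O]

theorem relLen_top (P : Submodule S O) : relLen S ⊤ P = Module.length S (O ⧸ P) := by
  refine LinearEquiv.length_eq (Submodule.Quotient.equiv _ _ Submodule.topEquiv ?_)
  ext v
  constructor
  · rintro ⟨w, hw, rfl⟩
    exact hw
  · exact fun hv => ⟨⟨v, trivial⟩, hv, rfl⟩

/-- The quotient of a cyclic module by a multiple. -/
theorem relLen_smul_top {g : O} (hg : Submodule.span S {g} = ⊤) {q : Ideal S}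
    (hq : ∀ r : S, r • g = 0 ↔ r ∈ q) (a : S) :
    relLen S ⊤ ((⊤ : Submodule S O).map (DistribSMul.toLinearMap S O a)) =
      Ring.ord (S ⧸ q) (Ideal.Quotient.mk q a) := by
  rw [relLen_top, Ring.ord, ← Module.length_eq_of_surjective (S := S) (R := S ⧸ q) Ideal.Quotient.mk_surjective]
  have hs : Function.Surjective (LinearMap.toSpanSingleton S O g) := fun v => by
    obtain ⟨r, hr⟩ := Submodule.mem_span_singleton.1 (hg.ge (trivial : v ∈ (⊤ : Submodule S O)))
    exact ⟨r, hr⟩
  let e : (S ⧸ q) ≃ₗ[S] O := (Submodule.quotEquivOfEq _ _ (Ideal.ext fun r => (hq r).symm.trans (by rw [LinearMap.mem_ker]; rfl) :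
    q = LinearMap.ker (LinearMap.toSpanSingleton S O g))).trans
    ((LinearMap.toSpanSingleton S O g).quotKerEquivOfSurjective hs)
  symm
  refine LinearEquiv.length_eq
    ((Submodule.Quotient.restrictScalarsEquiv S (Ideal.span {Ideal.Quotient.mk q a})).symm.trans
      (Submodule.Quotient.equiv _ _ e ?_))
  ext v
  simp only [Submodule.mem_map, Submodule.restrictScalars_mem, Ideal.mem_span_singleton', Submodule.mem_top,
    true_and, DistribSMul.toLinearMap_apply]
  constructor
  · rintro ⟨_, ⟨r, rfl⟩, rfl⟩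
    exact ⟨e r, by rw [← map_smul, Algebra.smul_def, mul_comm]; rfl⟩
  · rintro ⟨w, rfl⟩
    refine ⟨a • e.symm w, ⟨e.symm w, by rw [Algebra.smul_def, mul_comm]; rfl⟩, ?_⟩
    show e (a • e.symm w) = a • w
    rw [map_smul, e.apply_symm_apply]

/-- Comparison of two submodules with proportional multiples. -/
theorem length_quot_sub {a b : S} (ha : Function.Injective (DistribSMul.toLinearMap S O a))
    (hb : Function.Injective (DistribSMul.toLinearMap S O b)) {P P' : Submodule S O}
    (h : P.map (DistribSMul.toLinearMap S O a) = P'.map (DistribSMul.toLinearMap S O b))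
    (hbP : (⊤ : Submodule S O).map (DistribSMul.toLinearMap S O b) ≤ P)
    (haP : (⊤ : Submodule S O).map (DistribSMul.toLinearMap S O a) ≤ P')
    {m n : ℕ} (hm : relLen S ⊤ ((⊤ : Submodule S O).map (DistribSMul.toLinearMap S O a)) = m)
    (hn : relLen S ⊤ ((⊤ : Submodule S O).map (DistribSMul.toLinearMap S O b)) = n) :
    ∃ p p' : ℕ, Module.length S (O ⧸ P) = p ∧ Module.length S (O ⧸ P') = p' ∧ (p' : ℤ) - p = (m : ℤ) - n := by
  have hP : relLen S ⊤ P ≠ ⊤ := fun h' => by
    have := relLen_add hbP le_top (A := S)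
    rw [hn, h', add_top] at this
    exact ENat.natCast_ne_top n this
  have hP' : relLen S ⊤ P' ≠ ⊤ := fun h' => by
    have := relLen_add haP le_top (A := S)
    rw [hm, h', add_top] at this
    exact ENat.natCast_ne_top m this
  obtain ⟨p, hp⟩ := ENat.ne_top_iff_exists.1 hP
  obtain ⟨p', hp'⟩ := ENat.ne_top_iff_exists.1 hP'
  have e1 := relLen_add (A := S) (Submodule.map_mono (f := DistribSMul.toLinearMap S O a) (le_top (a := P))) le_top
  have e2 := relLen_add (A := S) (Submodule.map_mono (f := DistribSMul.toLinearMap S O b) (le_top (a := P'))) le_top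
  rw [relLen_map _ ha, hm, ← hp] at e1
  rw [relLen_map _ hb, hn, ← hp'] at e2
  rw [h, e2] at e1
  refine ⟨p, p', ((relLen_top P).symm.trans hp.symm), ((relLen_top P').symm.trans hp'.symm), ?_⟩
  have e3 : p' + n = p + m := by exact_mod_cast e1
  omega

theorem smul_eq_zero_of_length_one {R M : Type u} [CommRing R] [IsLocalRing R] [AddCommGroup M] [Module R M]
    (h1 : Module.length R M = 1) {r : R} (hr : r ∈ maximalIdeal R) (v : M) : r • v = 0 := by
  haveI : IsSimpleModule R M := Module.length_eq_one_iff.1 h1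
  rcases eq_or_ne v 0 with rfl | hv
  · exact smul_zero r
  by_contra hrv
  obtain ⟨c, hc⟩ := IsSimpleModule.toSpanSingleton_surjective R hrv v
  simp only [LinearMap.toSpanSingleton_apply, smul_smul] at hc
  have hu : IsUnit (1 - c * r) :=
    isUnit_one_sub_self_of_mem_nonunits _ ((mem_maximalIdeal _).mp (Ideal.mul_mem_left _ c hr))
  exact hv (hu.smul_eq_zero.1 (by rw [sub_smul, one_smul, hc, sub_self]))

end Algebra

variable {X : Scheme.{u}}

theorem closure_generic (x : X) [IsIntegral (IntMult.ptIdeal x).subscheme] :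
    (IntMult.ptIdeal x).subschemeι (genericPoint _) = x := by
  have hr : closure ({(IntMult.ptIdeal x).subschemeι (genericPoint _)} : Set X) = closure {x} := by
    rw [← QCoh.range_eq_closure]
    exact H23.RedSub.range_vanishingIdeal _
  exact ((specializes_iff_mem_closure.2 (hr.ge (subset_closure rfl))).antisymm
      (specializes_iff_mem_closure.2 (hr.le (subset_closure rfl)))).eq

variable [IsLocallyNoetherian X]

theorem closureSheaf_inj {x y : X} (h : x ⤳ y) {m : (Cyc.closureStructureSheaf x).presheaf.stalk y}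
    (hm : spLin (Cyc.closureStructureSheaf x) h m = 0) : m = 0 := by
  haveI : IsIntegral (IntMult.ptIdeal x).subscheme := QCoh.isIntegral_closure_point x
  set i := (IntMult.ptIdeal x).subschemeι
  obtain ⟨U, hU, hy, n, rfl⟩ := CycLib.exists_germ_affine (Cyc.closureStructureSheaf x) m
  have hx : x ∈ U := h.mem_open U.isOpen hy
  have h0 : (Cyc.closureStructureSheaf x).presheaf.germ U x hx n = 0 :=
    (TopCat.Presheaf.germ_stalkSpecializes_apply (Cyc.closureStructureSheaf x).presheaf hy h n).symm.trans hm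
  obtain ⟨f, hf, hfn⟩ := (QCoh.germ_eq_zero_iff (isCoh_closureSheaf x).1 hU hx n).1 h0
  haveI : Nonempty (i ⁻¹ᵁ U) := ⟨⟨genericPoint _, by show i (genericPoint _) ∈ U; rw [closure_generic]; exact hx⟩⟩
  have hne : i.app U f ≠ 0 := by
    rw [QCoh.ne_zero_iff_mem_basicOpen, ← Scheme.preimage_basicOpen]
    show i (genericPoint _) ∈ X.basicOpen f
    rw [closure_generic]
    exact hf
  have hz : (i.app U f) * (show Γ((IntMult.ptIdeal x).subscheme, i ⁻¹ᵁ U) from n) = 0 :=
    (QCoh.pushforward_smul i U f _).symm.trans hfn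
  rw [show n = 0 from (mul_eq_zero.1 hz).resolve_left hne, map_zero]

theorem closureSheaf_gen (x y : X) :
    ∃ e : (Cyc.closureStructureSheaf x).presheaf.stalk y, Submodule.span (X.presheaf.stalk y) {e} = ⊤ := by
  set i := (IntMult.ptIdeal x).subschemeι
  set M := Cyc.closureStructureSheaf x
  obtain ⟨U, hU, hξU⟩ := QCoh.exists_affine_mem y
  set e : M.presheaf.stalk y := M.presheaf.germ U y hξU (1 : Γ((IntMult.ptIdeal x).subscheme, i ⁻¹ᵁ U))
  refine ⟨e, eq_top_iff.2 fun t _ => ?_⟩
  obtain ⟨V, hV, hξV, m, rfl⟩ := CycLib.exists_germ_affine M t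
  obtain ⟨_, ⟨W, hW, rfl⟩, hξW, hle⟩ :=
    X.isBasis_affineOpens.exists_subset_of_mem_open (show y ∈ U ⊓ V from ⟨hξU, hξV⟩) (U ⊓ V).isOpen
  have hWU : W ≤ U := fun a ha => (hle ha).1
  have hWV : W ≤ V := fun a ha => (hle ha).2
  set m' : Γ(M, W) := M.presheaf.map (homOfLE hWV).op m
  obtain ⟨r, hr⟩ := i.app_surjective W hW (show Γ((IntMult.ptIdeal x).subscheme, i ⁻¹ᵁ W) from m')
  refine Submodule.mem_span_singleton.2 ⟨X.presheaf.germ W y hξW r, ?_⟩
  rw [show e = M.presheaf.germ W y hξW (M.presheaf.map (homOfLE hWU).op (1 : Γ((IntMult.ptIdeal x).subscheme, i ⁻¹ᵁ U))) from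
      (TopCat.Presheaf.germ_res_apply (F := M.presheaf) (homOfLE hWU) y hξW _).symm,
    ← QCoh.germ_smul']
  refine Eq.trans (congrArg _ ?_) (TopCat.Presheaf.germ_res_apply (F := M.presheaf) (homOfLE hWV) y hξW m)
  refine (QCoh.pushforward_smul i W r _).trans ?_
  have h1 : (show Γ((IntMult.ptIdeal x).subscheme, i ⁻¹ᵁ W) from
      M.presheaf.map (homOfLE hWU).op (1 : Γ((IntMult.ptIdeal x).subscheme, i ⁻¹ᵁ U))) = 1 :=
    map_one ((IntMult.ptIdeal x).subscheme.presheaf.map ((Opens.map i.base).map (homOfLE hWU)).op).hom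
  exact (congrArg (fun a : Γ((IntMult.ptIdeal x).subscheme, i ⁻¹ᵁ W) => (i.app W r) * a) h1).trans
    ((mul_one _).trans hr)

/-- The annihilator at a specialisation is the prime of the point. -/
theorem closureSheaf_ann {x y : X} (h : x ⤳ y) {e : (Cyc.closureStructureSheaf x).presheaf.stalk y}
    (he : Submodule.span (X.presheaf.stalk y) {e} = ⊤) (r : X.presheaf.stalk y) :
    r • e = 0 ↔ r ∈ (CDiv6.primeOf h).asIdeal := by
  letI := stMod (Cyc.closureStructureSheaf x) h
  have h1 := length_closureSheaf_self x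
  haveI : IsSimpleModule (X.presheaf.stalk x) ((Cyc.closureStructureSheaf x).presheaf.stalk x) :=
    Module.length_eq_one_iff.1 h1
  haveI := IsSimpleModule.nontrivial (X.presheaf.stalk x) ((Cyc.closureStructureSheaf x).presheaf.stalk x)
  obtain ⟨v, hv⟩ := exists_ne (0 : (Cyc.closureStructureSheaf x).presheaf.stalk x)
  have hsp : ∀ (r : X.presheaf.stalk y) (m : (Cyc.closureStructureSheaf x).presheaf.stalk y),
      spLin _ h (r • m) = X.presheaf.stalkSpecializes h r • spLin _ h m :=
    fun r m => (spLin (Cyc.closureStructureSheaf x) h).map_smul r m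
  have hne : spLin _ h e ≠ 0 := fun h0 => by
    obtain ⟨s, m, hs, hm⟩ := exists_spLin_eq (isCoh_closureSheaf x).1 h v
    have hm' : m ∈ (⊤ : Submodule (X.presheaf.stalk y) ((Cyc.closureStructureSheaf x).presheaf.stalk y)) := trivial
    rw [← he, Submodule.mem_span_singleton] at hm'
    obtain ⟨c, rfl⟩ := hm'
    rw [hsp, h0, smul_zero] at hm
    rw [CDiv6.mem_primeOf, not_not] at hs
    exact hv (hs.smul_eq_zero.1 hm.symm)
  constructor
  · intro hr
    rw [CDiv6.mem_primeOf]
    intro hu
    exact hne (hu.smul_eq_zero.1 ((hsp r e).symm.trans (by rw [hr, map_zero])))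
  · intro hr
    rw [CDiv6.mem_primeOf] at hr
    refine closureSheaf_inj h ((hsp r e).trans ?_)
    have := smul_eq_zero_of_length_one h1 ((IsLocalRing.mem_maximalIdeal _).2 hr) (spLin _ h e)
    exact this

end Groth.Agent.Symb83
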