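import Groth.Agent.CycLib.DetBase
import Groth.Agent.CycLib.Append
import Mathlib.RingTheory.Artinian.Module

/-! Complete flags of finite length modules with marked generators, and the comparison of two of them. -/

set_option autoImplicit false
set_option linter.unusedSectionVars false

universe u

namespace Groth.Agent.Symb83

open CycDet IsLocalRing Groth.Agent.CycLib

variable {S : Type u} [CommRing S] [IsLocalRing S] {V : Type u} [AddCommGroup V] [Module S V] {l : ℕ}

/-- An admissible tuple without repetitions of spans. -/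
def IsFlag (S : Type u) [CommRing S] [IsLocalRing S] {V : Type u} [AddCommGroup V] [Module S V] {l : ℕ}
    (e : Fin l → V) : Prop :=
  IsAdmissible S V e ∧ Strict S e

/-- Flag conditions below `k`. -/
def PreFlag (S : Type u) [CommRing S] [IsLocalRing S] {V : Type u} [AddCommGroup V] [Module S V] {l : ℕ}
    (e : Fin l → V) (k : ℕ) : Prop :=
  ∀ j : Fin l, (j : ℕ) < k →
    (∀ r ∈ maximalIdeal S, r • e j ∈ spanBefore S V e j) ∧ e j ∉ spanBefore S V e j

theorem length_preFlag {e : Fin l → V} {k : ℕ} (hk : k ≤ l) (he : PreFlag S e k) :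
    Module.length S (spanBefore S V e k) = k := by
  classical
  let e' : Fin l → V := fun j => if (j : ℕ) < k then e j else 0
  have hs : ∀ {i : ℕ}, i ≤ k → spanBefore S V e' i = spanBefore S V e i := fun {i} hi =>
    spanBefore_congr fun j hj => if_pos (lt_of_lt_of_le hj hi)
  have hadm : IsAdmissible S V e' := fun j r hr => by
    by_cases hj : (j : ℕ) < k
    · rw [hs hj.le, show e' j = e j from if_pos hj]
      exact (he j hj).1 r hr
    · rw [show e' j = 0 from if_neg hj, smul_zero]
      exact zero_mem _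
  rw [← hs le_rfl]
  exact (length_spanBefore hadm hk).2.1 fun j hj => by
    rw [hs hj.le, show e' j = e j from if_pos hj]
    exact (he j hj).2

theorem exists_next [IsArtinian S V] {W : Submodule S V} (hW : W ≠ ⊤) :
    ∃ v, v ∉ W ∧ ∀ r ∈ maximalIdeal S, r • v ∈ W := by
  obtain ⟨v₀, hv₀⟩ : ∃ v, v ∉ W := by
    by_contra! h
    exact hW (eq_top_iff.mpr fun v _ => h v)
  obtain ⟨T, ⟨v, hv, rfl⟩, hmin⟩ := IsArtinian.set_has_minimal
    {T : Submodule S V | ∃ v, v ∉ W ∧ T = Submodule.span S {v} ⊔ W} ⟨_, v₀, hv₀, rfl⟩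
  refine ⟨v, hv, fun r hr => ?_⟩
  by_contra hrv
  have hle : Submodule.span S {r • v} ⊔ W ≤ Submodule.span S {v} ⊔ W :=
    sup_le_sup_right (Submodule.span_le.mpr (Set.singleton_subset_iff.mpr
      (Submodule.smul_mem _ _ (Submodule.mem_span_singleton_self v)))) W
  have hmem : v ∈ Submodule.span S {r • v} ⊔ W := by
    have h := eq_of_le_of_not_lt hle (hmin _ ⟨_, hrv, rfl⟩)
    rw [h]
    exact Submodule.mem_sup_left (Submodule.mem_span_singleton_self v)
  obtain ⟨a, ha, w, hw, hvw⟩ := Submodule.mem_sup.mp hmem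
  obtain ⟨c, rfl⟩ := Submodule.mem_span_singleton.mp ha
  have hu : IsUnit (1 - c * r) :=
    isUnit_one_sub_self_of_mem_nonunits _ ((mem_maximalIdeal _).mp (Ideal.mul_mem_left _ c hr))
  refine hv ((smul_mem_unit_iff hu).mp ?_)
  rw [sub_smul, one_smul, mul_smul]
  rwa [sub_eq_of_eq_add' hvw.symm]

theorem exists_extension (hl : Module.length S V = l) :
    ∀ {d k : ℕ}, k + d = l → ∀ e : Fin l → V, PreFlag S e k →
      ∃ f : Fin l → V, IsFlag S f ∧ ∀ j : Fin l, (j : ℕ) < k → f j = e j := by
  haveI : IsArtinian S V :=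
    (isFiniteLength_iff_isNoetherian_isArtinian.mp (Module.length_ne_top_iff.mp (by rw [hl]; simp))).2
  intro d
  induction d with
  | zero =>
    intro k hk e he
    exact ⟨e, ⟨fun j r hr => (he j (by omega)).1 r hr, fun j => (he j (by omega)).2⟩, fun _ _ => rfl⟩
  | succ d ih =>
    intro k hk e he
    have hkl : k < l := by omega
    have hne : spanBefore S V e k ≠ ⊤ := fun h => by
      have := length_preFlag hkl.le he
      rw [h, Module.length_top, hl] at this
      exact absurd (by exact_mod_cast this) (by omega : l ≠ k)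
    obtain ⟨v, hv, hrv⟩ := exists_next hne
    let e' := Function.update e ⟨k, hkl⟩ v
    have hag : ∀ j : Fin l, (j : ℕ) < k → e' j = e j := fun j hj =>
      Function.update_of_ne (fun h => by simp [h] at hj) _ _
    have hs : ∀ {i : ℕ}, i ≤ k → spanBefore S V e' i = spanBefore S V e i := fun {i} hi =>
      spanBefore_congr fun j hj => hag j (lt_of_lt_of_le hj hi)
    obtain ⟨f, hf, hfe⟩ := ih (k := k + 1) (by omega) e' fun j hj => by
      rcases Nat.lt_succ_iff_lt_or_eq.mp hj with hj | hj
      · rw [hs hj.le, hag j hj]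
        exact he j hj
      · obtain rfl : j = ⟨k, hkl⟩ := Fin.ext hj
        rw [hs le_rfl, show e' ⟨k, hkl⟩ = v from Function.update_self _ _ _]
        exact ⟨hrv, hv⟩
    exact ⟨f, hf, fun j hj => (hfe j (by omega)).trans (hag j hj)⟩

theorem exists_flag (hl : Module.length S V = l) : ∃ f : Fin l → V, IsFlag S f := by
  obtain ⟨f, hf, -⟩ := exists_extension hl (d := l) (k := 0) (zero_add l) (fun _ => 0) fun j hj => absurd hj (Nat.not_lt_zero _)
  exact ⟨f, hf⟩

theorem IsFlag.span_eq_top {e : Fin l → V} (he : IsFlag S e) (hl : Module.length S V = l) :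
    Submodule.span S (Set.range e) = ⊤ :=
  (strict_iff_span he.1 hl).mp he.2

theorem IsFlag.top {e : Fin l → V} (he : IsFlag S e) (hl : Module.length S V = l) :
    spanBefore S V e l = ⊤ := by
  rw [spanBefore_last e le_rfl, he.span_eq_top hl]

theorem IsFlag.update {e : Fin l → V} (he : IsFlag S e) (j : Fin l) (c : Sˣ) {v : V}
    (hv : v - (c : S) • e j ∈ spanBefore S V e j) :
    IsFlag S (Function.update e j v) ∧
      ∀ k, spanBefore S V (Function.update e j v) k = spanBefore S V e k := by
  classical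
  have hw : ∀ i : Fin l, e i - ((Function.update (1 : Fin l → Sˣ) j c⁻¹) i : S) • Function.update e j v i ∈
      spanBefore S V e i := fun i => by
    rcases eq_or_ne i j with rfl | h
    · rw [Function.update_self, Function.update_self]
      have := Submodule.smul_mem _ (-(↑c⁻¹ : S)) hv
      rwa [neg_smul, smul_sub, smul_smul, Units.inv_mul, one_smul, neg_sub] at this
    · simp [Function.update_of_ne h]
  exact ⟨⟨adm_of_sub _ hw he.1, (strict_iff_of_sub _ hw).mp he.2⟩, fun k => (spanBefore_eq_of_sub _ hw k).symm⟩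

/-- A function of flags transforming by a character under elementary changes. -/
structure Weight (S : Type u) [CommRing S] [IsLocalRing S] (V : Type u) [AddCommGroup V] [Module S V] (l : ℕ) where
  /-- The value at a tuple. -/
  Φ : (Fin l → V) → ℤ
  /-- The character. -/
  θ : ResidueField S → ℤ
  θ_mul : ∀ {a b : ResidueField S}, a ≠ 0 → b ≠ 0 → θ (a * b) = θ a + θ b
  scale : ∀ {e : Fin l → V}, IsFlag S e → ∀ (j : Fin l) (c : Sˣ) {v : V},
    v - (c : S) • e j ∈ spanBefore S V e j → Φ (Function.update e j v) = Φ e + θ (residue S c)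
  swap : ∀ {e : Fin l → V} (a b : Fin l), (b : ℕ) + 1 = a → IsFlag S e → IsFlag S (e ∘ Equiv.swap a b) →
    (∀ r ∈ maximalIdeal S, r • e a ∈ spanBefore S V e b) → Φ (e ∘ Equiv.swap a b) = Φ e

theorem Weight.θ_one (W : Weight S V l) : W.θ 1 = 0 := by
  have := W.θ_mul (one_ne_zero (α := ResidueField S)) one_ne_zero
  rw [mul_one] at this
  omega

theorem compare_below (hl : Module.length S V = l) :
    ∀ {d k : ℕ}, k + d = l → ∀ e e' : Fin l → V, IsFlag S e → IsFlag S e' →
      (∀ j : Fin l, (j : ℕ) < k → e' j = e j) →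
      ∃ g : ResidueField S, g ≠ 0 ∧ ∀ W : Weight S V l, W.Φ e' = W.Φ e + W.θ g := by
  classical
  intro d
  induction d with
  | zero =>
    intro k hk e e' _ _ h
    refine ⟨1, one_ne_zero, fun W => ?_⟩
    rw [W.θ_one, add_zero, show e' = e from funext fun j => h j (by omega)]
  | succ d ih =>
    intro k hk e e' he he' h
    have hkl : k < l := by omega
    set j₀ : Fin l := ⟨k, hkl⟩ with hj₀
    have hs : ∀ {i : ℕ}, i ≤ k → spanBefore S V e' i = spanBefore S V e i := fun {i} hi =>
      spanBefore_congr fun j hj => h j (lt_of_lt_of_le hj hi)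
    set v := e' j₀ with hv
    have hvW : v ∉ spanBefore S V e k := hs le_rfl ▸ he'.2 j₀
    have hrv : ∀ r ∈ maximalIdeal S, r • v ∈ spanBefore S V e k := fun r hr => hs le_rfl ▸ he'.1 j₀ r hr
    by_cases hvk : v ∈ spanBefore S V e (k + 1)
    · rw [show k + 1 = (j₀ : ℕ) + 1 from rfl, spanBefore_succ, Submodule.mem_sup] at hvk
      obtain ⟨w, hw, z, hz, hwz⟩ := hvk
      obtain ⟨c, rfl⟩ := Submodule.mem_span_singleton.mp hz
      have hc : IsUnit c := by
        by_contra hc
        exact hvW (hwz ▸ add_mem hw (he.1 j₀ c ((mem_maximalIdeal c).mpr hc)))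
      obtain ⟨c, rfl⟩ := hc
      have hvc : v - (c : S) • e j₀ ∈ spanBefore S V e j₀ := by rw [← hwz, add_sub_cancel_right]; exact hw
      obtain ⟨hf, -⟩ := he.update j₀ c hvc
      obtain ⟨g, hg, hW⟩ := ih (k := k + 1) (by omega) _ e' hf he' fun j hj => by
        rcases Nat.lt_succ_iff_lt_or_eq.mp hj with hj | hj
        · rw [Function.update_of_ne (fun e0 => by simp [e0, hj₀] at hj), h j hj]
        · obtain rfl : j = j₀ := Fin.ext hj
          rw [Function.update_self]
      refine ⟨residue S c * g, mul_ne_zero (residue_ne_zero c.isUnit) hg, fun W => ?_⟩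
      rw [hW W, W.scale he j₀ c hvc, W.θ_mul (residue_ne_zero c.isUnit) hg]
      ring
    · have hkl1 : k + 1 < l := by
        by_contra hge
        exact hvk (by rw [show k + 1 = l by omega, he.top hl]; trivial)
      set j₁ : Fin l := ⟨k + 1, hkl1⟩ with hj₁
      let e₀ := Function.update e j₁ v
      have hag : ∀ j : Fin l, (j : ℕ) < k + 1 → e₀ j = e j := fun j hj =>
        Function.update_of_ne (fun e0 => by simp [e0, hj₁] at hj) _ _
      have hs₀ : ∀ {i : ℕ}, i ≤ k + 1 → spanBefore S V e₀ i = spanBefore S V e i := fun {i} hi =>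
        spanBefore_congr fun j hj => hag j (lt_of_lt_of_le hj hi)
      obtain ⟨f, hf, hfe⟩ := exists_extension hl (d := l - (k + 2)) (k := k + 2) (by omega) e₀ fun j hj => by
        rcases Nat.lt_succ_iff_lt_or_eq.mp hj with hj | hj
        · rw [hs₀ hj.le, hag j hj]
          exact ⟨fun r hr => he.1 j r hr, he.2 j⟩
        · obtain rfl : j = j₁ := Fin.ext hj
          rw [hs₀ le_rfl, show e₀ j₁ = v from Function.update_self _ _ _]
          exact ⟨fun r hr => spanBefore_mono e (Nat.le_succ k) (hrv r hr), hvk⟩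
      have hfk : ∀ j : Fin l, (j : ℕ) < k + 1 → f j = e j := fun j hj => (hfe j (by omega)).trans (hag j hj)
      have hfsk : spanBefore S V f k = spanBefore S V e k :=
        spanBefore_congr fun j hj => hfk j (Nat.lt_succ_of_lt hj)
      have hf1 : f j₁ = v := (hfe j₁ (Nat.lt_succ_self _)).trans (Function.update_self _ _ _)
      have hm : ∀ r ∈ maximalIdeal S, r • f j₁ ∈ spanBefore S V f (j₀ : ℕ) := fun r hr => by
        rw [hf1, hj₀]
        exact hfsk.symm ▸ hrv r hr
      have hab : (j₀ : ℕ) + 1 = j₁ := rfl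
      have hadm := adm_swap hf.1 hab hm
      have hf' : IsFlag S (f ∘ Equiv.swap j₁ j₀) := ⟨hadm, (strict_iff_span hadm hl).mpr (by
        rw [Set.range_comp, Equiv.range_eq_univ, Set.image_univ]
        exact hf.span_eq_top hl)⟩
      obtain ⟨g₁, hg₁, h1⟩ := ih (k := k + 1) (by omega) e f he hf fun j hj => hfk j hj
      obtain ⟨g₂, hg₂, h2⟩ := ih (k := k + 1) (by omega) (f ∘ Equiv.swap j₁ j₀) e' hf' he' fun j hj => by
        rcases Nat.lt_succ_iff_lt_or_eq.mp hj with hj | hj
        · rw [Function.comp_apply, Equiv.swap_apply_of_ne_of_ne (fun e0 => by simp [e0, hj₁] at hj)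
            (fun e0 => by simp [e0, hj₀] at hj), hfk j (Nat.lt_succ_of_lt hj), h j hj]
        · obtain rfl : j = j₀ := Fin.ext hj
          rw [Function.comp_apply, Equiv.swap_apply_right, hf1]
      refine ⟨g₁ * g₂, mul_ne_zero hg₁ hg₂, fun W => ?_⟩
      rw [h2 W, W.swap j₁ j₀ hab hf hf' hm, h1 W, W.θ_mul hg₁ hg₂]
      ring

/-- Two flags differ by a canonical scalar for all weights at once. -/
theorem compare {e : Fin l → V} {l' : ℕ} (hl : Module.length S V = l) (hl' : Module.length S V = l')
    {e' : Fin l' → V} (he : IsFlag S e) (he' : IsFlag S e') :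
    ∃ g : ResidueField S, g ≠ 0 ∧ ∀ (Φ : (n : ℕ) → (Fin n → V) → ℤ) (W : Weight S V l), W.Φ = Φ l →
      Φ l' e' = Φ l e + W.θ g := by
  obtain rfl : l' = l := by exact_mod_cast hl'.symm.trans hl
  obtain ⟨g, hg, h⟩ := compare_below hl (d := l') (k := 0) (zero_add _) e e' he he' fun j hj =>
    absurd hj (Nat.not_lt_zero _)
  exact ⟨g, hg, fun Φ W hW => by rw [← hW]; exact h W⟩

variable {V' V'' : Type u} [AddCommGroup V'] [Module S V'] [AddCommGroup V''] [Module S V'']

/-- Flags glue along short exact sequences. -/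
theorem IsFlag.glue {a b : ℕ} {f : V' →ₗ[S] V} {g : V →ₗ[S] V''} (hg : Function.Surjective g)
    (hfg : LinearMap.range f = LinearMap.ker g) {eK : Fin a → V'} {eM : Fin b → V''}
    (hK : IsFlag S eK) (hM : IsFlag S eM) (hla : Module.length S V' = a) (hlb : Module.length S V'' = b)
    (hl : Module.length S V = (a + b : ℕ)) : IsFlag S (CycLib.glue f hg eK eM) := by
  have hadm := glue_adm (hg := hg) hfg (hK.span_eq_top hla) hK.1 hM.1
  exact ⟨hadm, (strict_iff_span hadm hl).mpr (glue_span hfg (hK.span_eq_top hla) (hM.span_eq_top hlb))⟩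

end Groth.Agent.Symb83
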