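import Groth.Agent.Symb83.SigmaK
import Groth.Agent.Symb83.Pos
import Groth.Agent.Symb83.Flag

/-! The class of a module is the class of its cycle. -/

set_option autoImplicit false
set_option linter.style.haveILetI false
set_option linter.unusedSectionVars false
set_option linter.unusedVariables false

universe u

open CategoryTheory CategoryTheory.Limits AlgebraicGeometry TopologicalSpace

namespace Groth.Agent.Symb83

open CycDet IsLocalRing Groth.Agent.CycLib

variable {X : Scheme.{u}}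

/-- Inclusion of submodules. -/
noncomputable def subIncl {M : X.Modules} (N₁ N₂ : QCoh.SubMod M) (h : ∀ U, N₁.mem U ≤ N₂.mem U) :
    N₁.toModules ⟶ N₂.toModules :=
  ⟨PresheafOfModules.Submodule.homOfLE (N₁ := N₁.sub) (N₂ := N₂.sub) fun U => h U.unop⟩

theorem subIncl_ι {M : X.Modules} (N₁ N₂ : QCoh.SubMod M) (h : ∀ U, N₁.mem U ≤ N₂.mem U) :
    subIncl N₁ N₂ h ≫ N₂.ι = N₁.ι := rfl

theorem stalkSub_mono {M : X.Modules} {W W' : ∀ ξ : X, Submodule (X.presheaf.stalk ξ) (M.presheaf.stalk ξ)}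
    (h : ∀ ξ, W ξ ≤ W' ξ) (U : X.Opens) : (stalkSub M W).mem U ≤ (stalkSub M W').mem U :=
  fun _ hs ξ hξ => h ξ (hs ξ hξ)

theorem spLin_refl {M : X.Modules} {y : X} (h : y ⤳ y) (m : M.presheaf.stalk y) : spLin M h m = m := by
  obtain ⟨U, hy, s, rfl⟩ := M.presheaf.exists_germ_eq m
  exact TopCat.Presheaf.germ_stalkSpecializes_apply M.presheaf hy h s

theorem stalkSub_cond_self {M : X.Modules} {W : ∀ ξ : X, Submodule (X.presheaf.stalk ξ) (M.presheaf.stalk ξ)}
    {y : X} (t : (stalkSub M W).toModules.presheaf.stalk y) :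
    CycLib.stalkLin (stalkSub M W).ι y t ∈ W y := by
  have := stalkSub_cond t (specializes_refl y)
  rwa [spLin_refl] at this

variable {δ : X → ℤ} {k : ℤ} [IsLocallyNoetherian X] (hd : Cyc.IsDimFun X δ)

/-- Families whose supports lie below locally finitely many points. -/
theorem locFinSupp_of_point {ι : Type u} {F : ι → X.Modules} (pt : ι → X)
    (hs : ∀ i y, Nontrivial ((F i).presheaf.stalk y) → pt i ⤳ y) (P : Set X)
    (hP : ∀ x : X, ∃ W : Set X, IsOpen W ∧ x ∈ W ∧ {ζ | ζ ∈ W ∧ ζ ∈ P}.Finite)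
    (hmem : ∀ i, pt i ∈ P) (hfib : ∀ ζ, {i | pt i = ζ}.Finite) : LocFinSupp F := fun x => by
  obtain ⟨W, hWo, hxW, hWf⟩ := hP x
  refine ⟨W, hWo, hxW, (hWf.biUnion fun ζ _ => hfib ζ).subset ?_⟩
  rintro i ⟨y, hyW, hy⟩
  exact Set.mem_biUnion (x := pt i) ⟨(hs i y hy).mem_open hWo hyW, hmem i⟩ rfl

include hd

theorem stalkSub_exists_self {M : X.Modules} (hM : Cyc.CohLe δ k M)
    {W : ∀ ξ : X, Submodule (X.presheaf.stalk ξ) (M.presheaf.stalk ξ)} (hW : ∀ ξ, W ξ ≠ ⊤ → δ ξ = k)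
    {y : X} (hy : δ y = k) {m : M.presheaf.stalk y} (hm : m ∈ W y) :
    ∃ t, CycLib.stalkLin (stalkSub M W).ι y t = m :=
  exists_stalkSub_eq hM.1.1 (nice_of_subset hd hM hW) m fun ξ h => by
    by_cases hξ : W ξ = ⊤
    · rw [hξ]; trivial
    obtain rfl : ξ = y := CycLib.eq_of_delta_le hd h ((hW ξ hξ).le.trans hy.ge)
    rwa [spLin_refl]

theorem cohLe_stalkSub {M : X.Modules} (hM : Cyc.CohLe δ k M)
    {W : ∀ ξ : X, Submodule (X.presheaf.stalk ξ) (M.presheaf.stalk ξ)} (hW : ∀ ξ, W ξ ≠ ⊤ → δ ξ = k) :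
    Cyc.CohLe δ k (stalkSub M W).toModules :=
  cohLe_of_mono (stalkSub M W).ι hM (isQCoh_stalkSub hM.1.1 (nice_of_subset hd hM hW))

/-- The stalk of a submodule at a point of dimension `k`. -/
theorem stalkSub_length {M : X.Modules} (hM : Cyc.CohLe δ k M)
    {W : ∀ ξ : X, Submodule (X.presheaf.stalk ξ) (M.presheaf.stalk ξ)} (hW : ∀ ξ, W ξ ≠ ⊤ → δ ξ = k)
    {y : X} (hy : δ y = k) :
    Module.length (X.presheaf.stalk y) ((stalkSub M W).toModules.presheaf.stalk y) =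
      Module.length (X.presheaf.stalk y) (W y) := by
  let f : (stalkSub M W).toModules.presheaf.stalk y →ₗ[X.presheaf.stalk y] W y :=
    LinearMap.codRestrict _ (CycLib.stalkLin (stalkSub M W).ι y) fun t => stalkSub_cond_self t
  refine (LinearEquiv.ofBijective f ⟨fun a b h => ?_, fun m => ?_⟩).length_eq
  · exact stalkSub_ι_injective hM.1.1 (nice_of_subset hd hM hW) y (congrArg Subtype.val h)
  · obtain ⟨t, ht⟩ := stalkSub_exists_self hd hM hW hy m.2
    exact ⟨t, Subtype.ext ht⟩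

theorem mk_zero_of_small {G : X.Modules} (hG : Cyc.CohLe δ k G)
    (hs : ∀ ξ, δ ξ = k → Subsingleton (G.presheaf.stalk ξ)) : Cyc.toK0CohQuot δ k (k - 1) G = 0 :=
  (QuotientAddGroup.eq_zero_iff _).2 (AddSubgroup.subset_closure ⟨G, ⟨hG.1, fun x hx => by
    rcases (hG.2 x hx).lt_or_eq with hlt | heq
    · omega
    · exact absurd hx (not_nontrivial_iff_subsingleton.2 (hs x heq))⟩, rfl⟩)

omit hd in
theorem cohLe_sigma {ι : Type u} {F : ι → X.Modules} (hF : ∀ i, Cyc.CohLe δ k (F i)) (hl : LocFinSupp F) :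
    Cyc.CohLe δ k (∐ F) :=
  ⟨isCoh_sigma (fun i => (hF i).1.1) (fun i => (hF i).1) hl, fun x hx => by
    obtain ⟨i, hi⟩ := support_sigma (fun i => (hF i).1.1) hl (x := x) hx
    exact (hF i).2 x hi⟩

omit hd in
theorem subsingleton_sigma {ι : Type u} {F : ι → X.Modules} (hF : ∀ i, Coh.IsQCoh (F i)) (hl : LocFinSupp F)
    {x : X} (h : ∀ i, Subsingleton ((F i).presheaf.stalk x)) : Subsingleton ((∐ F).presheaf.stalk x) :=
  not_nontrivial_iff_subsingleton.1 fun hn => by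
    obtain ⟨i, hi⟩ := support_sigma hF hl hn
    exact not_nontrivial_iff_subsingleton.2 (h i) hi

/-- Two modules of length one at the same point have a common module. -/
theorem exists_common {M M' : X.Modules} (hM : Cyc.CohLe δ k M) (hM' : Cyc.CohLe δ k M') {ζ : X} (hζ : δ ζ = k)
    (h1 : Module.length (X.presheaf.stalk ζ) (M.presheaf.stalk ζ) = 1)
    (h1' : Module.length (X.presheaf.stalk ζ) (M'.presheaf.stalk ζ) = 1)
    (h0 : ∀ ξ, δ ξ = k → ξ ≠ ζ → Subsingleton (M.presheaf.stalk ξ) ∧ Subsingleton (M'.presheaf.stalk ξ)) :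
    ∃ (N : X.Modules) (φ : N ⟶ M) (φ' : N ⟶ M'), Cyc.CohLe δ k N ∧
      (∀ y, Nontrivial (N.presheaf.stalk y) → Nontrivial (M.presheaf.stalk y) ∨ Nontrivial (M'.presheaf.stalk y)) ∧
      ∀ ξ, δ ξ = k → Function.Bijective (CycLib.stalkLin φ ξ) ∧ Function.Bijective (CycLib.stalkLin φ' ξ) := by
  classical
  let F : ULift.{u} Bool → X.Modules := fun b => bif b.down then M else M'
  have hF : ∀ b, Cyc.CohLe δ k (F b) := by rintro ⟨_ | _⟩ <;> assumption
  have hl : LocFinSupp F := fun x => ⟨Set.univ, isOpen_univ, trivial, Set.toFinite _⟩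
  have hq : ∀ b, Coh.IsQCoh (F b) := fun b => (hF b).1.1
  have hS : Cyc.CohLe δ k (∐ F) := cohLe_sigma hF hl
  haveI : IsSimpleModule (X.presheaf.stalk ζ) (M.presheaf.stalk ζ) := Module.length_eq_one_iff.1 h1
  haveI : IsSimpleModule (X.presheaf.stalk ζ) (M'.presheaf.stalk ζ) := Module.length_eq_one_iff.1 h1'
  haveI := IsSimpleModule.nontrivial (X.presheaf.stalk ζ) (M.presheaf.stalk ζ)
  haveI := IsSimpleModule.nontrivial (X.presheaf.stalk ζ) (M'.presheaf.stalk ζ)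
  obtain ⟨a, ha⟩ := exists_ne (0 : M.presheaf.stalk ζ)
  obtain ⟨b, hb⟩ := exists_ne (0 : M'.presheaf.stalk ζ)
  let t : ∀ i, (F i).presheaf.stalk ζ := fun i => match i with
    | ⟨true⟩ => a
    | ⟨false⟩ => b
  obtain ⟨g, hg⟩ := exists_stalk_elem hq hl ζ t
  let W : ∀ ξ, Submodule (X.presheaf.stalk ξ) ((∐ F).presheaf.stalk ξ) :=
    Function.update (fun _ => ⊤) ζ (Submodule.span _ {g})
  have hW : ∀ ξ, W ξ ≠ ⊤ → δ ξ = k := fun ξ h => by
    rcases eq_or_ne ξ ζ with rfl | hne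
    · exact hζ
    · exact absurd (Function.update_of_ne hne _ _) h
  let ι := (stalkSub (∐ F) W).ι
  have hinj := fun y => stalkSub_ι_injective hS.1.1 (nice_of_subset hd hS hW) y
  -- one projection
  have key : ∀ i : ULift.{u} Bool, ∀ ξ, δ ξ = k →
      Function.Bijective (CycLib.stalkLin (ι ≫ sigmaProj F i) ξ) := by
    intro i ξ hξ
    rcases eq_or_ne ξ ζ with rfl | hne
    · haveI : IsSimpleModule (X.presheaf.stalk ξ) ((F i).presheaf.stalk ξ) := by
        rcases i with ⟨_ | _⟩ <;> assumption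
      have hti : ∀ j, t j ≠ 0 := by rintro ⟨_ | _⟩ <;> assumption
      obtain ⟨n, hn⟩ := stalkSub_exists_self hd hS hW hξ (m := g)
        (show g ∈ W ξ by rw [show W ξ = _ from Function.update_self _ _ _]; exact Submodule.mem_span_singleton_self g)
      refine ⟨(injective_iff_map_eq_zero _).2 fun m hm => ?_, fun v => ?_⟩
      · have hmem := stalkSub_cond_self (W := W) m
        rw [show W ξ = _ from Function.update_self _ _ _] at hmem
        obtain ⟨c, hc⟩ := Submodule.mem_span_singleton.1 hmem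
        rw [stalkLin_comp] at hm
        rw [← hc, map_smul, hg] at hm
        have hcm : c ∈ maximalIdeal (X.presheaf.stalk ξ) := by
          by_contra h
          exact hti i ((IsUnit.smul_eq_zero (notMem_maximalIdeal.1 h)).1 hm)
        refine hinj ξ ?_
        rw [map_zero, ← hc]
        refine stalk_ext hq hl ξ fun j => ?_
        rw [map_smul, hg, map_zero]
        haveI : IsSimpleModule (X.presheaf.stalk ξ) ((F j).presheaf.stalk ξ) := by
          rcases j with ⟨_ | _⟩ <;> assumption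
        have hlj : Module.length (X.presheaf.stalk ξ) ((F j).presheaf.stalk ξ) = 1 :=
          Module.length_eq_one_iff.2 inferInstance
        have := pow_smul_stalk (M := F j) (by rw [hlj]; simp) hcm (t j)
        rwa [hlj, ENat.toNat_one, pow_one] at this
      · obtain ⟨c, hc⟩ := IsSimpleModule.toSpanSingleton_surjective (X.presheaf.stalk ξ) (hti i) v
        refine ⟨c • n, ?_⟩
        rw [map_smul, stalkLin_comp, hn, hg]
        exact hc
    · haveI : ∀ j, Subsingleton ((F j).presheaf.stalk ξ) := by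
        rintro ⟨_ | _⟩
        exacts [(h0 ξ hξ hne).2, (h0 ξ hξ hne).1]
      haveI := subsingleton_sigma hq hl (x := ξ) this
      exact ⟨fun p q _ => hinj ξ (Subsingleton.elim _ _), fun v => ⟨0, Subsingleton.elim _ _⟩⟩
  refine ⟨(stalkSub (∐ F) W).toModules, ι ≫ sigmaProj F ⟨true⟩, ι ≫ sigmaProj F ⟨false⟩,
    cohLe_stalkSub hd hS hW, fun y hy => ?_, fun ξ hξ => ⟨key _ ξ hξ, key _ ξ hξ⟩⟩
  haveI := (hinj y).nontrivial
  obtain ⟨⟨_ | _⟩, hi⟩ := support_sigma hq hl (x := y) this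
  exacts [Or.inr hi, Or.inl hi]

omit hd in
theorem locFinSupp_reindex {ι ι' : Type u} {F : ι → X.Modules} {G : ι' → X.Modules} (f : ι → ι')
    (hf : Function.Injective f)
    (h : ∀ i y, Nontrivial ((F i).presheaf.stalk y) → Nontrivial ((G (f i)).presheaf.stalk y))
    (hl : LocFinSupp G) : LocFinSupp F := fun x => by
  obtain ⟨W, hWo, hxW, hWf⟩ := hl x
  refine ⟨W, hWo, hxW, (hWf.preimage hf.injOn).subset ?_⟩
  rintro i ⟨y, hy, hn⟩
  exact ⟨y, hy, h i y hn⟩

omit hd in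
theorem finite_fibre {α : X → ℤ} {n : {ζ : X // 0 < α ζ} → ℕ} (ζ : X) :
    {i : (Σ z, Fin (n z)) | i.1.1 = ζ}.Finite := by
  by_cases hz : 0 < α ζ
  · refine (Set.finite_range fun j : Fin (n ⟨ζ, hz⟩) => (⟨⟨ζ, hz⟩, j⟩ : Σ z, Fin (n z))).subset ?_
    rintro ⟨⟨ξ, hξ⟩, j⟩ (rfl : ξ = ζ)
    exact ⟨j, rfl⟩
  · exact Set.Finite.subset Set.finite_empty fun i (hi : i.1.1 = ζ) => hz (hi ▸ i.1.2)

/-- A graded piece of a filtration at one point. -/
theorem step_cokernel {P Q : X.Modules} (i : P ⟶ Q) [Mono i] (hP : Cyc.CohLe δ k P) (hQ : Cyc.CohLe δ k Q)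
    {ζ : X} (hs : ∀ y, Nontrivial (Q.presheaf.stalk y) → ζ ⤳ y)
    (h0 : ∀ ξ, δ ξ = k → ξ ≠ ζ → Subsingleton (Q.presheaf.stalk ξ))
    (hl : Module.length (X.presheaf.stalk ζ) (Q.presheaf.stalk ζ) =
      Module.length (X.presheaf.stalk ζ) (P.presheaf.stalk ζ) + 1)
    (hfin : Module.length (X.presheaf.stalk ζ) (P.presheaf.stalk ζ) ≠ ⊤) :
    (∀ y, Nontrivial ((cokernel i).presheaf.stalk y) → ζ ⤳ y) ∧
      (∀ ξ, δ ξ = k → ξ ≠ ζ → Subsingleton ((cokernel i).presheaf.stalk ξ)) ∧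
      Module.length (X.presheaf.stalk ζ) ((cokernel i).presheaf.stalk ζ) = 1 := by
  have hex := fun ξ => CycLib.stalk_shortExact (KZ.shortExact_of_mono i) hP.1.1 hQ.1.1
    (cohLe_cokernel i hP.1.1 hQ).1.1 ξ
  refine ⟨fun y hy => hs y (by haveI := hy; exact (hex y).2.2.nontrivial), fun ξ hξ hne => ?_, ?_⟩
  · haveI := h0 ξ hξ hne
    exact (hex ξ).2.2.subsingleton
  · obtain ⟨h1, h2, h3⟩ := hex ζ
    exact (WithTop.add_left_cancel hfin ((Module.length_eq_add_of_exact _ _ h1 h3 h2).symm.trans hl))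

/-- A sum of modules of length one at points of dimension `k`. -/
theorem mk_graded_eq (α : X → ℤ) (hk : ∀ {ζ}, 0 < α ζ → δ ζ = k)
    (hP : ∀ x : X, ∃ V : Set X, IsOpen V ∧ x ∈ V ∧ {ζ | ζ ∈ V ∧ ζ ∈ {ζ | 0 < α ζ}}.Finite)
    (R : (Σ z : {ζ : X // 0 < α ζ}, Fin (α z.1).toNat) → X.Modules) (hR : ∀ b, Cyc.CohLe δ k (R b))
    (h : ∀ b, (∀ y, Nontrivial ((R b).presheaf.stalk y) → b.1.1 ⤳ y) ∧
      (∀ ξ, δ ξ = k → ξ ≠ b.1.1 → Subsingleton ((R b).presheaf.stalk ξ)) ∧
      Module.length (X.presheaf.stalk b.1.1) ((R b).presheaf.stalk b.1.1) = 1) :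
    Cyc.toK0CohQuot δ k (k - 1) (∐ R) = Cyc.toK0CohQuot δ k (k - 1) (Cyc.cycleSheafPos α) := by
  let O := fun b : (Σ z : {ζ : X // 0 < α ζ}, Fin (α z.1).toNat) => Cyc.closureStructureSheaf b.1.1
  have hlσ : ∀ {G : (Σ z : {ζ : X // 0 < α ζ}, Fin (α z.1).toNat) → X.Modules},
      (∀ i y, Nontrivial ((G i).presheaf.stalk y) → i.1.1 ⤳ y) → LocFinSupp G := fun {G} h =>
    locFinSupp_of_point (fun i => i.1.1) h _ hP (fun i => i.1.2) fun ζ => finite_fibre ζ
  have hO : ∀ b, Cyc.CohLe δ k (O b) := fun b => ⟨isCoh_closureSheaf _, fun y hy =>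
    hk b.1.2 ▸ CycLib.delta_le hd (support_closureSheaf hy)⟩
  choose N φ φ' hN hNs hbij using fun b => exists_common hd (hR b) (hO b) (hk b.1.2) (h b).2.2
    (length_closureSheaf_self _) fun ξ hξ hne => ⟨(h b).2.1 ξ hξ hne, not_nontrivial_iff_subsingleton.1 fun hn =>
      hne (CycLib.eq_of_delta_le hd (support_closureSheaf hn) ((hk b.1.2).le.trans hξ.ge)).symm⟩
  have hlO : LocFinSupp O := hlσ fun b y hy => support_closureSheaf hy
  have hlR : LocFinSupp R := hlσ fun b => (h b).1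
  have hlN : LocFinSupp N := hlσ fun b y hy => (hNs b y hy).elim ((h b).1 y) support_closureSheaf
  have hNc := cohLe_sigma hN hlN
  show _ = Cyc.toK0CohQuot δ k (k - 1) (∐ O)
  rw [← mk_eq_of_bijective hd (sumMap φ) hNc (cohLe_sigma hR hlR) fun ξ hξ =>
      sumMap_bijective (fun b => (hN b).1.1) hlN (fun b => (hR b).1.1) hlR ξ φ fun b => (hbij b ξ hξ).1,
    mk_eq_of_bijective hd (sumMap φ') hNc (cohLe_sigma hO hlO) fun ξ hξ =>
      sumMap_bijective (fun b => (hN b).1.1) hlN (fun b => (hO b).1.1) hlO ξ φ' fun b => (hbij b ξ hξ).2]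

omit hd in
theorem sheafFun_pos {F : X.Modules} {ζ : X} (h : 0 < Cyc.sheafFun δ k F ζ) : δ ζ = k := by
  by_contra hn
  simp only [Cyc.sheafFun, if_neg hn] at h
  exact lt_irrefl _ h

theorem length_eq_sheafFun {F : X.Modules} (hF : Cyc.CohLe δ k F) {ζ : X} (hζ : δ ζ = k) :
    Module.length (X.presheaf.stalk ζ) (F.presheaf.stalk ζ) = ((Cyc.sheafFun δ k F ζ).toNat : ℕ) := by
  simp only [Cyc.sheafFun, if_pos hζ, Int.toNat_natCast]
  exact (ENat.natCast_toNat (length_ne_top_top hd hF hζ)).symm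

theorem subsingleton_of_sheafFun {F : X.Modules} (hF : Cyc.CohLe δ k F) {ζ : X} (hζ : δ ζ = k)
    (h : ¬ 0 < Cyc.sheafFun δ k F ζ) : Subsingleton (F.presheaf.stalk ζ) := by
  have h2 := length_eq_sheafFun hd hF hζ
  rw [Int.toNat_of_nonpos (not_lt.1 h), Nat.cast_zero] at h2
  exact Module.length_eq_zero_iff.1 h2

/-- The family cutting out a step of the filtration at one point. -/
noncomputable def stepFam (δ : X → ℤ) (k : ℤ) (F : X.Modules) (ζ : X)
    (W : Submodule (X.presheaf.stalk ζ) (F.presheaf.stalk ζ)) :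
    ∀ ξ, Submodule (X.presheaf.stalk ξ) (F.presheaf.stalk ξ) :=
  open Classical in Function.update (killFam δ k F) ζ W

omit hd in
theorem stepFam_self {F : X.Modules} {ζ : X} (W : Submodule (X.presheaf.stalk ζ) (F.presheaf.stalk ζ)) :
    stepFam δ k F ζ W ζ = W := by
  classical
  exact Function.update_self _ _ _

omit hd in
theorem stepFam_ne {F : X.Modules} {ζ ξ : X} (W : Submodule (X.presheaf.stalk ζ) (F.presheaf.stalk ζ)) (h : ξ ≠ ζ) :
    stepFam δ k F ζ W ξ = killFam δ k F ξ := by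
  classical
  exact Function.update_of_ne h _ _

omit hd in
theorem stepFam_ne_top {F : X.Modules} {ζ : X} (hζ : δ ζ = k)
    (W : Submodule (X.presheaf.stalk ζ) (F.presheaf.stalk ζ)) (ξ : X) (h : stepFam δ k F ζ W ξ ≠ ⊤) : δ ξ = k := by
  rcases eq_or_ne ξ ζ with rfl | hne
  · exact hζ
  · by_contra hn
    rw [stepFam_ne W hne] at h
    exact h (if_neg fun h' => hn h'.1)

theorem subsingleton_step {F : X.Modules} (hF : Cyc.CohLe δ k F) {ζ : X} (hζ : δ ζ = k)
    (W : Submodule (X.presheaf.stalk ζ) (F.presheaf.stalk ζ)) {ξ : X} (hξ : δ ξ = k) (hne : ξ ≠ ζ) :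
    Subsingleton ((stalkSub F (stepFam δ k F ζ W)).toModules.presheaf.stalk ξ) :=
  subsingleton_of_forall_eq 0 fun v =>
    stalkSub_ι_injective hF.1.1 (nice_of_subset hd hF (stepFam_ne_top hζ W)) ξ (by
      rw [map_zero]
      have := stalkSub_cond_self v
      rw [stepFam_ne W hne] at this
      exact mem_killFam.1 this hξ)

theorem support_step {F : X.Modules} (hF : Cyc.CohLe δ k F) (hp : IsPure δ k F) {ζ : X} (hζ : δ ζ = k)
    (W : Submodule (X.presheaf.stalk ζ) (F.presheaf.stalk ζ)) {y : X}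
    (hy : Nontrivial ((stalkSub F (stepFam δ k F ζ W)).toModules.presheaf.stalk y)) : ζ ⤳ y := by
  obtain ⟨ξ, hξy, hξ, hn⟩ :=
    exists_gen_of_pure hd (cohLe_stalkSub hd hF (stepFam_ne_top hζ W)) (isPure_stalkSub hp _) hy
  rcases eq_or_ne ξ ζ with rfl | hne
  · exact hξy
  · exact absurd (subsingleton_step hd hF hζ W hξ hne) (not_subsingleton_iff_nontrivial.2 hn)

theorem length_step {F : X.Modules} (hF : Cyc.CohLe δ k F) {ζ : X} (hζ : δ ζ = k)
    (W : Submodule (X.presheaf.stalk ζ) (F.presheaf.stalk ζ)) :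
    Module.length (X.presheaf.stalk ζ) ((stalkSub F (stepFam δ k F ζ W)).toModules.presheaf.stalk ζ) =
      Module.length (X.presheaf.stalk ζ) W :=
  (stalkSub_length hd hF (stepFam_ne_top hζ W) hζ).trans (LinearEquiv.ofEq _ _ (stepFam_self W)).length_eq

/-- The filtrations of a pure module at its points of dimension `k`. -/
theorem exists_filtration {F : X.Modules} (hF : Cyc.CohLe δ k F) (hp : IsPure δ k F) :
    ∃ (A : ∀ z : {ζ : X // 0 < Cyc.sheafFun δ k F ζ}, Fin ((Cyc.sheafFun δ k F z.1).toNat + 1) → X.Modules)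
      (inc : ∀ z (j : Fin (Cyc.sheafFun δ k F z.1).toNat), A z j.castSucc ⟶ A z j.succ)
      (top : ∀ z, A z (Fin.last _) ⟶ F),
      (∀ z j, Cyc.CohLe δ k (A z j)) ∧ (∀ z j y, Nontrivial ((A z j).presheaf.stalk y) → z.1 ⤳ y) ∧
      (∀ z j ξ, δ ξ = k → ξ ≠ z.1 → Subsingleton ((A z j).presheaf.stalk ξ)) ∧
      (∀ z j, Module.length (X.presheaf.stalk z.1) ((A z j).presheaf.stalk z.1) = ((j : ℕ) : ℕ∞)) ∧
      (∀ z j, Mono (inc z j)) ∧ ∀ z, Function.Bijective (CycLib.stalkLin (top z) z.1) := by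
  choose e he using fun z : {ζ : X // 0 < Cyc.sheafFun δ k F ζ} =>
    exists_flag (length_eq_sheafFun hd hF (sheafFun_pos z.2))
  let W : ∀ z : {ζ : X // 0 < Cyc.sheafFun δ k F ζ}, ℕ →
      Submodule (X.presheaf.stalk z.1) (F.presheaf.stalk z.1) := fun z j =>
    spanBefore (X.presheaf.stalk z.1) (F.presheaf.stalk z.1) (e z) j
  have hle : ∀ z {i j : ℕ}, i ≤ j → ∀ ξ, stepFam δ k F z.1 (W z i) ξ ≤ stepFam δ k F z.1 (W z j) ξ :=
    fun z {i j} hij ξ => by
    rcases eq_or_ne ξ z.1 with rfl | hne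
    · rw [stepFam_self, stepFam_self]
      exact spanBefore_mono _ hij
    · rw [stepFam_ne _ hne, stepFam_ne _ hne]
  refine ⟨fun z j => (stalkSub F (stepFam δ k F z.1 (W z j))).toModules,
    fun z j => subIncl _ _ (stalkSub_mono (hle z (by simp))),
    fun z => (stalkSub F _).ι,
    fun z j => cohLe_stalkSub hd hF (stepFam_ne_top (sheafFun_pos z.2) _),
    fun z j y => support_step hd hF hp (sheafFun_pos z.2) _,
    fun z j ξ => subsingleton_step hd hF (sheafFun_pos z.2) _,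
    fun z j => (length_step hd hF (sheafFun_pos z.2) _).trans
      (length_preFlag (Nat.le_of_lt_succ j.2) fun i _ => ⟨fun a ha => (he z).1 i a ha, (he z).2 i⟩),
    fun z j => ?_, fun z => ⟨stalkSub_ι_injective hF.1.1 (nice_of_subset hd hF (stepFam_ne_top (sheafFun_pos z.2) _)) _,
      fun v => stalkSub_exists_self hd hF (stepFam_ne_top (sheafFun_pos z.2) _) (sheafFun_pos z.2) ?_⟩⟩
  · have h : stalkSub_mono (hle z (show (j.castSucc : ℕ) ≤ j.succ by simp)) = stalkSub_mono (hle z (by simp)) := rfl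
    haveI : Mono (subIncl _ _ (stalkSub_mono (hle z (show (j.castSucc : ℕ) ≤ j.succ by simp))) ≫
        (stalkSub F (stepFam δ k F z.1 (W z j.succ))).ι) := by
      rw [subIncl_ι]
      infer_instance
    exact mono_of_mono _ (stalkSub F (stepFam δ k F z.1 (W z j.succ))).ι
  · rw [stepFam_self]
    simp only [W, Fin.val_last, (he z).top (length_eq_sheafFun hd hF (sheafFun_pos z.2))]
    trivial

/-- A family of filtrations: the top is the sum of the bottom and the graded pieces. -/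
theorem mk_last_eq {κ : Type u} {r : κ → ℕ} (A : ∀ z : κ, Fin (r z + 1) → X.Modules)
    (inc : ∀ z (j : Fin (r z)), A z j.castSucc ⟶ A z j.succ) [∀ z j, Mono (inc z j)]
    (hA : ∀ z j, Cyc.CohLe δ k (A z j))
    (hlB : LocFinSupp fun b : (Σ z, Fin (r z + 1)) => A b.1 b.2) :
    Cyc.toK0CohQuot δ k (k - 1) (∐ fun z => A z (Fin.last (r z))) =
      Cyc.toK0CohQuot δ k (k - 1) (∐ fun z => A z 0) +
        Cyc.toK0CohQuot δ k (k - 1) (∐ fun b : (Σ z, Fin (r z)) => cokernel (inc b.1 b.2)) := by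
  let P := fun b : (Σ z, Fin (r z)) => A b.1 b.2.castSucc
  let Q := fun b : (Σ z, Fin (r z)) => A b.1 b.2.succ
  let R := fun b : (Σ z, Fin (r z)) => cokernel (inc b.1 b.2)
  have hPc : ∀ b, Cyc.CohLe δ k (P b) := fun b => hA _ _
  have hQc : ∀ b, Cyc.CohLe δ k (Q b) := fun b => hA _ _
  have hR : ∀ b, Cyc.CohLe δ k (R b) := fun b => cohLe_cokernel (inc b.1 b.2) (hPc b).1.1 (hQc b)
  have hlP : LocFinSupp P := locFinSupp_reindex (fun b : (Σ z, Fin (r z)) => (⟨b.1, b.2.castSucc⟩ : Σ z, Fin (r z + 1)))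
    (fun a b h => by
      obtain ⟨z, i⟩ := a
      obtain ⟨z', i'⟩ := b
      obtain rfl : z = z' := congrArg Sigma.fst h
      exact congrArg (Sigma.mk z) (Fin.castSucc_injective _ (eq_of_heq (Sigma.mk.inj_iff.1 h).2)))
    (fun b y hy => hy) hlB
  have hlQ : LocFinSupp Q := locFinSupp_reindex (fun b : (Σ z, Fin (r z)) => (⟨b.1, b.2.succ⟩ : Σ z, Fin (r z + 1)))
    (fun a b h => by
      obtain ⟨z, i⟩ := a
      obtain ⟨z', i'⟩ := b
      obtain rfl : z = z' := congrArg Sigma.fst h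
      exact congrArg (Sigma.mk z) (Fin.succ_injective _ (eq_of_heq (Sigma.mk.inj_iff.1 h).2)))
    (fun b y hy => hy) hlB
  have hex : ∀ (b : Σ z, Fin (r z)) (ξ : X), Function.Injective (CycLib.stalkLin (inc b.1 b.2) ξ) ∧
      Function.Exact (CycLib.stalkLin (inc b.1 b.2) ξ) (CycLib.stalkLin (cokernel.π (inc b.1 b.2)) ξ) ∧
      Function.Surjective (CycLib.stalkLin (cokernel.π (inc b.1 b.2)) ξ) := fun b ξ =>
    CycLib.stalk_shortExact (KZ.shortExact_of_mono (inc b.1 b.2)) (hPc b).1.1 (hQc b).1.1 (hR b).1.1 ξ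
  have hlR : LocFinSupp R := locFinSupp_reindex id Function.injective_id
    (fun b y hy => by haveI := hy; exact (hex b y).2.2.nontrivial) hlQ
  have e1 : Cyc.toK0CohQuot δ k (k - 1) (∐ Q) =
      Cyc.toK0CohQuot δ k (k - 1) (∐ P) + Cyc.toK0CohQuot δ k (k - 1) (∐ R) :=
    mk_eq_add_of_exact hd (sumMap fun b => inc b.1 b.2) (sumMap fun b => cokernel.π (inc b.1 b.2))
      (Sigma.hom_ext _ _ fun b => by simp [sumMap])
      (cohLe_sigma hPc hlP) (cohLe_sigma hQc hlQ) (cohLe_sigma hR hlR) fun ξ _ =>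
      sumMap_shortExact (fun b => (hPc b).1.1) hlP (fun b => (hQc b).1.1) hlQ ξ (fun b => (hR b).1.1) hlR _ _
        (fun b => (hex b ξ).1) (fun b => (hex b ξ).2.1) fun b => (hex b ξ).2.2
  have hBc : Cyc.CohLe δ k (∐ fun b : (Σ z, Fin (r z + 1)) => A b.1 b.2) := cohLe_sigma (fun b => hA _ _) hlB
  have hl : ∀ f : ∀ z, Fin (r z + 1), Cyc.CohLe δ k (∐ fun z => A z (f z)) := fun f =>
    cohLe_sigma (fun z => hA z _) (locFinSupp_reindex (fun z => (⟨z, f z⟩ : Σ z, Fin (r z + 1)))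
      (fun a b h => congrArg Sigma.fst h) (fun z y hy => hy) hlB)
  obtain ⟨S, s, s1, s2, s3⟩ := exists_split_last A
  have e2 := mk_eq_add_of_splitting s (s1 ▸ cohLe_sigma hPc hlP) (s2 ▸ hBc) (s3 ▸ hl fun z => Fin.last _)
  rw [s1, s2, s3] at e2
  obtain ⟨S', s', s1', s2', s3'⟩ := exists_split_zero A
  have e3 := mk_eq_add_of_splitting s' (s1' ▸ cohLe_sigma hQc hlQ) (s2' ▸ hBc) (s3' ▸ hl fun z => 0)
  rw [s1', s2', s3'] at e3
  change _ = Cyc.toK0CohQuot δ k (k - 1) (∐ Q) + _ at e3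
  change _ = Cyc.toK0CohQuot δ k (k - 1) (∐ P) + _ at e2
  have h := e2.symm.trans e3
  rw [e1, add_assoc] at h
  rw [add_left_cancel h, add_comm]

/-- The class of a pure module. -/
theorem mk_eq_cycle_of_pure {F : X.Modules} (hF : Cyc.CohLe δ k F) (hp : IsPure δ k F) :
    Cyc.toK0CohQuot δ k (k - 1) F =
      Cyc.toK0CohQuot δ k (k - 1) (Cyc.cycleSheafPos (Cyc.sheafFun δ k F)) := by
  obtain ⟨A, inc, top, hA, hAsupp, hA0, hAlen, hmono, htop⟩ := exists_filtration hd hF hp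
  haveI := hmono
  have hP : ∀ x : X, ∃ V : Set X, IsOpen V ∧ x ∈ V ∧
      {ζ | ζ ∈ V ∧ ζ ∈ {ζ | 0 < Cyc.sheafFun δ k F ζ}}.Finite := fun x => by
    obtain ⟨V, hVo, hxV, hVf⟩ := locallyFinite_gens hd (k := k - 1) (M := F) (by rwa [sub_add_cancel]) x
    refine ⟨V, hVo, hxV, hVf.subset fun ζ hζ => ⟨hζ.1, by rw [sub_add_cancel]; exact sheafFun_pos hζ.2, ?_⟩⟩
    by_contra hn
    haveI := not_nontrivial_iff_subsingleton.1 hn
    have h2 := length_eq_sheafFun hd hF (sheafFun_pos hζ.2)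
    rw [Module.length_eq_zero_iff.2 inferInstance] at h2
    have h4 : 0 < Cyc.sheafFun δ k F ζ := hζ.2
    have h3 : (Cyc.sheafFun δ k F ζ).toNat = 0 := by exact_mod_cast h2.symm
    omega
  have hlσ : ∀ {n : {ζ : X // 0 < Cyc.sheafFun δ k F ζ} → ℕ} {G : (Σ z, Fin (n z)) → X.Modules},
      (∀ i y, Nontrivial ((G i).presheaf.stalk y) → i.1.1 ⤳ y) → LocFinSupp G := fun {n G} h =>
    locFinSupp_of_point (fun i => i.1.1) h _ hP (fun i => i.1.2) fun ζ => finite_fibre ζ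
  have hlB : LocFinSupp fun b : (Σ z, Fin ((Cyc.sheafFun δ k F z.1).toNat + 1)) => A b.1 b.2 :=
    hlσ fun b => hAsupp _ _
  have hlz : ∀ f : ∀ z, Fin ((Cyc.sheafFun δ k F z.1).toNat + 1), LocFinSupp fun z => A z (f z) := fun f =>
    locFinSupp_reindex (fun z => (⟨z, f z⟩ : Σ z, Fin ((Cyc.sheafFun δ k F z.1).toNat + 1)))
      (fun a b h => congrArg Sigma.fst h) (fun z y hy => hy) hlB
  have eLast : Cyc.toK0CohQuot δ k (k - 1) (∐ fun z => A z (Fin.last _)) = Cyc.toK0CohQuot δ k (k - 1) F := by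
    refine mk_eq_of_bijective hd (Sigma.desc top) (cohLe_sigma (fun z => hA z _) (hlz _)) hF fun ξ hξ => ?_
    by_cases hz : 0 < Cyc.sheafFun δ k F ξ
    · exact desc_bijective (fun z => (hA z _).1.1) (hlz _) ξ top ⟨ξ, hz⟩ (htop ⟨ξ, hz⟩)
        fun z hne => hA0 z _ ξ hξ fun h => hne (Subtype.ext h.symm)
    · haveI := subsingleton_of_sheafFun hd hF hξ hz
      haveI := subsingleton_sigma (fun z => (hA z (Fin.last _)).1.1) (hlz _) (x := ξ)
        fun z => hA0 z _ ξ hξ fun h => hz (h ▸ z.2)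
      exact ⟨fun a b _ => Subsingleton.elim _ _, fun v => ⟨0, Subsingleton.elim _ _⟩⟩
  have eZero : Cyc.toK0CohQuot δ k (k - 1) (∐ fun z => A z 0) = 0 := by
    refine mk_zero_of_small hd (cohLe_sigma (fun z => hA z 0) (hlz _)) fun ξ hξ =>
      subsingleton_sigma (fun z => (hA z 0).1.1) (hlz _) fun z => ?_
    rcases eq_or_ne ξ z.1 with rfl | hne
    · exact Module.length_eq_zero_iff.1 ((hAlen z 0).trans (by simp))
    · exact hA0 z 0 ξ hξ hne
  rw [← eLast, mk_last_eq hd A inc hA hlB, eZero, zero_add]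
  exact mk_graded_eq hd _ sheafFun_pos hP _ (fun b => cohLe_cokernel _ (hA _ _).1.1 (hA _ _))
    fun b => step_cokernel hd (inc b.1 b.2) (hA _ _) (hA _ _) (hAsupp _ _) (hA0 _ _) (by
      rw [hAlen, hAlen, Fin.val_succ, Fin.val_castSucc, Nat.cast_add, Nat.cast_one]) (by
      rw [hAlen]; exact ENat.natCast_ne_top _)

omit hd in
theorem sheafFun_eq_of_bijective {F G : X.Modules} (p : F ⟶ G)
    (h : ∀ ξ, δ ξ = k → Function.Bijective (CycLib.stalkLin p ξ)) :
    Cyc.sheafFun δ k G = Cyc.sheafFun δ k F := funext fun ξ => by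
  simp only [Cyc.sheafFun]
  split_ifs with hξ
  · rw [(LinearEquiv.ofBijective _ (h ξ hξ)).length_eq]
  · rfl

/-- The class of a module is the class of its cycle. -/
theorem mk_eq_cycle {F : X.Modules} (hF : Cyc.CohLe δ k F) :
    Cyc.toK0CohQuot δ k (k - 1) F =
      Cyc.toK0CohQuot δ k (k - 1) (Cyc.cycleSheafPos (Cyc.sheafFun δ k F)) := by
  obtain ⟨G, p, hG, hGp, hb⟩ := exists_pure hd hF
  rw [mk_eq_of_bijective hd p hF hG hb, mk_eq_cycle_of_pure hd hG hGp, sheafFun_eq_of_bijective p hb]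

end Groth.Agent.Symb83
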