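import Groth.Agent.Symb83.Index

/-! The index in short exact sequences. -/

set_option autoImplicit false
set_option linter.style.haveILetI false
set_option linter.unusedSectionVars false

universe u

namespace Groth.Agent.Symb83

open CycDet IsLocalRing Groth.Agent.CycLib

variable {R : Type u} [CommRing R] [IsLocalRing R] [IsNoetherianRing R] {S : Type u} [CommRing S] [IsLocalRing S]
  [Algebra R S] {V V' V'' : Type u}
  [AddCommGroup V] [Module S V] [Module R V] [IsScalarTower R S V]
  [AddCommGroup V'] [Module S V'] [Module R V'] [IsScalarTower R S V']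
  [AddCommGroup V''] [Module S V''] [Module R V''] [IsScalarTower R S V'']
  {f : V' →ₗ[S] V} {g : V →ₗ[S] V''} {a b : ℕ}

theorem map_inf_comap {g : V' →ₗ[R] V} (L : Submodule R V) (F : Submodule R V') :
    (L.comap g ⊓ F).map g = L ⊓ F.map g := by
  ext z
  constructor
  · rintro ⟨y, ⟨hy, hyF⟩, rfl⟩
    exact ⟨hy, y, hyF, rfl⟩
  · rintro ⟨hz, y, hy, rfl⟩
    exact ⟨y, ⟨hz, hy⟩, rfl⟩

/-- The index of a glued flag. -/
theorem idx_glue (hf : Function.Injective f) (hg : Function.Surjective g)
    (hfg : LinearMap.range f = LinearMap.ker g) (L : Submodule R V) {eK : Fin a → V'} {eM : Fin b → V''}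
    (hK : Submodule.span S (Set.range eK) = ⊤) :
    idx S L (CycLib.glue f hg eK eM) =
      idx S (L.comap (f.restrictScalars R)) eK + idx S (L.map (g.restrictScalars R)) eM := by
  set e := CycLib.glue f hg eK eM
  set fR := f.restrictScalars R
  set gR := g.restrictScalars R
  have hgf : ∀ y, g (f y) = 0 := fun y =>
    LinearMap.mem_ker.mp (hfg ▸ LinearMap.mem_range_self f y)
  have e1 : ∀ k, k ≤ a → low R S e k = (low R S eK k).map fR := fun k hk => by
    refine le_antisymm (fun z hz => ?_) (fun z ⟨y, hy, hyz⟩ => hyz ▸ map_le_glue le_rfl ⟨y, hy, rfl⟩)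
    refine (Submodule.span_le.mpr ?_ : spanBefore S V e k ≤ (spanBefore S V' eK k).map f) hz
    rintro _ ⟨t, ht, rfl⟩
    have hta : (t : ℕ) < a := lt_of_lt_of_le ht hk
    have htt : t = Fin.castAdd b ⟨t, hta⟩ := Fin.ext rfl
    exact ⟨eK ⟨t, hta⟩, mem_spanBefore ht, (glue_left (hg := hg) (eM := eM) _).symm.trans (congrArg e htt).symm⟩
  have e2 : ∀ k, low R S e (a + k) = (low R S eM k).comap gR := fun k => by
    refine le_antisymm (fun z hz => ?_) fun z hz => mem_glue hfg hK k hz
    refine (Submodule.span_le.mpr ?_ : spanBefore S V e (a + k) ≤ (spanBefore S V'' eM k).comap g) hz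
    rintro _ ⟨t, ht, rfl⟩
    induction t using Fin.addCases with
    | left t =>
      rw [SetLike.mem_coe, Submodule.mem_comap, show e (Fin.castAdd b t) = f (eK t) from glue_left _, hgf]
      exact zero_mem _
    | right t =>
      rw [SetLike.mem_coe, Submodule.mem_comap, show g (e (Fin.natAdd a t)) = eM t from glue_right _]
      exact mem_spanBefore (Nat.lt_of_add_lt_add_left (show a + (t : ℕ) < a + k from ht))
  rw [idx, Fin.sum_univ_add, idx, idx]
  congr 1
  · refine Finset.sum_congr rfl fun i _ => ?_
    simp only [piece, lam, Fin.val_castAdd]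
    rw [e1 (i + 1) i.2, e1 i i.2.le, ← map_inf_comap, show e (Fin.castAdd b i) = fR (eK i) from glue_left _,
      ← Submodule.map_sup, ← Set.image_singleton (f := fR), ← Submodule.map_span, ← Submodule.map_sup,
      dist_map' (g := fR) hf]
  · refine Finset.sum_congr rfl fun i _ => ?_
    simp only [piece, lam, Fin.val_natAdd]
    rw [show a + (i : ℕ) + 1 = a + ((i : ℕ) + 1) by omega, e2, e2,
      ← show gR (e (Fin.natAdd a i)) = eM i from glue_right _]
    rw [← dist_comap (g := gR) hg]
    congr 1
    · refine le_antisymm (sup_le (fun z hz => Submodule.mem_sup_left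
        ⟨⟨z, hz.1, rfl⟩, hz.2⟩) (Submodule.comap_mono le_sup_right)) fun z hz => ?_
      obtain ⟨p, ⟨⟨x, hx, hxp⟩, hp⟩, w, hw, hpw⟩ := Submodule.mem_sup.mp (Submodule.mem_comap.mp hz)
      rw [show z = x + (z - x) by abel]
      refine Submodule.add_mem_sup ⟨hx, ?_⟩ ?_
      · rw [SetLike.mem_coe, Submodule.mem_comap]
        rw [hxp]; exact hp
      · rw [Submodule.mem_comap]
        rw [map_sub, hxp, ← hpw, add_sub_cancel_left]; exact hw
    · refine le_antisymm (sup_le (Submodule.comap_mono le_sup_left) ?_) fun z hz => ?_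
      · rw [Submodule.span_le, Set.singleton_subset_iff]
        exact Submodule.mem_sup_right (Submodule.mem_span_singleton_self _)
      · obtain ⟨w, hw, p, hp, hwp⟩ := Submodule.mem_sup.mp (Submodule.mem_comap.mp hz)
        obtain ⟨r, rfl⟩ := Submodule.mem_span_singleton.mp hp
        rw [show z = (z - r • e (Fin.natAdd a i)) + r • e (Fin.natAdd a i) by abel]
        refine Submodule.add_mem_sup ?_ (Submodule.smul_mem _ _ (Submodule.mem_span_singleton_self _))
        rw [Submodule.mem_comap]
        rw [map_sub, map_smul, ← hwp, add_sub_cancel_right]; exact hw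

end Groth.Agent.Symb83
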