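import Groth.Agent.Symb83.Lat
import Groth.Agent.Symb83.Flag
import Mathlib.RingTheory.OrderOfVanishing.Basic

/-! The index of a lattice against a marked flag, at a one dimensional place. -/

set_option autoImplicit false
set_option linter.style.haveILetI false
set_option linter.unusedSectionVars false

universe u

namespace Groth.Agent.Symb83

open CycDet IsLocalRing Groth.Agent.CycLib
open IntThLib (relLen)

variable (R : Type u) [CommRing R] (S : Type u) [CommRing S] [IsLocalRing S] [Algebra R S]

/-- The prime of the place. -/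
abbrev qOf : Ideal R := (maximalIdeal S).comap (algebraMap R S)

/-- `S` is the local ring of `R` at a prime of dimension one. -/
structure IsPlace [IsLocalRing R] : Prop where
  frac : ∀ c : S, ∃ a b : R, b ∉ qOf R S ∧ algebraMap R S b * c = algebraMap R S a
  dim : ∀ P : PrimeSpectrum R, qOf R S ≤ P.asIdeal → P.asIdeal = qOf R S ∨ P = closedPoint R

variable {R S} {V : Type u} [AddCommGroup V] [Module S V] [Module R V] [IsScalarTower R S V] {l : ℕ}

theorem isUnit_of_not_mem {a : R} (ha : a ∉ qOf R S) : IsUnit (algebraMap R S a) := by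
  by_contra h
  exact ha (Ideal.mem_comap.mpr ((mem_maximalIdeal _).mpr h))

theorem smul_mem_res {W : Submodule S V} {r : R} (hr : r ∉ qOf R S) {z : V} (h : r • z ∈ W) : z ∈ W := by
  rw [← algebraMap_smul S r z] at h
  exact (smul_mem_unit_iff (isUnit_of_not_mem hr)).mp h

variable (R S) in
/-- The flag member, over `R`. -/
noncomputable def low (e : Fin l → V) (k : ℕ) : Submodule R V :=
  (spanBefore S V e k).restrictScalars R

variable (R S) in
/-- The standard lattice of a step. -/
noncomputable def lam (e : Fin l → V) (j : Fin l) : Submodule R V := low R S e j ⊔ Submodule.span R {e j}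

variable (S) in
/-- The step of a lattice. -/
noncomputable def piece (L : Submodule R V) (e : Fin l → V) (k : ℕ) : Submodule R V :=
  (L ⊓ low R S e (k + 1)) ⊔ low R S e k

variable (S) in
/-- The index of a lattice against a marked flag. -/
noncomputable def idx (L : Submodule R V) (e : Fin l → V) : ℤ :=
  ∑ j : Fin l, IntThLib.dist (piece S L e j) (lam R S e j)

variable (R S) in
/-- The order function of `R ⧸ q`. -/
noncomputable def ordQ (a : R) : ℕ∞ := Ring.ord (R ⧸ qOf R S) (Ideal.Quotient.mk (qOf R S) a)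

theorem mem_low {e : Fin l → V} {k : ℕ} {z : V} : z ∈ low R S e k ↔ z ∈ spanBefore S V e k := Iff.rfl

theorem low_mono (e : Fin l → V) {i j : ℕ} (h : i ≤ j) : low R S e i ≤ low R S e j :=
  fun _ hz => spanBefore_mono e h hz

theorem span_le_low {e : Fin l → V} {j : Fin l} {k : ℕ} (h : (j : ℕ) < k) :
    Submodule.span R {e j} ≤ low R S e k :=
  Submodule.span_le.mpr (Set.singleton_subset_iff.mpr (mem_spanBefore h))

variable [IsLocalRing R]

theorem exists_num (hP : IsPlace R S) (c : S) (z : V) :
    ∃ a b : R, b ∉ qOf R S ∧ b • c • z = a • z := by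
  obtain ⟨a, b, hb, h⟩ := hP.frac c
  exact ⟨a, b, hb, by rw [← algebraMap_smul S b, smul_smul, h, algebraMap_smul]⟩

theorem exists_smul_mem_span (hP : IsPlace R S) (e : Fin l → V) (j : Fin l) {z : V}
    (hz : z ∈ low R S e (j + 1)) :
    ∃ b : R, b ∉ qOf R S ∧ b • z ∈ Submodule.span R {e j} ⊔ low R S e j := by
  rw [mem_low, spanBefore_succ, Submodule.mem_sup] at hz
  obtain ⟨w, hw, y, hy, rfl⟩ := hz
  obtain ⟨c, rfl⟩ := Submodule.mem_span_singleton.mp hy
  obtain ⟨a, b, hb, h⟩ := exists_num hP c (e j)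
  refine ⟨b, hb, ?_⟩
  rw [smul_add, h, add_comm]
  exact Submodule.add_mem_sup (Submodule.smul_mem _ a (Submodule.mem_span_singleton_self _))
    ((low R S e j).smul_mem b hw)

theorem pow_smul_eq_zero (hl : Module.length S V = l) {e : Fin l → V} (he : IsFlag S e) {r : R}
    (hr : r ∈ qOf R S) (v : V) : r ^ l • v = 0 := by
  have key : ∀ k, k ≤ l → ∀ z ∈ spanBefore S V e k, r ^ k • z = 0 := by
    intro k
    induction k with
    | zero =>
      intro _ z hz
      rw [spanBefore_zero, Submodule.mem_bot] at hz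
      rw [hz, smul_zero]
    | succ k ih =>
      intro hk z hz
      rw [show k + 1 = ((⟨k, hk⟩ : Fin l) : ℕ) + 1 from rfl, spanBefore_succ, Submodule.mem_sup] at hz
      obtain ⟨w, hw, y, hy, rfl⟩ := hz
      obtain ⟨c, rfl⟩ := Submodule.mem_span_singleton.mp hy
      rw [pow_succ, mul_smul]
      refine ih (by omega) _ ?_
      rw [← algebraMap_smul S r, smul_add, smul_comm _ c]
      exact add_mem (Submodule.smul_mem _ _ hw)
        (Submodule.smul_mem _ _ (he.1 ⟨k, hk⟩ _ (Ideal.mem_comap.mp hr)))
  exact key l le_rfl v (by rw [he.top hl]; trivial)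

variable [IsNoetherianRing R]

theorem relLen_ne_top (hP : IsPlace R S) (hl : Module.length S V = l) {e : Fin l → V} (he : IsFlag S e)
    {A C G : Submodule R V} (hA : A ≤ C ⊔ G) (hG : G.FG)
    (h : ∀ g ∈ G, ∃ s, s ∉ qOf R S ∧ s • g ∈ C) : relLen R A C ≠ ⊤ := by
  refine relLen_ne_top_of_loc hA hG fun P hne g hg => ?_
  by_cases hle : qOf R S ≤ P.asIdeal
  · rw [(hP.dim P hle).resolve_right hne]
    exact h g hg
  · obtain ⟨r, hr, hrP⟩ := SetLike.not_le_iff_exists.mp hle
    exact ⟨r ^ l, fun hc => hrP (P.isPrime.mem_of_pow_mem _ hc),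
      by rw [pow_smul_eq_zero hl he hr]; exact zero_mem _⟩

theorem near_of (hP : IsPlace R S) (hl : Module.length S V = l) {e : Fin l → V} (he : IsFlag S e)
    (F : Submodule R V) {G G' : Submodule R V} (hG : G.FG) (hG' : G'.FG)
    (h : ∀ g ∈ G, ∃ s, s ∉ qOf R S ∧ s • g ∈ G' ⊔ F) (h' : ∀ g ∈ G', ∃ s, s ∉ qOf R S ∧ s • g ∈ G ⊔ F) :
    Near (G ⊔ F) (G' ⊔ F) := by
  refine ⟨(G ⊔ F) ⊓ (G' ⊔ F), inf_le_left, inf_le_right,
    relLen_ne_top hP hl he (G := G) (sup_le le_sup_right ((le_inf le_sup_right le_sup_right).trans le_sup_left)) hG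
      fun g hg => ?_,
    relLen_ne_top hP hl he (G := G') (sup_le le_sup_right ((le_inf le_sup_right le_sup_right).trans le_sup_left)) hG'
      fun g hg => ?_⟩
  · obtain ⟨s, hs, hsg⟩ := h g hg
    exact ⟨s, hs, Submodule.mem_sup_left (G.smul_mem s hg), hsg⟩
  · obtain ⟨s, hs, hsg⟩ := h' g hg
    exact ⟨s, hs, hsg, Submodule.mem_sup_left (G'.smul_mem s hg)⟩

/-- Finitely generated with full localisation. -/
structure IsLat (S : Type u) [CommRing S] [IsLocalRing S] [Algebra R S] (L : Submodule R V) : Prop where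
  fg : L.FG
  full : ∀ v : V, ∃ s, s ∉ qOf R S ∧ s • v ∈ L

theorem IsLat.fg_inf {L : Submodule R V} (hL : IsLat S L) (F : Submodule R V) : (L ⊓ F).FG :=
  Submodule.FG.of_le hL.fg inf_le_left

theorem near_piece (hP : IsPlace R S) (hl : Module.length S V = l) {e : Fin l → V} (he : IsFlag S e)
    {L : Submodule R V} (hL : IsLat S L) (j : Fin l) : Near (piece S L e j) (lam R S e j) := by
  rw [piece, lam, sup_comm (low R S e j) (Submodule.span R {e j})]
  refine near_of hP hl he _ (hL.fg_inf _) (Submodule.fg_span_singleton _)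
    (fun g hg => exists_smul_mem_span hP e j hg.2) fun g hg => ?_
  obtain ⟨s, hs, hsg⟩ := hL.full g
  exact ⟨s, hs, Submodule.mem_sup_left
    ⟨hsg, (low R S e (j + 1)).smul_mem s (span_le_low (Nat.lt_succ_self _) hg)⟩⟩

theorem near_lat (hP : IsPlace R S) (hl : Module.length S V = l) {e : Fin l → V} (he : IsFlag S e)
    {L L' : Submodule R V} (hL : IsLat S L) (hL' : IsLat S L') : Near L L' := by
  have := near_of hP hl he ⊥ hL.fg hL'.fg (fun g _ => by rw [sup_bot_eq]; exact hL'.full g)
    (fun g _ => by rw [sup_bot_eq]; exact hL.full g)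
  rwa [sup_bot_eq, sup_bot_eq] at this

/-- The index changes by the distance of the lattices. -/
theorem idx_sub (hP : IsPlace R S) (hl : Module.length S V = l) {e : Fin l → V} (he : IsFlag S e)
    {L L' : Submodule R V} (hL : IsLat S L) (hL' : IsLat S L') :
    idx S L e - idx S L' e = IntThLib.dist L L' := by
  let D : ℕ → ℤ := fun k => IntThLib.dist (L ⊓ low R S e k) (L' ⊓ low R S e k)
  have step : ∀ j : Fin l, IntThLib.dist (piece S L e j) (lam R S e j) - IntThLib.dist (piece S L' e j) (lam R S e j) =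
      D (j + 1) - D j := fun j => by
    have h1 := dist_split (((near_lat hP hl he hL hL').inf_sup (low R S e (j + 1))).1) (low R S e j)
    have h2 : ∀ M : Submodule R V, M ⊓ low R S e (j + 1) ⊓ low R S e j = M ⊓ low R S e j := fun M => by
      rw [inf_assoc, inf_eq_right.mpr (low_mono e (Nat.le_succ _))]
    rw [h2, h2] at h1
    rw [dist_trans (near_piece hP hl he hL j) (Near.refl _), dist_refl, add_zero,
      dist_trans ((near_piece hP hl he hL j).trans (near_piece hP hl he hL' j).symm) (near_piece hP hl he hL' j)]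
    simp only [D]
    rw [h1]
    simp only [piece]
    ring
  rw [idx, idx, ← Finset.sum_sub_distrib, Finset.sum_congr rfl fun j _ => step j,
    Fin.sum_univ_eq_sum_range (fun k => D (k + 1) - D k), Finset.sum_range_sub]
  simp only [D, low, he.top hl, Submodule.restrictScalars_top, inf_top_eq, spanBefore_zero,
    Submodule.restrictScalars_bot, inf_bot_eq, dist_refl, sub_zero]

theorem ordQ_eq (hP : IsPlace R S) {e : Fin l → V} (he : IsFlag S e) (j : Fin l) (a : R) :
    relLen R (low R S e j ⊔ Submodule.span R {e j}) (low R S e j ⊔ Submodule.span R {a • e j}) = ordQ R S a := by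
  have hmem : ∀ r : R, r • e j ∈ low R S e j ↔ r ∈ qOf R S := fun r => by
    refine ⟨fun h => by_contra fun hr => he.2 j (smul_mem_res hr h), fun hr => ?_⟩
    rw [mem_low, ← algebraMap_smul S r]
    exact he.1 j _ (Ideal.mem_comap.mp hr)
  let P := low R S e j ⊔ Submodule.span R {a • e j}
  let T := low R S e j ⊔ Submodule.span R {e j}
  let g : R →ₗ[R] (↥T ⧸ P.submoduleOf T) := (P.submoduleOf T).mkQ ∘ₗ
    LinearMap.toSpanSingleton R T ⟨e j, Submodule.mem_sup_right (Submodule.mem_span_singleton_self _)⟩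
  have hker : LinearMap.ker g = qOf R S ⊔ Ideal.span {a} := by
    ext r
    show Submodule.Quotient.mk _ = 0 ↔ _
    rw [Submodule.Quotient.mk_eq_zero]
    show r • e j ∈ P ↔ _
    rw [Submodule.mem_sup, Submodule.mem_sup]
    constructor
    · rintro ⟨w, hw, z, hz, h⟩
      obtain ⟨t, rfl⟩ := Submodule.mem_span_singleton.mp hz
      refine ⟨r - t * a, (hmem _).mp ?_, t * a, Ideal.mem_span_singleton'.mpr ⟨t, rfl⟩, sub_add_cancel _ _⟩
      rw [sub_smul, mul_smul, ← h, add_sub_cancel_right]
      exact hw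
    · rintro ⟨w, hw, z, hz, rfl⟩
      obtain ⟨t, rfl⟩ := Ideal.mem_span_singleton'.mp hz
      exact ⟨w • e j, (hmem _).mpr hw, t • a • e j,
        Submodule.smul_mem _ _ (Submodule.mem_span_singleton_self _), by rw [smul_smul, ← add_smul]⟩
  have hsurj : Function.Surjective g := fun z => by
    obtain ⟨⟨z, hz⟩, rfl⟩ := Submodule.mkQ_surjective _ z
    obtain ⟨w, hw, b, hb, hwb⟩ := Submodule.mem_sup.mp hz
    obtain ⟨r, rfl⟩ := Submodule.mem_span_singleton.mp hb
    refine ⟨r, (Submodule.Quotient.eq _).mpr ?_⟩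
    show r • e j - z ∈ P
    rw [← hwb, sub_add_cancel_right]
    exact Submodule.mem_sup_left (neg_mem hw)
  rw [ordQ, Ring.ord, relLen]
  refine (((Submodule.quotEquivOfEq _ _ hker.symm).trans (g.quotKerEquivOfSurjective hsurj)).length_eq.symm).trans ?_
  rw [← Module.length_eq_of_surjective (S := R) (R := R ⧸ qOf R S) Ideal.Quotient.mk_surjective,
    show Ideal.span {Ideal.Quotient.mk (qOf R S) a} = (qOf R S ⊔ Ideal.span {a}).map (Ideal.Quotient.mk (qOf R S)) by
      rw [Ideal.map_sup, Ideal.map_quotient_self, bot_sup_eq, Ideal.map_span, Set.image_singleton]]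
  exact ((DoubleQuot.quotQuotEquivQuotOfLEₐ R (le_sup_left : qOf R S ≤ _)).toLinearEquiv.length_eq).symm

theorem dist_scale (hP : IsPlace R S) (hl : Module.length S V = l) {e : Fin l → V} (he : IsFlag S e) (j : Fin l)
    {a : R} (ha : a ∉ qOf R S) :
    Near (lam R S e j) (low R S e j ⊔ Submodule.span R {a • e j}) ∧
      IntThLib.dist (lam R S e j) (low R S e j ⊔ Submodule.span R {a • e j}) = ((ordQ R S a).toNat : ℤ) := by
  have hle : low R S e j ⊔ Submodule.span R {a • e j} ≤ lam R S e j := sup_le le_sup_left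
    (Submodule.span_le.mpr (Set.singleton_subset_iff.mpr
      (Submodule.mem_sup_right (Submodule.smul_mem _ _ (Submodule.mem_span_singleton_self _)))))
  refine ⟨Near.of_le hle (relLen_ne_top hP hl he (G := Submodule.span R {e j})
    (sup_le_sup le_sup_left le_rfl) (Submodule.fg_span_singleton _) fun g hg => ?_), ?_⟩
  · obtain ⟨r, rfl⟩ := Submodule.mem_span_singleton.mp hg
    refine ⟨a, ha, Submodule.mem_sup_right ?_⟩
    rw [smul_comm]
    exact Submodule.smul_mem _ r (Submodule.mem_span_singleton_self _)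
  · rw [IntThLib.dist, inf_eq_right.mpr hle, IntThLib.relLen_self, lam, ordQ_eq hP he j a]
    simp

theorem idx_scale (hP : IsPlace R S) (hl : Module.length S V = l) {L : Submodule R V} (hL : IsLat S L)
    (θ : ResidueField S → ℤ) (hmul : ∀ {a b : ResidueField S}, a ≠ 0 → b ≠ 0 → θ (a * b) = θ a + θ b)
    (hθ : ∀ a : R, a ∉ qOf R S → θ (residue S (algebraMap R S a)) = ((ordQ R S a).toNat : ℤ))
    {e : Fin l → V} (he : IsFlag S e) (j : Fin l) (c : Sˣ) {v : V}
    (hv : v - (c : S) • e j ∈ spanBefore S V e j) :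
    idx S L (Function.update e j v) = idx S L e + θ (residue S c) := by
  classical
  obtain ⟨he', hsp⟩ := he.update j c hv
  set e' := Function.update e j v
  have hlow : ∀ k, low R S e' k = low R S e k := fun k => by rw [low, low, hsp]
  have hpiece : ∀ k, piece S L e' k = piece S L e k := fun k => by rw [piece, piece, hlow, hlow]
  have he'j : e' j = v := Function.update_self _ _ _
  obtain ⟨a, b, hb, hab⟩ := hP.frac (c : S)
  have ha : a ∉ qOf R S := fun h => by
    have hu : IsUnit (algebraMap R S a) := hab ▸ (isUnit_of_not_mem hb).mul c.isUnit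
    exact (mem_maximalIdeal _).mp (Ideal.mem_comap.mp h) hu
  have hsame : low R S e j ⊔ Submodule.span R {a • e j} = low R S e' j ⊔ Submodule.span R {b • e' j} := by
    have hd : b • v - a • e j ∈ low R S e j := by
      rw [mem_low, ← algebraMap_smul S a, ← hab, mul_smul, ← algebraMap_smul S b v, ← smul_sub]
      exact Submodule.smul_mem _ _ hv
    rw [hlow, he'j]
    refine le_antisymm (sup_le le_sup_left ?_) (sup_le le_sup_left ?_) <;>
      rw [Submodule.span_le, Set.singleton_subset_iff]
    · rw [show a • e j = -(b • v - a • e j) + b • v by abel]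
      exact Submodule.add_mem_sup (neg_mem hd) (Submodule.mem_span_singleton_self _)
    · rw [show b • v = (b • v - a • e j) + a • e j by abel]
      exact Submodule.add_mem_sup hd (Submodule.mem_span_singleton_self _)
  obtain ⟨n1, d1⟩ := dist_scale hP hl he j ha
  obtain ⟨n2, d2⟩ := dist_scale hP hl he' j hb
  have hterm : IntThLib.dist (piece S L e' j) (lam R S e' j) =
      IntThLib.dist (piece S L e j) (lam R S e j) + θ (residue S c) := by
    have h3 : θ (residue S c) = ((ordQ R S a).toNat : ℤ) - ((ordQ R S b).toNat : ℤ) := by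
      have h4 := hmul (residue_ne_zero (isUnit_of_not_mem hb)) (residue_ne_zero c.isUnit)
      rw [← map_mul, hab, hθ a ha, hθ b hb] at h4
      omega
    rw [← hsame] at n2 d2
    rw [hpiece, dist_trans ((near_piece hP hl he hL j).trans n1) n2.symm,
      dist_trans (near_piece hP hl he hL j) n1, d1, dist_symm (low R S e j ⊔ _) (lam R S e' j), d2, h3]
    ring
  rw [idx, idx, ← Finset.add_sum_erase _ _ (Finset.mem_univ j),
    ← Finset.add_sum_erase (f := fun i : Fin l => IntThLib.dist (piece S L e i) (lam R S e i)) _ (Finset.mem_univ j),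
    hterm, Finset.sum_congr rfl fun i hi => ?_]
  · ring
  · rw [hpiece, lam, lam, hlow, show e' i = e i from Function.update_of_ne (Finset.ne_of_mem_erase hi) _ _]

theorem spanBefore_swap (e : Fin l → V) {a b : Fin l} (hab : (b : ℕ) + 1 = a) {k : ℕ} (hk : k ≠ a) :
    spanBefore S V (e ∘ Equiv.swap a b) k = spanBefore S V e k := by
  rw [spanBefore, spanBefore, Set.image_comp]
  congr 2
  ext t
  simp only [Set.mem_image, Set.mem_setOf_eq]
  constructor
  · rintro ⟨s, hs, rfl⟩
    rcases eq_or_ne s a with rfl | h1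
    · rw [Equiv.swap_apply_left]; omega
    rcases eq_or_ne s b with rfl | h2
    · rw [Equiv.swap_apply_right]; omega
    rw [Equiv.swap_apply_of_ne_of_ne h1 h2]; exact hs
  · intro ht
    refine ⟨Equiv.swap a b t, ?_, Equiv.swap_apply_self _ _ _⟩
    rcases eq_or_ne t a with rfl | h1
    · rw [Equiv.swap_apply_left]; omega
    rcases eq_or_ne t b with rfl | h2
    · rw [Equiv.swap_apply_right]; omega
    rw [Equiv.swap_apply_of_ne_of_ne h1 h2]; exact ht

theorem two_steps (hP : IsPlace R S) (hl : Module.length S V = l) {L : Submodule R V} (hL : IsLat S L)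
    {e : Fin l → V} (he : IsFlag S e) {a b : Fin l} (hab : (b : ℕ) + 1 = a)
    (hm : ∀ r ∈ maximalIdeal S, r • e a ∈ spanBefore S V e b) :
    IntThLib.dist (piece S L e b) (lam R S e b) + IntThLib.dist (piece S L e a) (lam R S e a) =
      IntThLib.dist ((L ⊓ low R S e (a + 1)) ⊔ low R S e b)
        (Submodule.span R {e b, e a} ⊔ low R S e b) := by
  have hba : low R S e b ≤ low R S e a := low_mono e (by omega)
  have hb1 : Submodule.span R {e b} ≤ low R S e a := span_le_low (by omega)
  have hpair : Submodule.span R ({e b, e a} : Set V) = Submodule.span R {e b} ⊔ Submodule.span R {e a} :=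
    Submodule.span_insert _ _
  have hN : Near ((L ⊓ low R S e (a + 1)) ⊔ low R S e b) (Submodule.span R {e b, e a} ⊔ low R S e b) := by
    refine near_of hP hl he _ (hL.fg_inf _) (Submodule.fg_span (Set.toFinite _)) (fun g hg => ?_) fun g hg => ?_
    · obtain ⟨t, ht, h1⟩ := exists_smul_mem_span hP e a hg.2
      obtain ⟨y, hy, w, hw, hyw⟩ := Submodule.mem_sup.mp h1
      obtain ⟨t', ht', h2⟩ := exists_smul_mem_span hP e b (z := w) (by rw [hab]; exact hw)
      refine ⟨t' * t, (inferInstance : (qOf R S).IsPrime).mul_notMem ht' ht, ?_⟩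
      rw [mul_smul, ← hyw, smul_add, hpair, sup_right_comm]
      exact add_mem (Submodule.mem_sup_right (Submodule.smul_mem _ _ hy))
        (Submodule.mem_sup_left h2)
    · obtain ⟨s, hs, hsg⟩ := hL.full g
      refine ⟨s, hs, Submodule.mem_sup_left ⟨hsg, (low R S e (a + 1)).smul_mem s ?_⟩⟩
      refine (Submodule.span_le.mpr ?_ : Submodule.span R {e b, e a} ≤ low R S e (a + 1)) hg
      exact Set.insert_subset (mem_spanBefore (by omega)) (Set.singleton_subset_iff.mpr (mem_spanBefore (by omega)))
  rw [dist_split hN (low R S e a)]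
  have hA1 : ((L ⊓ low R S e (a + 1)) ⊔ low R S e b) ⊓ low R S e a = piece S L e b := by
    rw [piece, hab, sup_comm _ (low R S e b), sup_inf_assoc_of_le _ hba, inf_assoc,
      inf_eq_right.mpr (low_mono e (Nat.le_succ _)), sup_comm]
  have hA2 : ((L ⊓ low R S e (a + 1)) ⊔ low R S e b) ⊔ low R S e a = piece S L e a := by
    rw [piece, sup_assoc, sup_eq_right.mpr hba]
  have hB2 : (Submodule.span R {e b, e a} ⊔ low R S e b) ⊔ low R S e a = lam R S e a := by
    rw [lam, hpair, sup_assoc, sup_eq_right.mpr hba, sup_comm (Submodule.span R {e b}), sup_assoc,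
      sup_eq_right.mpr hb1, sup_comm]
  have hB1 : (Submodule.span R {e b, e a} ⊔ low R S e b) ⊓ low R S e a = lam R S e b := by
    rw [lam, hpair]
    refine le_antisymm ?_ (le_inf (sup_le le_sup_right (le_sup_left.trans le_sup_left)) (sup_le hba hb1))
    rintro z ⟨hz, hza : z ∈ low R S e a⟩
    obtain ⟨p, hp, w, hw, rfl⟩ := Submodule.mem_sup.mp hz
    obtain ⟨y, hy, y', hy', rfl⟩ := Submodule.mem_sup.mp hp
    obtain ⟨r, rfl⟩ := Submodule.mem_span_singleton.mp hy'
    have hra : r • e a ∈ low R S e a := by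
      have := sub_mem hza (add_mem (hb1 hy) (hba hw))
      rwa [show y + r • e a + w - (y + w) = r • e a by abel] at this
    have hrq : r ∈ qOf R S := by_contra fun hr => he.2 a (smul_mem_res hr hra)
    refine add_mem (add_mem (Submodule.mem_sup_right hy) (Submodule.mem_sup_left ?_)) (Submodule.mem_sup_left hw)
    rw [mem_low, ← algebraMap_smul S r]
    exact hm _ (Ideal.mem_comap.mp hrq)
  rw [hA1, hA2, hB1, hB2]

theorem idx_swap (hP : IsPlace R S) (hl : Module.length S V = l) {L : Submodule R V} (hL : IsLat S L)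
    {e : Fin l → V} (a b : Fin l) (hab : (b : ℕ) + 1 = a) (he : IsFlag S e)
    (he' : IsFlag S (e ∘ Equiv.swap a b)) (hm : ∀ r ∈ maximalIdeal S, r • e a ∈ spanBefore S V e b) :
    idx S L (e ∘ Equiv.swap a b) = idx S L e := by
  classical
  set e' := e ∘ Equiv.swap a b
  have hlow : ∀ k, k ≠ (a : ℕ) → low R S e' k = low R S e k := fun k hk => by rw [low, low, spanBefore_swap e hab hk]
  have hm' : ∀ r ∈ maximalIdeal S, r • e' a ∈ spanBefore S V e' b := fun r hr => by
    rw [spanBefore_swap e hab (by omega), show e' a = e b from congrArg e (Equiv.swap_apply_left a b)]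
    exact he.1 b r hr
  have hne : b ≠ a := Fin.ne_of_val_ne (by omega)
  have hsum : ∀ v : Fin l → V, idx S L v = IntThLib.dist (piece S L v b) (lam R S v b) +
      IntThLib.dist (piece S L v a) (lam R S v a) +
      ∑ k ∈ ((Finset.univ : Finset (Fin l)).erase b).erase a, IntThLib.dist (piece S L v k) (lam R S v k) := fun v => by
    rw [idx, ← Finset.add_sum_erase _ _ (Finset.mem_univ b),
      ← Finset.add_sum_erase _ _ (Finset.mem_erase.mpr ⟨hne.symm, Finset.mem_univ a⟩), add_assoc]
  rw [hsum e', hsum e, two_steps hP hl hL he' hab hm', two_steps hP hl hL he hab hm, hlow b (by omega),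
    hlow _ (by omega), show e' a = e b from congrArg e (Equiv.swap_apply_left a b),
    show e' b = e a from congrArg e (Equiv.swap_apply_right a b), Set.pair_comm (e a) (e b)]
  congr 1
  refine Finset.sum_congr rfl fun k hk => ?_
  obtain ⟨hka, hkb, -⟩ : k ≠ a ∧ k ≠ b ∧ True := by simpa [Finset.mem_erase] using hk
  have hka' : (k : ℕ) ≠ a := fun h => hka (Fin.ext h)
  have hkb' : (k : ℕ) + 1 ≠ a := fun h => hkb (Fin.ext (by omega))
  rw [piece, piece, lam, lam, hlow _ hka', hlow _ hkb',
    show e' k = e k from congrArg e (Equiv.swap_apply_of_ne_of_ne hka hkb)]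

/-- The index as a weight. -/
noncomputable def idxWeight (hP : IsPlace R S) (hl : Module.length S V = l) {L : Submodule R V} (hL : IsLat S L)
    (θ : ResidueField S → ℤ) (hmul : ∀ {a b : ResidueField S}, a ≠ 0 → b ≠ 0 → θ (a * b) = θ a + θ b)
    (hθ : ∀ a : R, a ∉ qOf R S → θ (residue S (algebraMap R S a)) = ((ordQ R S a).toNat : ℤ)) :
    Weight S V l where
  Φ := idx S L
  θ := θ
  θ_mul := hmul
  scale := fun he j c _ hv => idx_scale hP hl hL θ hmul hθ he j c hv
  swap := fun a b hab he he' hm => idx_swap hP hl hL a b hab he he' hm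

end Groth.Agent.Symb83
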