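import Groth.Agent.QCoh.DevissageSum
import Groth.Agent.QCohColim92.Sections
import Groth.Agent.CycLib.StalkSES
import Groth.Agent.QCoh.SubCompare

/-! Locally finite direct sums of coherent modules. -/

set_option autoImplicit false
set_option linter.style.haveILetI false
set_option linter.unusedSectionVars false

universe u

open CategoryTheory CategoryTheory.Limits AlgebraicGeometry TopologicalSpace Opposite

namespace Groth.Agent.Symb83

variable {X : Scheme.{u}} {ι : Type u} (F : ι → X.Modules)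

open Classical in
/-- The projection to a summand. -/
noncomputable def sigmaProj (i : ι) : (∐ F) ⟶ F i :=
  Sigma.desc fun j => if h : j = i then eqToHom (congrArg F h) else 0

theorem ι_sigmaProj_self (i : ι) : Sigma.ι F i ≫ sigmaProj F i = 𝟙 (F i) := by
  rw [sigmaProj, Sigma.ι_desc, dif_pos rfl]
  rfl

theorem ι_sigmaProj_ne {i j : ι} (h : j ≠ i) : Sigma.ι F j ≫ sigmaProj F i = 0 := by
  rw [sigmaProj, Sigma.ι_desc, dif_neg h]

variable {F} (hF : ∀ i, Coh.IsQCoh (F i))
include hF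

theorem isQCoh_sigma : Coh.IsQCoh (∐ F) :=
  QCoh.isQCoh_colimit (Discrete.functor F) fun j => hF j.as

/-- Sections over an affine open meeting only the summands in `T`. -/
theorem sum_sections {U : X.Opens} (hU : IsAffineOpen U) (T : Finset ι)
    (hT : ∀ i, i ∉ T → Subsingleton Γ(F i, U)) (s : Γ(∐ F, U)) :
    ∑ i ∈ T, (Sigma.ι F i).app U ((sigmaProj F i).app U s) = s := by
  classical
  let φ : (∐ F) ⟶ ∐ F := ∑ i ∈ T, sigmaProj F i ≫ Sigma.ι F i
  have hc := QCohColim92.isColimitChart (D := Discrete.functor F) (c := colimit.cocone _)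
    (fun j => hF j.as) (colimit.isColimit _) hU
  have heq : (QCohColim92.chartFunctor hU).map φ = (QCohColim92.chartFunctor hU).map (𝟙 (∐ F)) := by
    refine hc.hom_ext fun j => ?_
    show (QCohColim92.chartFunctor hU).map (Sigma.ι F j.as) ≫ _ =
      (QCohColim92.chartFunctor hU).map (Sigma.ι F j.as) ≫ _
    rw [← Functor.map_comp, ← Functor.map_comp, Category.comp_id]
    by_cases hj : j.as ∈ T
    · congr 1
      rw [Preadditive.comp_sum, Finset.sum_eq_single j.as
        (fun b _ hb => by rw [← Category.assoc, ι_sigmaProj_ne F hb.symm, zero_comp])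
        (fun h => absurd hj h), ← Category.assoc, ι_sigmaProj_self, Category.id_comp]
    · refine ModuleCat.hom_ext (LinearMap.ext fun t => ?_)
      obtain ⟨t, rfl⟩ := (QCoh.chartEquiv hU (F j.as)).surjective t
      haveI := hT j.as hj
      rw [Subsingleton.elim t 0, map_zero]
      exact (map_zero _).trans (map_zero _).symm
  have h2 := congrArg (fun f => f.hom (QCoh.chartEquiv hU (∐ F) s)) heq
  have h3 : φ.app U s = s := by
    exact (QCoh.chartEquiv hU (∐ F)).injective ((QCohColim92.chart_map hU φ s).symm.trans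
      (h2.trans (QCohColim92.chart_map hU (𝟙 (∐ F)) s)))
  have h4 := QCoh.app_sum T (fun i => sigmaProj F i ≫ Sigma.ι F i) U s
  conv_rhs => rw [← h3]
  rw [h4]
  refine Finset.sum_congr rfl fun i _ => ?_
  rw [Scheme.Modules.Hom.comp_app]
  rfl

variable {hF}

omit hF in
theorem subsingleton_sections {M : X.Modules} {U : X.Opens} (h : ∀ x ∈ U, Subsingleton (M.presheaf.stalk x)) :
    Subsingleton Γ(M, U) :=
  ⟨fun a b => TopCat.Presheaf.section_ext
    (show TopCat.Sheaf AddCommGrpCat.{u} X.toPresheafedSpace.carrier from ⟨M.presheaf, M.isSheaf⟩) U a b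
    fun x hx => by haveI := h x hx; exact Subsingleton.elim (α := M.presheaf.stalk x) _ _⟩

/-- The supports are locally finite. -/
def LocFinSupp (F : ι → X.Modules) : Prop :=
  ∀ x : X, ∃ W : Set X, IsOpen W ∧ x ∈ W ∧ {i | ∃ y ∈ W, Nontrivial ((F i).presheaf.stalk y)}.Finite

omit hF in
theorem exists_finset_of_compact (hl : LocFinSupp F) {K : Set X} (hK : IsCompact K) :
    ∃ T : Finset ι, ∀ i, i ∉ T → ∀ y ∈ K, Subsingleton ((F i).presheaf.stalk y) := by
  classical
  choose W hWo hxW hWf using hl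
  obtain ⟨t, ht⟩ := hK.elim_finite_subcover W hWo fun x _ => Set.mem_iUnion.2 ⟨x, hxW x⟩
  refine ⟨t.biUnion fun x => (hWf x).toFinset, fun i hi y hy => not_nontrivial_iff_subsingleton.1 fun hn => hi ?_⟩
  obtain ⟨x, hx, hyW⟩ := Set.mem_iUnion₂.1 (ht hy)
  exact Finset.mem_biUnion.2 ⟨x, hx, (hWf x).mem_toFinset.2 ⟨y, hyW, hn⟩⟩

variable (hF)

theorem exists_sum_affine (hl : LocFinSupp F) {U : X.Opens} (hU : IsAffineOpen U) :
    ∃ T : Finset ι, (∀ i, i ∉ T → ∀ y ∈ U, Subsingleton ((F i).presheaf.stalk y)) ∧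
      ∀ s : Γ(∐ F, U), ∑ i ∈ T, (Sigma.ι F i).app U ((sigmaProj F i).app U s) = s := by
  obtain ⟨T, hT⟩ := exists_finset_of_compact hl hU.isCompact
  exact ⟨T, fun i hi y hy => hT i hi y hy,
    sum_sections hF hU T fun i hi => subsingleton_sections fun y hy => hT i hi y hy⟩

omit hF in
theorem isFT_sigma_aux {M : X.Modules} {U : X.Opens} (T : Finset ι) [hfin : ∀ i, Module.Finite Γ(X, U) Γ(F i, U)]
    (f : ∀ i, F i ⟶ M) (h : ∀ s : Γ(M, U), ∃ t : ∀ i, Γ(F i, U), ∑ i ∈ T, (f i).app U (t i) = s) :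
    Module.Finite Γ(X, U) Γ(M, U) := by
  refine Module.Finite.of_surjective (∑ i : ↥T, QCoh.appLin (f i) U ∘ₗ LinearMap.proj i :
    (∀ i : ↥T, Γ(F i, U)) →ₗ[Γ(X, U)] Γ(M, U)) fun s => ?_
  obtain ⟨t, rfl⟩ := h s
  refine ⟨fun i => t i, ?_⟩
  rw [LinearMap.sum_apply, ← Finset.sum_coe_sort T]
  rfl

/-- A locally finite sum of coherent modules is coherent. -/
theorem isCoh_sigma (hc : ∀ i, Coh.IsCoh (F i)) (hl : LocFinSupp F) : Coh.IsCoh (∐ F) := by
  refine ⟨isQCoh_sigma hF, (QCoh.isFT_iff (isQCoh_sigma hF)).2 fun U => ?_⟩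
  obtain ⟨T, -, hT⟩ := exists_sum_affine hF hl U.2
  haveI : ∀ i, Module.Finite Γ(X, U.1) Γ(F i, U.1) := fun i => QCoh.finite_of_isFT (hc i).1 (hc i).2 U.2
  exact isFT_sigma_aux T (fun i => Sigma.ι F i) fun s => ⟨fun i => (sigmaProj F i).app U.1 s, hT s⟩

theorem stalk_sum (hl : LocFinSupp F) (x : X) :
    ∃ T : Finset ι, (∀ i, Nontrivial ((F i).presheaf.stalk x) → i ∈ T) ∧
      ∀ m : (∐ F).presheaf.stalk x,
        ∑ i ∈ T, CycLib.stalkLin (Sigma.ι F i) x (CycLib.stalkLin (sigmaProj F i) x m) = m := by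
  obtain ⟨U₀, hU₀, hxU₀⟩ := QCoh.exists_affine_mem x
  obtain ⟨T, hT⟩ := exists_finset_of_compact hl hU₀.isCompact
  refine ⟨T, fun i hi => by_contra fun h => not_nontrivial_iff_subsingleton.2 (hT i h x hxU₀) hi, fun m => ?_⟩
  obtain ⟨V, hxV, n, rfl⟩ := (∐ F).presheaf.exists_germ_eq m
  obtain ⟨_, ⟨U, hU, rfl⟩, hxU, hle⟩ :=
    X.isBasis_affineOpens.exists_subset_of_mem_open (show x ∈ U₀ ⊓ V from ⟨hxU₀, hxV⟩) (U₀ ⊓ V).isOpen
  have hU' : IsAffineOpen U := hU
  have hUV : U ≤ V := fun a ha => (hle ha).2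
  rw [← TopCat.Presheaf.germ_res_apply (F := (∐ F).presheaf) (homOfLE hUV) x hxU n]
  set n' : Γ(∐ F, U) := (∐ F).presheaf.map (homOfLE hUV).op n
  have hs := sum_sections hF hU' T (fun i hi => subsingleton_sections fun y hy => hT i hi y (hle hy).1) n'
  conv_rhs => rw [← hs]
  rw [map_sum]
  refine Finset.sum_congr rfl fun i _ => ?_
  show CycLib.stalkAdd _ x (CycLib.stalkAdd _ x _) = _
  rw [CycLib.stalkAdd_germ, CycLib.stalkAdd_germ]

omit hF in
theorem stalkLin_ι_proj (i j : ι) (x : X) (t : (F j).presheaf.stalk x) [Decidable (j = i)] :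
    CycLib.stalkLin (sigmaProj F i) x (CycLib.stalkLin (Sigma.ι F j) x t) =
      if h : j = i then (show (F i).presheaf.stalk x from h ▸ t) else 0 := by
  obtain ⟨U, hx, n, rfl⟩ := (F j).presheaf.exists_germ_eq t
  show CycLib.stalkAdd _ x (CycLib.stalkAdd _ x _) = _
  rw [CycLib.stalkAdd_germ, CycLib.stalkAdd_germ, show (sigmaProj F i).app U ((Sigma.ι F j).app U n) = (Sigma.ι F j ≫ sigmaProj F i).app U n from rfl]
  split_ifs with h
  · subst h
    rw [ι_sigmaProj_self]
    rfl
  · rw [ι_sigmaProj_ne F h]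
    exact (congrArg ((F i).presheaf.germ U x hx) rfl).trans (map_zero _)

theorem support_sigma (hl : LocFinSupp F) {x : X} (h : Nontrivial ((∐ F).presheaf.stalk x)) :
    ∃ i, Nontrivial ((F i).presheaf.stalk x) := by
  by_contra hc
  push Not at hc
  obtain ⟨T, -, hT⟩ := stalk_sum hF hl x
  obtain ⟨a, b, hab⟩ := h.exists_pair_ne
  refine hab ((hT a).symm.trans (Eq.trans ?_ (hT b)))
  refine Finset.sum_congr rfl fun i _ => congrArg _ ?_
  haveI := hc i
  exact Subsingleton.elim (α := (F i).presheaf.stalk x) _ _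

/-- Lengths of stalks of a locally finite sum. -/
theorem length_stalk_sigma (hl : LocFinSupp F) (x : X) :
    ∃ T : Finset ι, (∀ i, Nontrivial ((F i).presheaf.stalk x) → i ∈ T) ∧
      Module.length (X.presheaf.stalk x) ((∐ F).presheaf.stalk x) =
        ∑ i ∈ T, Module.length (X.presheaf.stalk x) ((F i).presheaf.stalk x) := by
  classical
  obtain ⟨T, hT, hsum⟩ := stalk_sum hF hl x
  refine ⟨T, hT, ?_⟩
  let f : (∐ F).presheaf.stalk x →ₗ[X.presheaf.stalk x] ∀ i : ↥T, (F i).presheaf.stalk x :=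
    LinearMap.pi fun i => CycLib.stalkLin (sigmaProj F i) x
  have hf : Function.Bijective f := by
    refine ⟨fun a b hab => ?_, fun y => ⟨∑ i : ↥T, CycLib.stalkLin (Sigma.ι F i) x (y i), funext fun j => ?_⟩⟩
    · rw [← hsum a, ← hsum b]
      exact Finset.sum_congr rfl fun i hi => congrArg _ (congrFun hab ⟨i, hi⟩)
    · show CycLib.stalkLin (sigmaProj F j) x _ = y j
      rw [map_sum, Finset.sum_eq_single j (fun i _ hij => by
        rw [stalkLin_ι_proj, dif_neg (fun h => hij (Subtype.ext h))]) (fun h => absurd (Finset.mem_univ j) h),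
        stalkLin_ι_proj, dif_pos rfl]
  rw [(LinearEquiv.ofBijective f hf).length_eq, Module.length_pi_of_fintype,
    ← Finset.sum_coe_sort T (fun i => Module.length (X.presheaf.stalk x) ((F i).presheaf.stalk x))]

end Groth.Agent.Symb83
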