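import Groth.Agent.Symb83.Stalks
import Groth.Agent.Symb83.Glue
import Groth.Agent.Symb83.Chi

/-! The index cycle of a coherent module of dimension `≤ k + 1` with chosen markings at a point. -/

set_option autoImplicit false
set_option linter.style.haveILetI false
set_option linter.unusedSectionVars false

universe u

open CategoryTheory AlgebraicGeometry

namespace Groth.Agent.Symb83

open CDiv6 CycAlg
open IntThLib (relLen)

variable {X : Scheme.{u}} (δ : X → ℤ) (k : ℤ)

/-- Points of dimension `k + 1` above `x`. -/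
abbrev Gens (x : X) : Type u := {ξ : X // ξ ⤳ x ∧ δ ξ = k + 1}

/-- The number of steps of a marking. -/
noncomputable def flagLen (M : X.Modules) (ξ : X) : ℕ :=
  (Module.length (X.presheaf.stalk ξ) (M.presheaf.stalk ξ)).toNat

open Classical in
/-- A chosen marking. -/
noncomputable def flag (M : X.Modules) (ξ : X) : Fin (flagLen M ξ) → M.presheaf.stalk ξ :=
  Classical.epsilon fun e => IsFlag (X.presheaf.stalk ξ) e

/-- The index of a lattice at a specialisation. -/
noncomputable def idxL {M : X.Modules} {x ξ : X} (h : ξ ⤳ x)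
    (L : letI := stMod M h; Submodule (X.presheaf.stalk x) (M.presheaf.stalk ξ)) {l : ℕ}
    (e : Fin l → M.presheaf.stalk ξ) : ℤ :=
  letI := stAlg h; letI := stMod M h; haveI := stTower M h
  idx (X.presheaf.stalk ξ) L e

/-- The image of the stalk at the special point. -/
noncomputable def spRange (M : X.Modules) {x ξ : X} (h : ξ ⤳ x) :
    letI := stMod M h; Submodule (X.presheaf.stalk x) (M.presheaf.stalk ξ) :=
  letI := stMod M h
  LinearMap.range (spLin M h)

/-- The family of module structures at the generizations. -/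
noncomputable abbrev gensMod (M : X.Modules) (x : X) (i : Gens δ k x) :
    Module (X.presheaf.stalk x) (M.presheaf.stalk i.1) :=
  stMod M i.2.1

/-- The map to a product of lattices. -/
noncomputable def spPi (M : X.Modules) (x : X)
    (B : letI := gensMod δ k M x; ∀ i : Gens δ k x, Submodule (X.presheaf.stalk x) (M.presheaf.stalk i.1))
    (hB : letI := gensMod δ k M x; ∀ i, spRange M i.2.1 ≤ B i) :
    letI := gensMod δ k M x
    M.presheaf.stalk x →ₗ[X.presheaf.stalk x] ∀ i : Gens δ k x, ↥(B i) :=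
  letI := gensMod δ k M x
  toPi (fun i => spLin M i.2.1) B fun i m => hB i ⟨m, rfl⟩

open Classical in
/-- The coefficient of the index cycle. -/
noncomputable def nu (M : X.Modules) (x : X) : ℤ :=
  letI := gensMod δ k M x
  if δ x = k then
    (∑ᶠ i : Gens δ k x, idxL i.2.1 (spRange M i.2.1) (flag M i.1)) +
      chi (spPi δ k M x (fun i => spRange M i.2.1) fun _ => le_rfl)
  else 0

variable {δ k} [IsLocallyNoetherian X] (hd : Cyc.IsDimFun X δ) {M : X.Modules} (hM : Cyc.CohLe δ (k + 1) M)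
include hd hM

theorem length_ne_top {ξ : X} (hξ : δ ξ = k + 1) :
    Module.length (X.presheaf.stalk ξ) (M.presheaf.stalk ξ) ≠ ⊤ :=
  (CycLib.length_stalk_lt_top M hM.1 fun y hy hyξ =>
    CycLib.eq_of_delta_le hd hyξ ((hM.2 y hy).trans hξ.ge)).ne

theorem length_eq_flagLen {ξ : X} (hξ : δ ξ = k + 1) :
    Module.length (X.presheaf.stalk ξ) (M.presheaf.stalk ξ) = flagLen M ξ :=
  (ENat.natCast_toNat (length_ne_top hd hM hξ)).symm

theorem isFlag_flag {ξ : X} (hξ : δ ξ = k + 1) : IsFlag (X.presheaf.stalk ξ) (flag M ξ) :=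
  Classical.epsilon_spec (p := fun e : Fin (flagLen M ξ) → M.presheaf.stalk ξ => IsFlag (X.presheaf.stalk ξ) e)
    (exists_flag (length_eq_flagLen hd hM hξ))

omit hd hM in
theorem flagLen_eq_zero {ξ : X} (h : Subsingleton (M.presheaf.stalk ξ)) : flagLen M ξ = 0 := by
  rw [flagLen, Module.length_eq_zero_iff.2 h]
  rfl

omit hd hM in
theorem idxL_eq_zero {x ξ : X} (h : ξ ⤳ x)
    (L : letI := stMod M h; Submodule (X.presheaf.stalk x) (M.presheaf.stalk ξ)) {l : ℕ}
    (e : Fin l → M.presheaf.stalk ξ) (hl : l = 0) : idxL h L e = 0 := by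
  subst hl
  simp [idxL, idx]

variable {x : X}

theorem finite_stalk : Module.Finite (X.presheaf.stalk x) (M.presheaf.stalk x) :=
  QCoh.finite_stalk_of_isFT hM.1.1 hM.1.2 x

theorem fg_spRange {ξ : X} (h : ξ ⤳ x) :
    letI := stMod M h; (spRange M h).FG := by
  letI := stMod M h
  haveI := finite_stalk hd hM (x := x)
  rw [spRange, LinearMap.range_eq_map]
  exact Submodule.FG.map _ Module.Finite.fg_top

theorem isLat {ξ : X} (h : ξ ⤳ x)
    {B : letI := stMod M h; Submodule (X.presheaf.stalk x) (M.presheaf.stalk ξ)}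
    (hB : letI := stMod M h; spRange M h ≤ B ∧ B.FG) :
    letI := stAlg h; letI := stMod M h; IsLat (X.presheaf.stalk ξ) B := by
  letI := stAlg h; letI := stMod M h
  refine ⟨hB.2, fun v => ?_⟩
  obtain ⟨s, m, hs, hm⟩ := exists_spLin_eq hM.1.1 h v
  exact ⟨s, hs, hB.1 ⟨m, hm⟩⟩

theorem finCoh_spPi (hx : δ x = k)
    (B : letI := gensMod δ k M x; ∀ i : Gens δ k x, Submodule (X.presheaf.stalk x) (M.presheaf.stalk i.1))
    (hB : letI := gensMod δ k M x; ∀ i, spRange M i.2.1 ≤ B i)
    (hfg : letI := gensMod δ k M x; ∀ i, (B i).FG) :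
    letI := gensMod δ k M x
    FinCoh (X.presheaf.stalk x) (spPi δ k M x B hB) 0 := by
  classical
  letI := gensMod δ k M x
  haveI := finite_stalk hd hM (x := x)
  set T : Set (Gens δ k x) := {i | Nontrivial (M.presheaf.stalk i.1)}
  have hT : T.Finite := finite_gens hd hM x
  haveI : Module.Finite (X.presheaf.stalk x) (∀ i, ↥(B i)) :=
    finite_pi (R := X.presheaf.stalk x) hT (fun i hi => not_nontrivial_iff_subsingleton.1 hi) hfg
  refine finCoh_of_loc (fun P hP m hm => ?_) fun P hP n => ?_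
  · obtain ⟨y, hy, hyx, hyP⟩ := exists_point_ne P hP
    have hy1 : k + 1 ≤ δ y := by have := CycLib.delta_lt hd hy hyx; omega
    have h0 : spLin M hy m = 0 := by
      by_cases hn : Nontrivial (M.presheaf.stalk y)
      · exact (congrArg Subtype.val (congrFun hm ⟨y, hy, (hM.2 y hn).antisymm hy1⟩) :)
      · haveI := not_nontrivial_iff_subsingleton.1 hn
        exact Subsingleton.elim _ _
    rw [← hyP]
    exact spLin_eq_zero hM.1.1 hy h0
  · obtain ⟨y, hy, hyx, hyP⟩ := exists_point_ne P hP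
    have hy1 : k + 1 ≤ δ y := by have := CycLib.delta_lt hd hy hyx; omega
    have hkill : ∀ i : Gens δ k x, i.1 ≠ y → ∃ t, t ∉ P.asIdeal ∧ ∀ v : M.presheaf.stalk i.1, t • v = 0 := by
      intro i hi
      have hnle : ¬ (primeOf i.2.1).asIdeal ≤ (primeOf hy).asIdeal := fun hle => hi <|
        CycLib.eq_of_delta_le hd ((H23.StalkPrimes.primeOf_le_iff hy i.2.1).1 hle) (i.2.2.le.trans hy1)
      obtain ⟨r, hr, hrP⟩ := SetLike.not_le_iff_exists.1 hnle
      letI := stAlg i.2.1; haveI := stTower M i.2.1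
      exact ⟨r ^ flagLen M i.1, fun hc => hrP (hyP.symm ▸ P.isPrime.mem_of_pow_mem _ hc),
        fun v => pow_smul_eq_zero (length_eq_flagLen hd hM i.2.2) (isFlag_flag hd hM i.2.2) hr v⟩
    choose t ht htv using hkill
    let t' : Gens δ k x → X.presheaf.stalk x := fun i => if h : i.1 ≠ y then t i h else 1
    let s₀ := ∏ i ∈ hT.toFinset, t' i
    have hs₀ : s₀ ∈ P.asIdeal.primeCompl := Submonoid.prod_mem _ fun i _ => by
      simp only [t']
      split_ifs with h
      · exact ht i h
      · exact P.asIdeal.primeCompl.one_mem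
    have hs₀v : ∀ i : Gens δ k x, i.1 ≠ y → ∀ v : M.presheaf.stalk i.1, s₀ • v = 0 := fun i hi v => by
      by_cases hn : i ∈ T
      · rw [show s₀ = (∏ j ∈ hT.toFinset.erase i, t' j) * t' i from
          (Finset.prod_erase_mul _ _ (hT.mem_toFinset.2 hn)).symm, mul_smul,
          show t' i = t i hi from dif_pos hi, htv i hi, smul_zero]
      · haveI := not_nontrivial_iff_subsingleton.1 hn
        exact Subsingleton.elim _ _
    by_cases hyk : δ y = k + 1
    · let i₀ : Gens δ k x := ⟨y, hy, hyk⟩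
      obtain ⟨s, m, hs, hm⟩ := exists_spLin_eq hM.1.1 hy ((n i₀).1)
      rw [hyP] at hs
      refine ⟨s₀ * s, P.isPrime.mul_notMem hs₀ hs, s₀ • m, funext fun i => Subtype.ext ?_⟩
      show spLin M i.2.1 (s₀ • m) = (s₀ * s) • (n i).1
      rw [map_smul, mul_smul]
      by_cases hi : i.1 = y
      · obtain rfl : i = i₀ := Subtype.ext hi
        exact congrArg (s₀ • ·) hm
      · rw [hs₀v i hi, hs₀v i hi]
    · refine ⟨s₀, hs₀, 0, funext fun i => Subtype.ext ?_⟩
      show spLin M i.2.1 0 = s₀ • (n i).1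
      rw [map_zero, hs₀v i fun e => hyk (e ▸ i.2.2)]

/-- The coefficient may be computed with any larger lattices. -/
theorem nu_eq (hx : δ x = k) (T : Finset (Gens δ k x)) (hT : ∀ i, Nontrivial (M.presheaf.stalk i.1) → i ∈ T)
    (B : letI := gensMod δ k M x; ∀ i : Gens δ k x, Submodule (X.presheaf.stalk x) (M.presheaf.stalk i.1))
    (hB : letI := gensMod δ k M x; ∀ i, spRange M i.2.1 ≤ B i)
    (hfg : letI := gensMod δ k M x; ∀ i, (B i).FG) :
    letI := gensMod δ k M x
    nu δ k M x = (∑ i ∈ T, idxL i.2.1 (B i) (flag M i.1)) + chi (spPi δ k M x B hB) := by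
  classical
  letI := gensMod δ k M x
  haveI := finite_stalk hd hM (x := x)
  let A : ∀ i : Gens δ k x, Submodule (X.presheaf.stalk x) (M.presheaf.stalk i.1) := fun i => spRange M i.2.1
  have hsub : ∀ i, i ∉ T → Subsingleton (M.presheaf.stalk i.1) := fun i hi =>
    not_nontrivial_iff_subsingleton.1 fun h => hi (hT i h)
  rw [nu, if_pos hx, finsum_eq_sum_of_support_subset (s := T) _ fun i hi => by
    by_contra hc
    exact hi (idxL_eq_zero i.2.1 _ _ (flagLen_eq_zero (hsub i hc)))]
  have hAfg : ∀ i, (A i).FG := fun i => fg_spRange hd hM i.2.1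
  have hrel : ∀ i, relLen (X.presheaf.stalk x) (B i) (A i) ≠ ⊤ ∧
      idxL i.2.1 (B i) (flag M i.1) - idxL i.2.1 (A i) (flag M i.1) =
        ((relLen (X.presheaf.stalk x) (B i) (A i)).toNat : ℤ) := fun i => by
    letI := stAlg i.2.1; haveI := stTower M i.2.1
    have hP := isPlace hd i.2.1 (show δ x + 1 = δ i.1 by rw [hx, i.2.2])
    have hl := length_eq_flagLen hd hM i.2.2
    have he := isFlag_flag hd hM i.2.2
    refine ⟨relLen_ne_top hP hl he (le_sup_right : B i ≤ A i ⊔ B i) (hfg i)
      fun g _ => (isLat hd hM i.2.1 ⟨le_rfl, hAfg i⟩).full g, ?_⟩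
    rw [idxL, idxL, idx_sub hP hl he (isLat hd hM i.2.1 ⟨hB i, hfg i⟩) (isLat hd hM i.2.1 ⟨le_rfl, hAfg i⟩),
      IntThLib.dist, inf_eq_right.2 (hB i), IntThLib.relLen_self]
    simp [A]
  have hlen := length_coker_piIncl (R := X.presheaf.stalk x) T.finite_toSet (fun i hi => hsub i hi) (fun i => hB i)
  rw [Finset.finite_toSet_toFinset] at hlen
  have hinj : Function.Injective (piIncl (R := X.presheaf.stalk x) (B := A) (B' := B) fun i => hB i) :=
    fun a b hab => funext fun i => Submodule.inclusion_injective (hB i) (congrFun hab i)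
  have hfin : (∑ i ∈ T, relLen (X.presheaf.stalk x) (B i) (A i)) ≠ ⊤ :=
    Finset.sum_induction _ (· ≠ ⊤) (fun a b ha hb => WithTop.add_ne_top.2 ⟨ha, hb⟩) (by simp) fun i _ => (hrel i).1
  rw [chi_comp hinj (finCoh_spPi hd hM hx A (fun _ => le_rfl) hAfg) (by rw [hlen]; exact hfin), hlen,
    ENat.toNat_sum fun i _ => (hrel i).1, Nat.cast_sum, ← Finset.sum_congr rfl fun i _ => (hrel i).2,
    Finset.sum_sub_distrib]
  show _ + (chi (spPi δ k M x B hB) + _) = _
  ring

end Groth.Agent.Symb83
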