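import Groth.Agent.Symb83.Pure
import Groth.Agent.Symb83.LocSum

/-! Sums of maps, and classes from exactness at the points of dimension `k`. -/

set_option autoImplicit false
set_option linter.style.haveILetI false
set_option linter.unusedSectionVars false

universe u

open CategoryTheory CategoryTheory.Limits AlgebraicGeometry TopologicalSpace

namespace Groth.Agent.Symb83

variable {X : Scheme.{u}}

/-- The map of sums induced by maps of the summands. -/
noncomputable abbrev sumMap {ι : Type u} {F F' : ι → X.Modules} (f : ∀ i, F i ⟶ F' i) : (∐ F) ⟶ ∐ F' :=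
  Sigma.desc fun i => f i ≫ Sigma.ι F' i

theorem sumMap_comp {ι : Type u} {F F' F'' : ι → X.Modules} (f : ∀ i, F i ⟶ F' i) (g : ∀ i, F' i ⟶ F'' i) :
    sumMap f ≫ sumMap g = sumMap fun i => f i ≫ g i :=
  Sigma.hom_ext _ _ fun i => by simp

theorem sumMap_proj {ι : Type u} {F F' : ι → X.Modules} (f : ∀ i, F i ⟶ F' i) (i : ι) :
    sumMap f ≫ sigmaProj F' i = sigmaProj F i ≫ f i :=
  Sigma.hom_ext _ _ fun j => by
    rw [Sigma.ι_desc_assoc]
    by_cases h : j = i
    · subst h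
      rw [Category.assoc, ι_sigmaProj_self, Category.comp_id, ← Category.assoc, ι_sigmaProj_self, Category.id_comp]
    · rw [Category.assoc, ι_sigmaProj_ne F' h, comp_zero, ← Category.assoc, ι_sigmaProj_ne F h, zero_comp]

section Stalk

variable {ι : Type u} {F F' : ι → X.Modules} (hF : ∀ i, Coh.IsQCoh (F i)) (hl : LocFinSupp F)
  (hF' : ∀ i, Coh.IsQCoh (F' i)) (hl' : LocFinSupp F') (x : X)
include hF hl

theorem stalk_ext {a b : (∐ F).presheaf.stalk x}
    (h : ∀ i, CycLib.stalkLin (sigmaProj F i) x a = CycLib.stalkLin (sigmaProj F i) x b) : a = b := by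
  obtain ⟨T, -, hT⟩ := stalk_sum hF hl x
  rw [← hT a, ← hT b]
  exact Finset.sum_congr rfl fun i _ => congrArg _ (h i)

/-- Prescribe the components of an element of the stalk. -/
theorem exists_stalk_elem (t : ∀ i, (F i).presheaf.stalk x) :
    ∃ a, ∀ i, CycLib.stalkLin (sigmaProj F i) x a = t i := by
  classical
  obtain ⟨T, hT, -⟩ := stalk_sum hF hl x
  refine ⟨∑ i ∈ T, CycLib.stalkLin (Sigma.ι F i) x (t i), fun j => ?_⟩
  by_cases hj : j ∈ T
  · rw [map_sum, Finset.sum_eq_single j (fun i _ hij => by rw [stalkLin_ι_proj, dif_neg hij])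
      (fun h => absurd hj h), stalkLin_ι_proj, dif_pos rfl]
  · haveI := not_nontrivial_iff_subsingleton.1 fun hn => hj (hT j hn)
    exact Subsingleton.elim _ _

theorem desc_bijective {N : X.Modules} (φ : ∀ i, F i ⟶ N) (i₀ : ι)
    (h0 : Function.Bijective (CycLib.stalkLin (φ i₀) x))
    (hz : ∀ i, i ≠ i₀ → Subsingleton ((F i).presheaf.stalk x)) :
    Function.Bijective (CycLib.stalkLin (Sigma.desc φ) x) := by
  classical
  have key : ∀ a, a = CycLib.stalkLin (Sigma.ι F i₀) x (CycLib.stalkLin (sigmaProj F i₀) x a) := fun a =>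
    stalk_ext hF hl x fun i => by
      by_cases hi : i = i₀
      · subst hi; rw [stalkLin_ι_proj, dif_pos rfl]
      · haveI := hz i hi; exact Subsingleton.elim _ _
  have hcomp : ∀ t, CycLib.stalkLin (Sigma.desc φ) x (CycLib.stalkLin (Sigma.ι F i₀) x t) =
      CycLib.stalkLin (φ i₀) x t := fun t => by rw [← stalkLin_comp, Sigma.ι_desc]
  refine ⟨fun a b hab => ?_, fun n => ?_⟩
  · rw [key a, key b, hcomp, hcomp] at hab
    rw [key a, key b, h0.1 hab]
  · obtain ⟨t, rfl⟩ := h0.2 n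
    exact ⟨_, hcomp t⟩

include hF' hl'

theorem sumMap_bijective (f : ∀ i, F i ⟶ F' i) (h : ∀ i, Function.Bijective (CycLib.stalkLin (f i) x)) :
    Function.Bijective (CycLib.stalkLin (sumMap f) x) := by
  have hp : ∀ i a, CycLib.stalkLin (sigmaProj F' i) x (CycLib.stalkLin (sumMap f) x a) =
      CycLib.stalkLin (f i) x (CycLib.stalkLin (sigmaProj F i) x a) := fun i a => by
    rw [← stalkLin_comp, sumMap_proj, stalkLin_comp]
  refine ⟨fun a b hab => stalk_ext hF hl x fun i => (h i).1 (by rw [← hp, ← hp, hab]), fun n => ?_⟩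
  choose t ht using fun i => (h i).2 (CycLib.stalkLin (sigmaProj F' i) x n)
  obtain ⟨a, ha⟩ := exists_stalk_elem hF hl x t
  exact ⟨a, stalk_ext hF' hl' x fun i => by rw [hp, ha, ht]⟩

theorem sumMap_shortExact {F'' : ι → X.Modules} (hF'' : ∀ i, Coh.IsQCoh (F'' i)) (hl'' : LocFinSupp F'')
    (f : ∀ i, F i ⟶ F' i) (g : ∀ i, F' i ⟶ F'' i)
    (hi : ∀ i, Function.Injective (CycLib.stalkLin (f i) x))
    (he : ∀ i, Function.Exact (CycLib.stalkLin (f i) x) (CycLib.stalkLin (g i) x))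
    (hs : ∀ i, Function.Surjective (CycLib.stalkLin (g i) x)) :
    Function.Injective (CycLib.stalkLin (sumMap f) x) ∧
      Function.Exact (CycLib.stalkLin (sumMap f) x) (CycLib.stalkLin (sumMap g) x) ∧
      Function.Surjective (CycLib.stalkLin (sumMap g) x) := by
  have hp : ∀ i a, CycLib.stalkLin (sigmaProj F' i) x (CycLib.stalkLin (sumMap f) x a) =
      CycLib.stalkLin (f i) x (CycLib.stalkLin (sigmaProj F i) x a) := fun i a => by
    rw [← stalkLin_comp, sumMap_proj, stalkLin_comp]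
  have hq : ∀ i a, CycLib.stalkLin (sigmaProj F'' i) x (CycLib.stalkLin (sumMap g) x a) =
      CycLib.stalkLin (g i) x (CycLib.stalkLin (sigmaProj F' i) x a) := fun i a => by
    rw [← stalkLin_comp, sumMap_proj, stalkLin_comp]
  refine ⟨fun a b hab => stalk_ext hF hl x fun i => hi i (by rw [← hp, ← hp, hab]), fun m => ⟨fun hm => ?_, ?_⟩,
    fun n => ?_⟩
  · choose t ht using fun i => (he i _).1 (by rw [← hq, hm, map_zero])
    obtain ⟨a, ha⟩ := exists_stalk_elem hF hl x t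
    exact ⟨a, stalk_ext hF' hl' x fun i => by rw [hp, ha, ht]⟩
  · rintro ⟨a, rfl⟩
    refine stalk_ext hF'' hl'' x fun i => ?_
    rw [hq, hp, map_zero]
    exact (he i _).2 ⟨_, rfl⟩
  · choose t ht using fun i => hs i (CycLib.stalkLin (sigmaProj F'' i) x n)
    obtain ⟨a, ha⟩ := exists_stalk_elem hF' hl' x t
    exact ⟨a, stalk_ext hF'' hl'' x fun i => by rw [hq, ha, ht]⟩

end Stalk

variable {δ : X → ℤ} {k : ℤ} [IsLocallyNoetherian X] (hd : Cyc.IsDimFun X δ)
include hd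

/-- Exactness at the points of dimension `k` gives additivity. -/
theorem mk_eq_add_of_exact {A B C : X.Modules} (f : A ⟶ B) (g : B ⟶ C) (w : f ≫ g = 0) (hA : Cyc.CohLe δ k A)
    (hB : Cyc.CohLe δ k B) (hC : Cyc.CohLe δ k C)
    (h : ∀ ξ, δ ξ = k → Function.Injective (CycLib.stalkLin f ξ) ∧
      Function.Exact (CycLib.stalkLin f ξ) (CycLib.stalkLin g ξ) ∧ Function.Surjective (CycLib.stalkLin g ξ)) :
    Cyc.toK0CohQuot δ k (k - 1) B = Cyc.toK0CohQuot δ k (k - 1) A + Cyc.toK0CohQuot δ k (k - 1) C := by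
  have hK := cohLe_kernel g hB hC.1.1
  have hI := cohLe_image g hB.1.1 hC
  have hses := KZ.clSub_homology_eq.shortExact_kernel_image g
  have e1 : Cyc.toK0CohQuot δ k (k - 1) A = Cyc.toK0CohQuot δ k (k - 1) (kernel g) :=
    mk_eq_of_bijective hd (kernel.lift g f w) hA hK fun ξ hξ => by
      obtain ⟨hi, he, -⟩ := CycLib.stalk_shortExact hses hK.1.1 hB.1.1 hI.1.1 ξ
      have hc : ∀ a, CycLib.stalkLin (kernel.ι g) ξ (CycLib.stalkLin (kernel.lift g f w) ξ a) =
          CycLib.stalkLin f ξ a := fun a => by rw [← stalkLin_comp, kernel.lift_ι]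
      refine ⟨fun a b hab => (h ξ hξ).1 (by rw [← hc, ← hc, hab]), fun m => ?_⟩
      have hm : CycLib.stalkLin g ξ (CycLib.stalkLin (kernel.ι g) ξ m) = 0 := by
        rw [← stalkLin_comp, kernel.condition, stalkLin_zero]
      obtain ⟨a, ha⟩ := ((h ξ hξ).2.1 _).1 hm
      exact ⟨a, hi ((hc a).trans ha)⟩
  have e2 : Cyc.toK0CohQuot δ k (k - 1) (Abelian.image g) = Cyc.toK0CohQuot δ k (k - 1) C :=
    mk_eq_of_bijective hd (Abelian.image.ι g) hI hC fun ξ hξ => by
      refine ⟨(CycLib.stalk_shortExact (KZ.kerSeq_shortExact (cokernel.π g)) hI.1.1 hC.1.1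
        (cohLe_cokernel g hB.1.1 hC).1.1 ξ).1, fun c => ?_⟩
      obtain ⟨b, rfl⟩ := (h ξ hξ).2.2 c
      exact ⟨CycLib.stalkLin (Abelian.factorThruImage g) ξ b, by rw [← stalkLin_comp, Abelian.image.fac]⟩
  rw [e1, ← e2]
  show (QuotientAddGroup.mk _ : Cyc.K0CohQuot δ k (k - 1)) = _
  rw [clSub_eq_add_image g hB hC, QuotientAddGroup.mk_add]
  rfl

omit hd in
/-- Split decompositions. -/
theorem mk_eq_add_of_splitting {S : ShortComplex X.Modules} (s : S.Splitting) (h₁ : Cyc.CohLe δ k S.X₁)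
    (h₂ : Cyc.CohLe δ k S.X₂) (h₃ : Cyc.CohLe δ k S.X₃) :
    Cyc.toK0CohQuot δ k (k - 1) S.X₂ = Cyc.toK0CohQuot δ k (k - 1) S.X₁ + Cyc.toK0CohQuot δ k (k - 1) S.X₃ := by
  show (QuotientAddGroup.mk _ : Cyc.K0CohQuot δ k (k - 1)) = _
  rw [KZ.clSub_ses _ s.shortExact h₁ h₂ h₃, QuotientAddGroup.mk_add]
  rfl

section Split

variable {κ : Type u} {r : κ → ℕ} (A : ∀ z : κ, Fin (r z + 1) → X.Modules)

omit hd in
/-- Split off the last index. -/
theorem exists_split_last :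
    ∃ (S : ShortComplex X.Modules) (_ : S.Splitting),
      S.X₁ = (∐ fun b : (Σ z, Fin (r z)) => A b.1 b.2.castSucc) ∧
      S.X₂ = (∐ fun b : (Σ z, Fin (r z + 1)) => A b.1 b.2) ∧
      S.X₃ = (∐ fun z => A z (Fin.last (r z))) := by
  let P := fun b : (Σ z, Fin (r z)) => A b.1 b.2.castSucc
  let B := fun b : (Σ z, Fin (r z + 1)) => A b.1 b.2
  let T := fun z => A z (Fin.last (r z))
  let f : (∐ P) ⟶ ∐ B := Sigma.desc fun b => Sigma.ι B ⟨b.1, b.2.castSucc⟩
  let g : (∐ B) ⟶ ∐ T := Sigma.desc fun b =>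
    Fin.lastCases (motive := fun j => A b.1 j ⟶ ∐ T) (Sigma.ι T b.1) (fun _ => 0) b.2
  let q : (∐ B) ⟶ ∐ P := Sigma.desc fun b =>
    Fin.lastCases (motive := fun j => A b.1 j ⟶ ∐ P) 0 (fun j => Sigma.ι P ⟨b.1, j⟩) b.2
  let s : (∐ T) ⟶ ∐ B := Sigma.desc fun z => Sigma.ι B ⟨z, Fin.last (r z)⟩
  refine ⟨ShortComplex.mk f g (Sigma.hom_ext _ _ fun b => by simp [f, g, P, B]),
    { r := q, s := s, f_r := Sigma.hom_ext _ _ fun b => by simp [f, q, P, B]
      s_g := Sigma.hom_ext _ _ fun z => by simp [s, g, T, B]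
      id := Sigma.hom_ext _ _ fun b => ?_ }, rfl, rfl, rfl⟩
  obtain ⟨z, j⟩ := b
  induction j using Fin.lastCases with
  | last => simp [f, g, q, s, P, B, T]
  | cast j => simp [f, g, q, s, P, B, T]

omit hd in
/-- Split off the first index. -/
theorem exists_split_zero :
    ∃ (S : ShortComplex X.Modules) (_ : S.Splitting),
      S.X₁ = (∐ fun b : (Σ z, Fin (r z)) => A b.1 b.2.succ) ∧
      S.X₂ = (∐ fun b : (Σ z, Fin (r z + 1)) => A b.1 b.2) ∧
      S.X₃ = (∐ fun z => A z 0) := by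
  let P := fun b : (Σ z, Fin (r z)) => A b.1 b.2.succ
  let B := fun b : (Σ z, Fin (r z + 1)) => A b.1 b.2
  let T := fun z => A z 0
  let f : (∐ P) ⟶ ∐ B := Sigma.desc fun b => Sigma.ι B ⟨b.1, b.2.succ⟩
  let g : (∐ B) ⟶ ∐ T := Sigma.desc fun b =>
    Fin.cases (motive := fun j => A b.1 j ⟶ ∐ T) (Sigma.ι T b.1) (fun _ => 0) b.2
  let q : (∐ B) ⟶ ∐ P := Sigma.desc fun b =>
    Fin.cases (motive := fun j => A b.1 j ⟶ ∐ P) 0 (fun j => Sigma.ι P ⟨b.1, j⟩) b.2
  let s : (∐ T) ⟶ ∐ B := Sigma.desc fun z => Sigma.ι B ⟨z, 0⟩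
  refine ⟨ShortComplex.mk f g (Sigma.hom_ext _ _ fun b => by simp [f, g, P, B]),
    { r := q, s := s, f_r := Sigma.hom_ext _ _ fun b => by simp [f, q, P, B]
      s_g := Sigma.hom_ext _ _ fun z => by simp [s, g, T, B]
      id := Sigma.hom_ext _ _ fun b => ?_ }, rfl, rfl, rfl⟩
  obtain ⟨z, j⟩ := b
  induction j using Fin.cases with
  | zero => simp [f, g, q, s, P, B, T]
  | succ j => simp [f, g, q, s, P, B, T]

end Split

end Groth.Agent.Symb83
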