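import Groth.Agent.Symb83.ClosureStalk
import Groth.Agent.Symb83.SigmaK
import Groth.Agent.CycLib.Div

/-! A principal divisor as a difference of cycles of cokernels. -/

set_option autoImplicit false
set_option linter.style.haveILetI false
set_option linter.unusedSectionVars false

universe u

open CategoryTheory CategoryTheory.Limits AlgebraicGeometry TopologicalSpace

namespace Groth.Agent.Symb83

open IntThLib IsLocalRing

variable {X : Scheme.{u}}

theorem mono_of_stalk_injective {M N : X.Modules} (φ : M ⟶ N)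
    (h : ∀ x, Function.Injective (CycLib.stalkLin φ x)) : Mono φ :=
  QCoh.mono_of_app_injective φ fun U a b hab => TopCat.Presheaf.section_ext
    (show TopCat.Sheaf AddCommGrpCat.{u} X.toPresheafedSpace.carrier from ⟨M.presheaf, M.isSheaf⟩) U a b
    fun x hx => h x ((CycLib.stalkAdd_germ φ x hx a).trans
      ((congrArg (N.presheaf.germ U x hx) hab).trans (CycLib.stalkAdd_germ φ x hx b).symm))

theorem spLin_refl' {M : X.Modules} {y : X} {h : y ⤳ y} {m : M.presheaf.stalk y} : spLin M h m = m := by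
  obtain ⟨U, hy, s, rfl⟩ := M.presheaf.exists_germ_eq m
  exact TopCat.Presheaf.germ_stalkSpecializes_apply M.presheaf hy h s

variable [IsLocallyNoetherian X]

theorem length_stalk_cokernel {M N : X.Modules} (φ : M ⟶ N) [Mono φ] (hM : Coh.IsQCoh M) (hN : Coh.IsQCoh N)
    (x : X) :
    Module.length (X.presheaf.stalk x) ((cokernel φ).presheaf.stalk x) =
      Module.length (X.presheaf.stalk x) (N.presheaf.stalk x ⧸ LinearMap.range (CycLib.stalkLin φ x)) := by
  obtain ⟨-, he, hs⟩ :=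
    CycLib.stalk_shortExact (KZ.shortExact_of_mono φ) hM hN (QCoh.isQCoh_cokernel hM hN φ) x
  exact (LinearEquiv.length_eq ((Submodule.quotEquivOfEq _ _ (LinearMap.exact_iff.1 he).symm).trans
    (LinearMap.quotKerEquivOfSurjective _ hs))).symm

/-- Two copies of the structure sheaf of the closure. -/
noncomputable def twoCopies (ξ : X) : ULift.{u} Bool → X.Modules := fun _ => Cyc.closureStructureSheaf ξ

theorem locFinSupp_twoCopies (ξ : X) : LocFinSupp (twoCopies ξ) :=
  fun _ => ⟨Set.univ, isOpen_univ, trivial, Set.toFinite _⟩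

/-- The projections of the two copies. -/
noncomputable abbrev twoProj (ξ : X) (i : ULift.{u} Bool) : (∐ twoCopies ξ) ⟶ Cyc.closureStructureSheaf ξ :=
  sigmaProj (twoCopies ξ) i

/-- The line of the graph of `c`. -/
noncomputable def graphLine (ξ : X) (c : X.presheaf.stalk ξ) :
    Submodule (X.presheaf.stalk ξ) ((∐ twoCopies ξ).presheaf.stalk ξ) :=
  LinearMap.ker (CycLib.stalkLin (twoProj ξ ⟨true⟩) ξ -
    c • CycLib.stalkLin (twoProj ξ ⟨false⟩) ξ)

theorem mem_graphLine {ξ : X} {c : X.presheaf.stalk ξ} {w} :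
    w ∈ graphLine ξ c ↔ CycLib.stalkLin (twoProj ξ ⟨true⟩) ξ w =
      c • CycLib.stalkLin (twoProj ξ ⟨false⟩) ξ w := by
  rw [graphLine, LinearMap.mem_ker, LinearMap.sub_apply, sub_eq_zero]
  rfl

variable {δ : X → ℤ} {k : ℤ} (hd : Cyc.IsDimFun X δ)
include hd

theorem cohLe_closureSheaf {ξ : X} {a : ℤ} (hξ : δ ξ ≤ a) : Cyc.CohLe δ a (Cyc.closureStructureSheaf ξ) :=
  ⟨isCoh_closureSheaf _, fun _ hy => (CycLib.delta_le hd (support_closureSheaf hy)).trans hξ⟩

/-- The modules of a principal divisor. -/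
theorem exists_graph {ξ : X} (hξ : δ ξ = k + 1) {c : X.presheaf.stalk ξ} (hc : IsUnit c) :
    ∃ (N : X.Modules) (φ φ' : N ⟶ Cyc.closureStructureSheaf ξ), Cyc.CohLe δ (k + 1) N ∧
      (∀ y, Nontrivial (N.presheaf.stalk y) → ξ ⤳ y) ∧
      (∀ y, Function.Injective (CycLib.stalkLin φ y) ∧ Function.Injective (CycLib.stalkLin φ' y)) ∧
      ∀ (y : X) (h : ξ ⤳ y) (u v : (Cyc.closureStructureSheaf ξ).presheaf.stalk y),
        (spLin _ h v = c • spLin _ h u) ↔ ∃ t, CycLib.stalkLin φ y t = u ∧ CycLib.stalkLin φ' y t = v := by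
  classical
  have hF : ∀ i, Coh.IsQCoh (twoCopies ξ i) := fun i => (isCoh_closureSheaf ξ).1
  have hl := locFinSupp_twoCopies ξ
  have hS : Cyc.CohLe δ (k + 1) (∐ twoCopies ξ) := ⟨isCoh_sigma hF (fun _ => isCoh_closureSheaf ξ) hl, fun x hx => by
    obtain ⟨i, hi⟩ := support_sigma hF hl (x := x) hx
    exact (cohLe_closureSheaf hd hξ.le).2 x hi⟩
  let W : ∀ y, Submodule (X.presheaf.stalk y) ((∐ twoCopies ξ).presheaf.stalk y) :=
    Function.update (fun _ => ⊤) ξ (graphLine ξ c)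
  have hW : ∀ y, W y ≠ ⊤ → y = ξ := fun y h => by
    by_contra hne
    exact h (Function.update_of_ne hne _ _)
  have hWξ : W ξ = graphLine ξ c := Function.update_self _ _ _
  have hnice : Nice (∐ twoCopies ξ) W := nice_of_subset hd hS fun y h => by rw [hW y h]; exact hξ
  let p : ULift.{u} Bool → ((∐ twoCopies ξ) ⟶ Cyc.closureStructureSheaf ξ) := twoProj ξ
  let φ := (stalkSub _ W).ι ≫ p ⟨false⟩
  let φ' := (stalkSub _ W).ι ≫ p ⟨true⟩
  have hrel : ∀ (y : X) (h : ξ ⤳ y) (t : (stalkSub _ W).toModules.presheaf.stalk y),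
      spLin _ h (CycLib.stalkLin φ' y t) = c • spLin _ h (CycLib.stalkLin φ y t) := fun y h t => by
    have hm := stalkSub_cond t h
    rw [hWξ, mem_graphLine, ← spLin_natural, ← spLin_natural] at hm
    rw [stalkLin_comp, stalkLin_comp]
    exact hm
  have hzero : ∀ (y : X) (t : (stalkSub _ W).toModules.presheaf.stalk y),
      CycLib.stalkLin φ y t = 0 → CycLib.stalkLin φ' y t = 0 → t = 0 := fun y t h0 h1 => by
    refine stalkSub_ι_injective hS.1.1 hnice y ?_
    rw [map_zero]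
    refine stalk_ext hF hl y ?_
    rintro ⟨_ | _⟩
    · rw [map_zero]; exact (stalkLin_comp _ _ y t).symm.trans h0
    · rw [map_zero]; exact (stalkLin_comp _ _ y t).symm.trans h1
  have hns : ∀ y, ¬ ξ ⤳ y → Subsingleton ((Cyc.closureStructureSheaf ξ).presheaf.stalk y) := fun y hy =>
    not_nontrivial_iff_subsingleton.1 fun hn => hy (support_closureSheaf hn)
  refine ⟨(stalkSub _ W).toModules, φ, φ',
    cohLe_of_mono (stalkSub _ W).ι hS (isQCoh_stalkSub hS.1.1 hnice), fun y hy => ?_, fun y => ?_,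
    fun y h u v => ⟨fun huv => ?_, fun ⟨t, hu, hv⟩ => hu ▸ hv ▸ hrel y h t⟩⟩
  · haveI := (stalkSub_ι_injective hS.1.1 hnice y).nontrivial
    obtain ⟨i, hi⟩ := support_sigma hF hl (x := y) this
    exact support_closureSheaf hi
  · refine ⟨(injective_iff_map_eq_zero _).2 fun t ht => hzero y t ht ?_,
      (injective_iff_map_eq_zero _).2 fun t ht => hzero y t ?_ ht⟩
    · by_cases h : ξ ⤳ y
      · exact closureSheaf_inj h ((hrel y h t).trans (by rw [ht, map_zero, smul_zero]))
      · haveI := hns y h; exact Subsingleton.elim _ _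
    · by_cases h : ξ ⤳ y
      · exact closureSheaf_inj h (hc.smul_eq_zero.1 ((hrel y h t).symm.trans (by rw [ht, map_zero])))
      · haveI := hns y h; exact Subsingleton.elim _ _
  · obtain ⟨w, hw⟩ := exists_stalk_elem hF hl y fun i =>
      match i with | ⟨true⟩ => v | ⟨false⟩ => u
    obtain ⟨t, ht⟩ := exists_stalkSub_eq hS.1.1 hnice w fun η hη => by
      by_cases hne : W η = ⊤
      · rw [hne]; trivial
      obtain rfl := hW η hne
      rw [hWξ, mem_graphLine, ← spLin_natural, ← spLin_natural,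
        show CycLib.stalkLin (twoProj η ⟨true⟩) y w = v from hw ⟨true⟩,
        show CycLib.stalkLin (twoProj η ⟨false⟩) y w = u from hw ⟨false⟩]
      exact huv
    exact ⟨t, by rw [stalkLin_comp, ht]; exact hw ⟨false⟩, by rw [stalkLin_comp, ht]; exact hw ⟨true⟩⟩

/-- The quotient lengths at a point of codimension one. -/
theorem length_graph {ξ x : X} (h : ξ ⤳ x) (hx : δ x + 1 = δ ξ) {c : X.presheaf.stalk ξ} (hc : IsUnit c)
    (P P' : Submodule (X.presheaf.stalk x) ((Cyc.closureStructureSheaf ξ).presheaf.stalk x))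
    (hP : ∀ u, u ∈ P ↔ ∃ v, spLin _ h v = c • spLin _ h u)
    (hP' : ∀ v, v ∈ P' ↔ ∃ u, spLin _ h v = c • spLin _ h u) :
    ∃ p p' : ℕ, Module.length (X.presheaf.stalk x) (_ ⧸ P) = p ∧ Module.length (X.presheaf.stalk x) (_ ⧸ P') = p' ∧
      (p' : ℤ) - p = Cyc.ordAt x ξ h (X.residue ξ c) := by
  letI := stAlg h
  obtain ⟨a, b, hb, hab⟩ := (isPlace hd h hx).frac c
  rw [qOf_eq h] at hb
  set sp := X.presheaf.stalkSpecializes h
  change sp b * c = sp a at hab
  have hbu : IsUnit (sp b) := by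
    have := hb
    rwa [CDiv6.mem_primeOf, not_not] at this
  have hau : IsUnit (sp a) := hab ▸ hbu.mul hc
  have hsp : ∀ r m, spLin (Cyc.closureStructureSheaf ξ) h (r • m) = sp r • spLin _ h m := fun r m =>
    letI := stMod (Cyc.closureStructureSheaf ξ) h
    (spLin (Cyc.closureStructureSheaf ξ) h).map_smul r m
  have hinj : ∀ {r}, IsUnit (sp r) → Function.Injective
      (DistribSMul.toLinearMap (X.presheaf.stalk x) ((Cyc.closureStructureSheaf ξ).presheaf.stalk x) r) := fun {r} hr =>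
    (injective_iff_map_eq_zero _).2 fun m hm =>
      closureSheaf_inj h (hr.smul_eq_zero.1 ((hsp r m).symm.trans ((congrArg _ hm).trans (map_zero _))))
  have hinjsp : Function.Injective (spLin (Cyc.closureStructureSheaf ξ) h) := fun m m' he =>
    sub_eq_zero.1 (closureSheaf_inj h (by rw [map_sub, he, sub_self]))
  have hrel : ∀ u v, spLin (Cyc.closureStructureSheaf ξ) h v = c • spLin _ h u → b • v = a • u := fun u v huv =>
    hinjsp (by rw [hsp, hsp, huv, smul_smul, hab])
  obtain ⟨e, he⟩ := closureSheaf_gen ξ x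
  have hann : ∀ r, r • e = 0 ↔ r ∈ RingHom.ker (Cyc.specMap x ξ h) := fun r => by
    rw [closureSheaf_ann h he, CycLib.ker_specMap h]
  have hne : ∀ {r}, IsUnit (sp r) → (Ideal.Quotient.mk (RingHom.ker (Cyc.specMap x ξ h)) r) ≠ 0 := fun {r} hr h0 => by
    have := Ideal.Quotient.eq_zero_iff_mem.1 h0
    rw [CycLib.ker_specMap h, CDiv6.mem_primeOf] at this
    exact this hr
  haveI := CycLib.krullDimLE_locQuot hd h hx
  obtain ⟨m, hm⟩ := ENat.ne_top_iff_exists.1
    (Ring.ord_ne_top (mem_nonZeroDivisors_of_ne_zero (hne hau)) (R := Cyc.LocQuot x ξ h))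
  obtain ⟨n, hn⟩ := ENat.ne_top_iff_exists.1
    (Ring.ord_ne_top (mem_nonZeroDivisors_of_ne_zero (hne hbu)) (R := Cyc.LocQuot x ξ h))
  obtain ⟨p, p', h1, h2, h3⟩ := length_quot_sub (hinj hau) (hinj hbu) (P := P) (P' := P')
    (by
      ext z
      simp only [Submodule.mem_map, DistribSMul.toLinearMap_apply]
      constructor
      · rintro ⟨u, hu, rfl⟩
        obtain ⟨v, hv⟩ := (hP u).1 hu
        exact ⟨v, (hP' v).2 ⟨u, hv⟩, hrel u v hv⟩
      · rintro ⟨v, hv, rfl⟩
        obtain ⟨u, hu⟩ := (hP' v).1 hv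
        exact ⟨u, (hP u).2 ⟨v, hu⟩, (hrel u v hu).symm⟩)
    (by
      rintro _ ⟨w, -, rfl⟩
      exact (hP _).2 ⟨a • w, by rw [DistribSMul.toLinearMap_apply, hsp, hsp, smul_smul, mul_comm c, hab]⟩)
    (by
      rintro _ ⟨w, -, rfl⟩
      exact (hP' _).2 ⟨b • w, by rw [DistribSMul.toLinearMap_apply, hsp, hsp, smul_smul, mul_comm c, hab]⟩)
    ((relLen_smul_top he hann a).trans hm.symm) ((relLen_smul_top he hann b).trans hn.symm)
  refine ⟨p, p', h1, h2, h3.trans ?_⟩
  have ea := CycLib.ordAt_algebraMap hd h hx (hne hau)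
  have eb := CycLib.ordAt_algebraMap hd h hx (hne hbu)
  rw [CycLib.algebraMap_locQuot_mk, show Ring.ord (Cyc.LocQuot x ξ h) _ = (m : ℕ∞) from hm.symm] at ea
  rw [CycLib.algebraMap_locQuot_mk, show Ring.ord (Cyc.LocQuot x ξ h) _ = (n : ℕ∞) from hn.symm] at eb
  have hr : Cyc.specMap x ξ h a = Cyc.specMap x ξ h b * X.residue ξ c :=
    (congrArg (X.residue ξ) hab).symm.trans (map_mul _ _ _)
  rw [hr, CycLib.ordAt_mul hd h hx (f := Cyc.specMap x ξ h b) (hbu.map (X.residue ξ).hom).ne_zero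
    (hc.map (X.residue ξ).hom).ne_zero, eb] at ea
  rw [ENat.toNat_natCast] at ea
  rw [ENat.toNat_natCast] at ea
  exact (sub_eq_iff_eq_add'.2 ea.symm)

/-- A principal divisor as a difference of cycles. -/
theorem exists_divisor {ξ : X} (hξ : δ ξ = k + 1) {f : X.residueField ξ} (hf : f ≠ 0) :
    ∃ (N : X.Modules) (φ φ' : N ⟶ Cyc.closureStructureSheaf ξ), Cyc.CohLe δ (k + 1) N ∧
      (∀ y, Nontrivial (N.presheaf.stalk y) → ξ ⤳ y) ∧
      (∀ y, Function.Injective (CycLib.stalkLin φ y) ∧ Function.Injective (CycLib.stalkLin φ' y)) ∧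
      Cyc.CohLe δ k (cokernel φ) ∧ Cyc.CohLe δ k (cokernel φ') ∧
      ∀ x, δ x = k → ∃ p p' : ℕ,
        Module.length (X.presheaf.stalk x) ((cokernel φ).presheaf.stalk x) = p ∧
        Module.length (X.presheaf.stalk x) ((cokernel φ').presheaf.stalk x) = p' ∧
        (p' : ℤ) - p = Cyc.divFun δ ξ f x := by
  obtain ⟨c, rfl⟩ := X.residue_surjective ξ f
  have hc : IsUnit c := by
    by_contra hn
    exact hf ((IsLocalRing.residue_eq_zero_iff c).2 ((mem_maximalIdeal c).2 hn))
  obtain ⟨N, φ, φ', hN, hs, hinj, hiff⟩ := exists_graph hd hξ hc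
  haveI := mono_of_stalk_injective φ fun y => (hinj y).1
  haveI := mono_of_stalk_injective φ' fun y => (hinj y).2
  have hO := cohLe_closureSheaf hd hξ.le (a := k + 1)
  have hsurj : Function.Surjective (CycLib.stalkLin φ ξ) ∧ Function.Surjective (CycLib.stalkLin φ' ξ) := by
    refine ⟨fun u => ?_, fun v => ?_⟩
    · obtain ⟨t, ht, -⟩ := (hiff ξ (specializes_refl ξ) u (c • u)).1 (by rw [spLin_refl', spLin_refl'])
      exact ⟨t, ht⟩
    · obtain ⟨t, -, ht⟩ := (hiff ξ (specializes_refl ξ) (hc.unit⁻¹.1 • v) v).1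
        (by rw [spLin_refl', spLin_refl', smul_smul, IsUnit.mul_val_inv, one_smul])
      exact ⟨t, ht⟩
  have hsub : ∀ (ψ : N ⟶ Cyc.closureStructureSheaf ξ) [Mono ψ] (y : X),
      (Function.Surjective (CycLib.stalkLin ψ y) ∨ ¬ ξ ⤳ y) → Subsingleton ((cokernel ψ).presheaf.stalk y) := by
    intro ψ _ y h
    rw [← Module.length_eq_zero_iff (R := X.presheaf.stalk y), length_stalk_cokernel ψ hN.1.1 hO.1.1,
      Module.length_eq_zero_iff, Submodule.Quotient.subsingleton_iff, LinearMap.range_eq_top]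
    rcases h with h | h
    · exact h
    · haveI : Subsingleton ((Cyc.closureStructureSheaf ξ).presheaf.stalk y) :=
        not_nontrivial_iff_subsingleton.1 fun hn => h (support_closureSheaf hn)
      exact fun v => ⟨0, Subsingleton.elim _ _⟩
  have hle : ∀ (ψ : N ⟶ Cyc.closureStructureSheaf ξ) [Mono ψ], Function.Surjective (CycLib.stalkLin ψ ξ) →
      Cyc.CohLe δ k (cokernel ψ) := by
    intro ψ _ hψ
    refine ⟨(cohLe_cokernel ψ hN.1.1 hO).1, fun y hy => ?_⟩
    by_cases h : ξ ⤳ y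
    · have hne : ξ ≠ y := fun e => by
        subst e
        exact not_subsingleton_iff_nontrivial.2 hy (hsub ψ ξ (Or.inl hψ))
      have := CycLib.delta_lt hd h hne
      omega
    · exact absurd (hsub ψ y (Or.inr h)) (not_subsingleton_iff_nontrivial.2 hy)
  refine ⟨N, φ, φ', hN, hs, hinj, hle φ hsurj.1, hle φ' hsurj.2, fun x hx => ?_⟩
  by_cases h : ξ ⤳ x
  · have hx' : δ x + 1 = δ ξ := by omega
    obtain ⟨p, p', h1, h2, h3⟩ := length_graph hd h hx' hc (LinearMap.range (CycLib.stalkLin φ x))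
      (LinearMap.range (CycLib.stalkLin φ' x))
      (fun u => ⟨fun ⟨t, ht⟩ => ⟨_, (hiff x h u (CycLib.stalkLin φ' x t)).2 ⟨t, ht, rfl⟩⟩,
        fun ⟨v, hv⟩ => ((hiff x h u v).1 hv).imp fun t ht => ht.1⟩)
      (fun v => ⟨fun ⟨t, ht⟩ => ⟨_, (hiff x h (CycLib.stalkLin φ x t) v).2 ⟨t, rfl, ht⟩⟩,
        fun ⟨u, hu⟩ => ((hiff x h u v).1 hu).imp fun t ht => ht.2⟩)
    refine ⟨p, p', (length_stalk_cokernel φ hN.1.1 hO.1.1 x).trans h1,
      (length_stalk_cokernel φ' hN.1.1 hO.1.1 x).trans h2, ?_⟩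
    rw [h3, CycLib.divFun_eq δ _ h hx']
  · refine ⟨0, 0, ?_, ?_, ?_⟩
    · haveI := hsub φ x (Or.inr h)
      simp
    · haveI := hsub φ' x (Or.inr h)
      simp
    · rw [CycLib.divFun_eq_zero_of_not_specializes δ _ h]
      simp

end Groth.Agent.Symb83
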