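import Groth.Agent.Symb83.SubStalk
import Groth.Agent.Symb83.CohLe
import Groth.Agent.KZ.Devissage

/-! Modules without sections of smaller dimension; maps bijective at the points of dimension `k`. -/

set_option autoImplicit false
set_option linter.style.haveILetI false
set_option linter.unusedSectionVars false

universe u

open CategoryTheory CategoryTheory.Limits AlgebraicGeometry TopologicalSpace Opposite

namespace Groth.Agent.Symb83

variable {X : Scheme.{u}}

theorem stalkLin_comp {A B C : X.Modules} (f : A ⟶ B) (g : B ⟶ C) (x : X) (t : A.presheaf.stalk x) :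
    CycLib.stalkLin (f ≫ g) x t = CycLib.stalkLin g x (CycLib.stalkLin f x t) := by
  obtain ⟨U, hx, n, rfl⟩ := A.presheaf.exists_germ_eq t
  show CycLib.stalkAdd _ x _ = CycLib.stalkAdd _ x (CycLib.stalkAdd _ x _)
  rw [CycLib.stalkAdd_germ, CycLib.stalkAdd_germ, CycLib.stalkAdd_germ]
  rfl

theorem stalkLin_id {A : X.Modules} (x : X) (t : A.presheaf.stalk x) :
    CycLib.stalkLin (𝟙 A) x t = t := by
  obtain ⟨U, hx, n, rfl⟩ := A.presheaf.exists_germ_eq t
  exact CycLib.stalkAdd_germ _ x hx n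

theorem stalkLin_zero {A B : X.Modules} (x : X) (t : A.presheaf.stalk x) :
    CycLib.stalkLin (0 : A ⟶ B) x t = 0 := by
  obtain ⟨U, hx, n, rfl⟩ := A.presheaf.exists_germ_eq t
  exact (CycLib.stalkAdd_germ _ x hx n).trans
    ((congrArg (B.presheaf.germ U x hx) rfl).trans (map_zero _))

/-- An isomorphism is bijective on stalks. -/
theorem stalkLin_bijective_of_iso {A B : X.Modules} (e : A ≅ B) (x : X) :
    Function.Bijective (CycLib.stalkLin e.hom x) :=
  ⟨fun a b h => by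
    have h' := congrArg (CycLib.stalkLin e.inv x) h
    rwa [← stalkLin_comp, ← stalkLin_comp, e.hom_inv_id, stalkLin_id, stalkLin_id] at h',
   fun b => ⟨CycLib.stalkLin e.inv x b, by rw [← stalkLin_comp, e.inv_hom_id, stalkLin_id]⟩⟩

variable {δ : X → ℤ} {k : ℤ}

/-- The family killing everything at the points of dimension `k` in the support. -/
noncomputable def killFam (δ : X → ℤ) (k : ℤ) (M : X.Modules) (ξ : X) :
    Submodule (X.presheaf.stalk ξ) (M.presheaf.stalk ξ) :=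
  open Classical in if δ ξ = k ∧ Nontrivial (M.presheaf.stalk ξ) then ⊥ else ⊤

/-- Sections are determined by their germs at the points of dimension `k`. -/
def IsPure (δ : X → ℤ) (k : ℤ) (M : X.Modules) : Prop :=
  ∀ U : X.Opens, IsAffineOpen U → ∀ s : Γ(M, U),
    (∀ ξ, ∀ h : ξ ∈ U, δ ξ = k → M.presheaf.germ U ξ h s = 0) → s = 0

variable [IsLocallyNoetherian X] (hd : Cyc.IsDimFun X δ)
include hd

theorem length_ne_top_top {M : X.Modules} (hM : Cyc.CohLe δ k M) {ξ : X} (hξ : δ ξ = k) :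
    Module.length (X.presheaf.stalk ξ) (M.presheaf.stalk ξ) ≠ ⊤ :=
  length_ne_top hd (k := k - 1) (by rwa [sub_add_cancel]) (by rw [sub_add_cancel]; exact hξ)

theorem nice_of_subset {M : X.Modules} (hM : Cyc.CohLe δ k M)
    {W : ∀ ξ : X, Submodule (X.presheaf.stalk ξ) (M.presheaf.stalk ξ)} (hW : ∀ ξ, W ξ ≠ ⊤ → δ ξ = k) : Nice M W := by
  refine ⟨fun ξ hξ => length_ne_top_top hd hM (hW ξ hξ), fun x => ?_⟩
  obtain ⟨V, hVo, hxV, hVf⟩ := locallyFinite_gens hd (k := k - 1) (M := M) (by rwa [sub_add_cancel]) x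
  refine ⟨V, hVo, hxV, hVf.subset fun ξ hξ => ⟨hξ.1, by rw [sub_add_cancel]; exact hW ξ hξ.2, ?_⟩⟩
  by_contra hn
  haveI := not_nontrivial_iff_subsingleton.1 hn
  exact hξ.2 (Subsingleton.elim _ _)

theorem nice_killFam {M : X.Modules} (hM : Cyc.CohLe δ k M) : Nice M (killFam δ k M) :=
  nice_of_subset hd hM fun ξ hξ => by
    by_contra hn
    exact hξ (if_neg fun h => hn h.1)

omit hd in
theorem mem_killFam {M : X.Modules} {ξ : X} {v : M.presheaf.stalk ξ} :
    v ∈ killFam δ k M ξ ↔ (δ ξ = k → v = 0) := by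
  classical
  unfold killFam
  split_ifs with h
  · simp [h.1]
  · refine ⟨fun _ hξ => ?_, fun _ => trivial⟩
    haveI := not_nontrivial_iff_subsingleton.1 fun hn => h ⟨hξ, hn⟩
    exact Subsingleton.elim _ _

theorem stalk_injective_of_pure {M : X.Modules} (hM : Cyc.CohLe δ k M) (hp : IsPure δ k M) {y : X}
    {m : M.presheaf.stalk y} (h : ∀ (ξ : X) (h : ξ ⤳ y), δ ξ = k → spLin M h m = 0) : m = 0 := by
  obtain ⟨t, ht⟩ := exists_stalkSub_eq hM.1.1 (nice_killFam hd hM) m fun ξ hξ => mem_killFam.2 (h ξ hξ)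
  obtain ⟨U, hU, hy, n, rfl⟩ := CycLib.exists_germ_affine (stalkSub M (killFam δ k M)).toModules t
  have h0 : (stalkSub M (killFam δ k M)).ι.app U n = 0 := hp U hU _ fun ξ hξ hδ =>
    mem_killFam.1 ((stalkSub M (killFam δ k M)).ι_app_mem U n ξ hξ) hδ
  rw [← ht]
  show CycLib.stalkAdd _ y _ = 0
  rw [CycLib.stalkAdd_germ, h0, map_zero]

theorem exists_gen_of_pure {M : X.Modules} (hM : Cyc.CohLe δ k M) (hp : IsPure δ k M) {y : X}
    (hy : Nontrivial (M.presheaf.stalk y)) :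
    ∃ ξ, ξ ⤳ y ∧ δ ξ = k ∧ Nontrivial (M.presheaf.stalk ξ) := by
  by_contra hc
  push Not at hc
  obtain ⟨m, hm⟩ := exists_ne (0 : M.presheaf.stalk y)
  refine hm (stalk_injective_of_pure hd hM hp fun ξ h hξ => ?_)
  haveI := hc ξ h hξ
  exact Subsingleton.elim _ _

omit hd in
theorem isPure_stalkSub {M : X.Modules} (hp : IsPure δ k M)
    (W : ∀ ξ : X, Submodule (X.presheaf.stalk ξ) (M.presheaf.stalk ξ)) :
    IsPure δ k (stalkSub M W).toModules := fun U hU s hs => by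
  refine (stalkSub M W).ι_app_injective U ?_
  rw [map_zero]
  refine hp U hU _ fun ξ hξ hδ => ?_
  rw [← CycLib.stalkAdd_germ, hs ξ hξ hδ, map_zero]

/-- Every module of dimension `≤ k` has a pure quotient with the same stalks at dimension `k`. -/
theorem exists_pure {F : X.Modules} (hF : Cyc.CohLe δ k F) :
    ∃ (G : X.Modules) (p : F ⟶ G), Cyc.CohLe δ k G ∧ IsPure δ k G ∧
      ∀ ξ, δ ξ = k → Function.Bijective (CycLib.stalkLin p ξ) := by
  let K := stalkSub F (killFam δ k F)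
  have hKq := isQCoh_stalkSub hF.1.1 (nice_killFam hd hF)
  have hK : Cyc.CohLe δ k K.toModules := cohLe_of_mono K.ι hF hKq
  have hG : Cyc.CohLe δ k (cokernel K.ι) := cohLe_cokernel K.ι hK.1.1 hF
  have hS := KZ.shortExact_of_mono K.ι
  refine ⟨cokernel K.ι, cokernel.π K.ι, hG, fun U hU s hs => ?_, fun ξ hξ => ?_⟩
  · obtain ⟨s', rfl⟩ := QCoh.app_surjective_of_epi hF.1.1 hG.1.1 (cokernel.π K.ι) hU s
    have hmem : s' ∈ K.mem U := fun ξ hξ => mem_killFam.2 fun hδ => by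
      obtain ⟨-, he, -⟩ := CycLib.stalk_shortExact hS hK.1.1 hF.1.1 hG.1.1 ξ
      obtain ⟨t, ht⟩ := (he _).1 ((CycLib.stalkAdd_germ (cokernel.π K.ι) ξ hξ s').trans (hs ξ hξ hδ))
      rw [← ht]
      obtain ⟨V, hV, n, rfl⟩ := K.toModules.presheaf.exists_germ_eq t
      show CycLib.stalkAdd K.ι ξ _ = 0
      rw [CycLib.stalkAdd_germ]
      exact mem_killFam.1 (K.ι_app_mem V n ξ hV) hδ
    obtain ⟨t, rfl⟩ := K.exists_app_eq hmem
    rw [show (cokernel.π K.ι).app U (K.ι.app U t) = (K.ι ≫ cokernel.π K.ι).app U t from rfl, cokernel.condition]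
    rfl
  · obtain ⟨-, he, hs⟩ := CycLib.stalk_shortExact hS hK.1.1 hF.1.1 hG.1.1 ξ
    refine ⟨(injective_iff_map_eq_zero _).2 fun m hm => ?_, hs⟩
    obtain ⟨t, rfl⟩ := (he m).1 hm
    obtain ⟨V, hV, n, rfl⟩ := K.toModules.presheaf.exists_germ_eq t
    show CycLib.stalkAdd K.ι ξ _ = 0
    rw [CycLib.stalkAdd_germ]
    exact mem_killFam.1 (K.ι_app_mem V n ξ hV) hξ

/-- Maps bijective at dimension `k` give equal classes. -/
theorem mk_eq_of_bijective {M N : X.Modules} (φ : M ⟶ N) (hM : Cyc.CohLe δ k M) (hN : Cyc.CohLe δ k N)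
    (h : ∀ ξ, δ ξ = k → Function.Bijective (CycLib.stalkLin φ ξ)) :
    Cyc.toK0CohQuot δ k (k - 1) M = Cyc.toK0CohQuot δ k (k - 1) N := by
  have hK := cohLe_kernel φ hM hN.1.1
  have hI := cohLe_image φ hM.1.1 hN
  have hC := cohLe_cokernel φ hM.1.1 hN
  have h1 := clSub_eq_add_image φ hM hN
  have h2 := KZ.clSub_ses (Cyc.CohLe δ k) (KZ.kerSeq_shortExact (cokernel.π φ)) hI hN hC
  change KZero.clSub _ N = KZero.clSub _ (Abelian.image φ) + KZero.clSub _ (cokernel φ) at h2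
  have small : ∀ {G : X.Modules}, Cyc.CohLe δ k G → (∀ ξ, δ ξ = k → Subsingleton (G.presheaf.stalk ξ)) →
      (QuotientAddGroup.mk (KZero.clSub (Cyc.CohLe δ k) G) : Cyc.K0CohQuot δ k (k - 1)) = 0 := fun {G} hG hs =>
    (QuotientAddGroup.eq_zero_iff _).2 (AddSubgroup.subset_closure ⟨G, ⟨hG.1, fun x hx => by
      rcases (hG.2 x hx).lt_or_eq with hlt | heq
      · omega
      · exact absurd hx (not_nontrivial_iff_subsingleton.2 (hs x heq))⟩, rfl⟩)
  have k1 := small hK fun ξ hξ => by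
    obtain ⟨hi, he, -⟩ := CycLib.stalk_shortExact (KZ.clSub_homology_eq.shortExact_kernel_image φ)
      hK.1.1 hM.1.1 hI.1.1 ξ
    refine ⟨fun a b => hi ((h ξ hξ).1 ?_)⟩
    rw [← stalkLin_comp, ← stalkLin_comp]
    show CycLib.stalkLin (kernel.ι φ ≫ φ) ξ a = CycLib.stalkLin (kernel.ι φ ≫ φ) ξ b
    rw [kernel.condition, stalkLin_zero, stalkLin_zero]
  have k2 := small hC fun ξ hξ => by
    obtain ⟨-, -, hs⟩ := CycLib.stalk_shortExact (KZ.kerSeq_shortExact (cokernel.π φ)) hI.1.1 hN.1.1 hC.1.1 ξ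
    refine ⟨fun a b => ?_⟩
    have key : ∀ a : (cokernel φ).presheaf.stalk ξ, a = 0 := fun a => by
      obtain ⟨n, rfl⟩ := hs a
      obtain ⟨m, rfl⟩ := (h ξ hξ).2 n
      show CycLib.stalkLin (cokernel.π φ) ξ _ = 0
      rw [← stalkLin_comp, cokernel.condition, stalkLin_zero]
    rw [key a, key b]
  show (QuotientAddGroup.mk _ : Cyc.K0CohQuot δ k (k - 1)) = QuotientAddGroup.mk _
  rw [h1, h2, QuotientAddGroup.mk_add, QuotientAddGroup.mk_add, k1, k2, zero_add, add_zero]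

end Groth.Agent.Symb83
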