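import Groth.Agent.Symb83.Stalks
import Groth.Agent.QCoh.Submod
import Groth.Agent.QCoh.VanIdeal
import Groth.Agent.QCoh.Devissage

/-! Submodules cut out by conditions at finitely many stalks locally. -/

set_option autoImplicit false
set_option linter.style.haveILetI false
set_option linter.unusedSectionVars false
set_option linter.unusedVariables false

universe u

open CategoryTheory CategoryTheory.Limits AlgebraicGeometry TopologicalSpace Opposite

namespace Groth.Agent.Symb83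

open IsLocalRing

variable {X : Scheme.{u}}

theorem pow_smul_stalk {M : X.Modules} {ξ : X}
    (h : Module.length (X.presheaf.stalk ξ) (M.presheaf.stalk ξ) ≠ ⊤) {r : X.presheaf.stalk ξ}
    (hr : r ∈ maximalIdeal (X.presheaf.stalk ξ)) (v : M.presheaf.stalk ξ) :
    r ^ (Module.length (X.presheaf.stalk ξ) (M.presheaf.stalk ξ)).toNat • v = 0 := by
  have hl := (ENat.natCast_toNat h).symm
  obtain ⟨e, he⟩ := exists_flag hl
  exact pow_smul_eq_zero (R := X.presheaf.stalk ξ) hl he (Ideal.mem_comap.2 (by simpa using hr)) v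

variable (M : X.Modules) (W : ∀ ξ : X, Submodule (X.presheaf.stalk ξ) (M.presheaf.stalk ξ))

/-- Sections whose germs satisfy the conditions. -/
noncomputable def stalkSub : QCoh.SubMod M where
  mem U :=
    { carrier := {s | ∀ ξ, ∀ h : ξ ∈ U, M.presheaf.germ U ξ h s ∈ W ξ}
      add_mem' := fun {a b} ha hb ξ h => by rw [map_add]; exact add_mem (ha ξ h) (hb ξ h)
      zero_mem' := fun ξ h => by rw [map_zero]; exact zero_mem _
      smul_mem' := fun r a ha ξ h => by rw [QCoh.germ_smul']; exact Submodule.smul_mem _ _ (ha ξ h) }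
  map_mem {U V} i {s} hs := fun ξ h => by
    rw [TopCat.Presheaf.germ_res_apply (F := M.presheaf) (homOfLE i) ξ h s]
    exact hs ξ (i h)
  of_locally U s hs := fun ξ h => by
    obtain ⟨V, i, hξV, hm⟩ := hs ξ h
    have := hm ξ hξV
    rwa [TopCat.Presheaf.germ_res_apply (F := M.presheaf) (homOfLE i) ξ hξV s] at this

/-- The conditions are locally finite and at points of finite length. -/
structure Nice : Prop where
  finLen : ∀ ξ, W ξ ≠ ⊤ → Module.length (X.presheaf.stalk ξ) (M.presheaf.stalk ξ) ≠ ⊤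
  locFin : ∀ x : X, ∃ V : Set X, IsOpen V ∧ x ∈ V ∧ {ξ | ξ ∈ V ∧ W ξ ≠ ⊤}.Finite

variable {M W}

theorem Nice.finite (hW : Nice M W) {U : X.Opens} (hU : IsAffineOpen U) : {ξ | ξ ∈ U ∧ W ξ ≠ ⊤}.Finite := by
  choose V hVo hxV hVf using hW.locFin
  obtain ⟨t, ht⟩ := hU.isCompact.elim_finite_subcover V hVo fun x _ => Set.mem_iUnion.2 ⟨x, hxV x⟩
  refine (t.finite_toSet.biUnion fun x _ => hVf x).subset ?_
  rintro ξ ⟨hξU, hne⟩
  obtain ⟨x, hx, hξV⟩ := Set.mem_iUnion₂.1 (ht hξU)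
  exact Set.mem_biUnion hx ⟨hξV, hne⟩

theorem Nice.exists_bound (hW : Nice M W) {U : X.Opens} (hU : IsAffineOpen U) :
    ∃ N : ℕ, ∀ ξ ∈ U, W ξ ≠ ⊤ → ∀ r ∈ maximalIdeal (X.presheaf.stalk ξ),
      ∀ v : M.presheaf.stalk ξ, r ^ N • v = 0 := by
  classical
  refine ⟨(hW.finite hU).toFinset.sup fun ξ =>
    (Module.length (X.presheaf.stalk ξ) (M.presheaf.stalk ξ)).toNat, fun ξ hξ hne r hr v => ?_⟩
  obtain ⟨c, hc⟩ := Nat.exists_eq_add_of_le (Finset.le_sup
    (f := fun ξ => (Module.length (X.presheaf.stalk ξ) (M.presheaf.stalk ξ)).toNat)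
    ((hW.finite hU).mem_toFinset.2 ⟨hξ, hne⟩))
  rw [hc, pow_add, mul_smul]
  exact pow_smul_stalk (hW.finLen ξ hne) hr _

theorem isQCoh_stalkSub (hM : Coh.IsQCoh M) (hW : Nice M W) : Coh.IsQCoh (stalkSub M W).toModules := by
  refine QCoh.isQCoh_of_sections (fun U hU f s => ?_) (fun U hU f t ht => ?_)
  · obtain ⟨n, t, ht⟩ := QCoh.exists_pow_smul_eq_map hM hU f ((stalkSub M W).ι.app _ s)
    obtain ⟨N, hN⟩ := hW.exists_bound hU
    have hmem : f ^ N • t ∈ (stalkSub M W).mem U := fun ξ hξ => by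
      by_cases hWξ : W ξ = ⊤
      · rw [hWξ]; trivial
      rw [QCoh.germ_smul', map_pow]
      by_cases hξf : ξ ∈ X.basicOpen f
      · refine Submodule.smul_mem _ _ ?_
        rw [← TopCat.Presheaf.germ_res_apply (F := M.presheaf) (homOfLE (X.basicOpen_le f)) ξ hξf t, ht,
          QCoh.germ_smul']
        exact Submodule.smul_mem _ _ ((stalkSub M W).ι_app_mem _ s ξ hξf)
      · rw [hN ξ hξ hWξ _ ((QCoh.notMem_basicOpen_iff f ξ hξ).1 hξf)]
        exact zero_mem _
    obtain ⟨t', ht'⟩ := (stalkSub M W).exists_app_eq hmem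
    refine ⟨N + n, t', (stalkSub M W).ι_app_injective _ ?_⟩
    rw [QCoh.map_app_comm, ht', QCoh.map_smul', ht, Scheme.Modules.Hom.app_smul, ← mul_smul, ← map_pow, ← map_pow,
      ← map_mul, ← pow_add]
  · obtain ⟨n, hn⟩ := QCoh.exists_pow_smul_eq_zero hM hU f
      ((stalkSub M W).ι.app U t) (by rw [← QCoh.map_app_comm, ht, map_zero])
    refine ⟨n, (stalkSub M W).ι_app_injective _ ?_⟩
    rw [Scheme.Modules.Hom.app_smul, hn, map_zero]

theorem isCoh_stalkSub [IsLocallyNoetherian X] (hM : Coh.IsCoh M) (hW : Nice M W) :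
    Coh.IsCoh (stalkSub M W).toModules :=
  QCoh.isCoh_of_mono (stalkSub M W).ι hM (isQCoh_stalkSub hM.1 hW)

theorem stalkSub_cond {y : X} (t : (stalkSub M W).toModules.presheaf.stalk y) {ξ : X} (h : ξ ⤳ y) :
    spLin M h (CycLib.stalkLin (stalkSub M W).ι y t) ∈ W ξ := by
  obtain ⟨U, hy, s, rfl⟩ := (stalkSub M W).toModules.presheaf.exists_germ_eq t
  show M.presheaf.stalkSpecializes h (CycLib.stalkAdd _ y _) ∈ W ξ
  rw [CycLib.stalkAdd_germ, TopCat.Presheaf.germ_stalkSpecializes_apply]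
  exact (stalkSub M W).ι_app_mem U s ξ (h.mem_open U.isOpen hy)

/-- The stalks of the submodule. -/
theorem exists_stalkSub_eq (hM : Coh.IsQCoh M) (hW : Nice M W) {y : X} (m : M.presheaf.stalk y)
    (hm : ∀ (ξ : X) (h : ξ ⤳ y), spLin M h m ∈ W ξ) :
    ∃ t, CycLib.stalkLin (stalkSub M W).ι y t = m := by
  classical
  obtain ⟨U, hU, hy, n, rfl⟩ := CycLib.exists_germ_affine M m
  obtain ⟨N, hN⟩ := hW.exists_bound hU
  have hsep : ∀ ξ : X, ξ ∈ U → ¬ ξ ⤳ y → ∃ f : Γ(X, U), y ∈ X.basicOpen f ∧ ξ ∉ X.basicOpen f := by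
    intro ξ hξ hn
    obtain ⟨V, hVo, hyV, hξV⟩ := not_specializes_iff_exists_open.1 hn
    obtain ⟨f, hf, hyf⟩ := hU.exists_basicOpen_le (V := (⟨V, hVo⟩ : X.Opens)) ⟨y, hyV⟩ hy
    exact ⟨f, hyf, fun h => hξV (hf h)⟩
  choose f hfy hfξ using hsep
  let S := (hW.finite hU).toFinset
  let g : X → Γ(X, U) := fun ξ => if h : ξ ∈ U ∧ ¬ ξ ⤳ y then f ξ h.1 h.2 ^ N else 1
  let a := ∏ ξ ∈ S, g ξ
  have hu : IsUnit (X.presheaf.germ U y hy a) := by
    rw [map_prod]
    refine Finset.prod_induction _ IsUnit (fun _ _ => IsUnit.mul) isUnit_one fun ξ _ => ?_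
    simp only [g]
    split_ifs with h
    · rw [map_pow]
      exact ((X.mem_basicOpen _ y hy).1 (hfy ξ h.1 h.2)).pow N
    · rw [map_one]; exact isUnit_one
  have hmem : a • n ∈ (stalkSub M W).mem U := fun ξ hξ => by
    by_cases hWξ : W ξ = ⊤
    · rw [hWξ]; trivial
    rw [QCoh.germ_smul']
    by_cases hξy : ξ ⤳ y
    · refine Submodule.smul_mem _ _ ?_
      have := hm ξ hξy
      rwa [show spLin M hξy (M.presheaf.germ U y hy n) = M.presheaf.germ U ξ hξ n from
        TopCat.Presheaf.germ_stalkSpecializes_apply M.presheaf hy hξy n] at this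
    · have hS : ξ ∈ S := (hW.finite hU).mem_toFinset.2 ⟨hξ, hWξ⟩
      rw [show a = (∏ η ∈ S.erase ξ, g η) * g ξ from (Finset.prod_erase_mul _ _ hS).symm, map_mul, mul_smul,
        show g ξ = f ξ hξ hξy ^ N from dif_pos ⟨hξ, hξy⟩, map_pow,
        hN ξ hξ hWξ _ ((QCoh.notMem_basicOpen_iff _ ξ hξ).1 (hfξ ξ hξ hξy)), smul_zero]
      exact zero_mem _
  obtain ⟨t, ht⟩ := (stalkSub M W).exists_app_eq hmem
  obtain ⟨c, hc⟩ := hu.exists_left_inv
  refine ⟨c • (stalkSub M W).toModules.presheaf.germ U y hy t, ?_⟩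
  rw [map_smul, show CycLib.stalkLin (stalkSub M W).ι y ((stalkSub M W).toModules.presheaf.germ U y hy t) = _ from
    CycLib.stalkAdd_germ _ y hy t, ht, QCoh.germ_smul', ← mul_smul, hc, one_smul]

theorem stalkSub_ι_injective (hM : Coh.IsQCoh M) (hW : Nice M W) (y : X) :
    Function.Injective (CycLib.stalkLin (stalkSub M W).ι y) := by
  refine (injective_iff_map_eq_zero _).2 fun t ht => ?_
  obtain ⟨U, hU, hy, n, rfl⟩ := CycLib.exists_germ_affine (stalkSub M W).toModules t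
  obtain ⟨a, ha, h0⟩ := (QCoh.germ_eq_zero_iff hM hU hy _).1 ((CycLib.stalkAdd_germ _ y hy n).symm.trans ht)
  exact (QCoh.germ_eq_zero_iff (isQCoh_stalkSub hM hW) hU hy _).2
    ⟨a, ha, (stalkSub M W).ι_app_injective U (((Scheme.Modules.Hom.app_smul _ a n).trans h0).trans (map_zero _).symm)⟩

end Groth.Agent.Symb83
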