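import Groth.Agent.Symb83.PrinSum
import Groth.Agent.H23.RatSecTensor
import Groth.Agent.Lib.InvEnd
import Groth.Agent.KZ.CycleTensor
import Groth.Agent.KFlatLib.Scheme.PullTensorCx
import Groth.Agent.Dev83.Gr

/-! Twisting by an invertible module, on stalks and classes. -/

set_option autoImplicit false
set_option linter.style.haveILetI false
set_option linter.unusedSectionVars false
set_option linter.unusedVariables false
set_option backward.isDefEq.respectTransparency false
set_option backward.isDefEq.respectTransparency.types false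

universe u

open CategoryTheory CategoryTheory.Limits AlgebraicGeometry TopologicalSpace Opposite MonoidalCategory
open scoped TensorProduct

namespace Groth.Agent.Symb83

open Groth.Agent H23.RatSec H23.RatSecTensor

variable {X : Scheme.{u}} (L : X.Modules)

/-- `- ⊗ L`. -/
noncomputable abbrev twist : X.Modules ⥤ X.Modules := DCoh.tensorBi.flip.obj L

variable {L}

/-- `m ↦ m ⊗ t`. -/
noncomputable def sig (F : X.Modules) {x : X} (t : L.presheaf.stalk x) :
    F.presheaf.stalk x →ₗ[X.presheaf.stalk x] ((twist L).obj F).presheaf.stalk x where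
  toFun m := tm x m t
  map_add' m m' := by
    refine Eq.trans (congrArg (KFlatLib.stalkTensorIso x F L).hom ?_)
      ((KFlatLib.stalkTensorIso x F L).hom.hom.map_add _ _)
    exact TensorProduct.add_tmul (m : ((DerSch.stalkFunctor X x).obj F : Type u)) m'
      (t : ((DerSch.stalkFunctor X x).obj L : Type u))
  map_smul' r m := by
    have := tm_smul_smul (L := F) (N := L) x r 1 m t
    rwa [one_smul, mul_one] at this

theorem sig_smul_right (F : X.Modules) {x : X} (t : L.presheaf.stalk x) (r : X.presheaf.stalk x)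
    (m : F.presheaf.stalk x) : sig F (r • t) m = r • sig F t m := by
  have := tm_smul_smul (L := F) (N := L) x 1 r m t
  rwa [one_smul, one_mul] at this

theorem sig_bijective (F : X.Modules) {x : X} {t : L.presheaf.stalk x} (ht : IsGen t) :
    Function.Bijective (sig F t) := by
  let R := X.presheaf.stalk x
  let MF : ModuleCat R := (DerSch.stalkFunctor X x).obj F
  let ML : ModuleCat R := (DerSch.stalkFunctor X x).obj L
  let eL : R ≃ₗ[R] ML := LinearEquiv.ofBijective (LinearMap.toSpanSingleton R ML t)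
    ⟨(injective_iff_map_eq_zero _).2 fun r hr => ht.2 r hr,
      fun m => Submodule.mem_span_singleton.1 (ht.1.ge (Submodule.mem_top : m ∈ ⊤))⟩
  let i := (KFlatLib.stalkTensorIso x F L).toLinearEquiv
  let e : MF ≃ₗ[R] MF ⊗[R] ML :=
    (TensorProduct.rid R MF).symm.trans (TensorProduct.congr (LinearEquiv.refl R MF) eL)
  have key : ∀ m : MF, sig F t m = i (e m) := fun m => congrArg i (by simp [e, eL]; rfl)
  refine ⟨fun a b h => ?_, fun w => ⟨e.symm (i.symm w), ?_⟩⟩
  · rw [key a, key b] at h
    exact e.injective (i.injective h)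
  · rw [key, e.apply_symm_apply]
    exact i.apply_symm_apply w

theorem sig_spLin (F : X.Modules) {ξ x : X} (h : ξ ⤳ x) (t : L.presheaf.stalk x) (m : F.presheaf.stalk x) :
    spLin _ h (sig F t m) = sig F (L.presheaf.stalkSpecializes h t) (spLin F h m) :=
  (tm_stalkSpecializes (L := F) (N := L) h m t).symm

theorem sig_natural {F G : X.Modules} (φ : F ⟶ G) {x : X} (t : L.presheaf.stalk x) (m : F.presheaf.stalk x) :
    CycLib.stalkLin ((twist L).map φ) x (sig F t m) = sig G t (CycLib.stalkLin φ x m) := by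
  obtain ⟨W, hW, s, s', rfl, rfl⟩ := KFlatLib.exists_germP_pair (P := DCoh.toP.obj F) (Q := DCoh.toP.obj L) m t
  change CycLib.stalkAdd _ x (tm x (F.presheaf.germ W x hW s) (L.presheaf.germ W x hW s')) =
    tm x (CycLib.stalkAdd φ x (F.presheaf.germ W x hW s)) (L.presheaf.germ W x hW s')
  refine ((congrArg (CycLib.stalkAdd ((twist L).map φ) x) (tm_germ (L := F) (N := L) x W hW s s')).trans
    ((CycLib.stalkAdd_germ ((twist L).map φ) x hW (KFlatLib.tmSh F L s s')).trans
      (congrArg (((twist L).obj G).presheaf.germ W x hW) (KFlatLib.tmSh_naturality_left φ L s s')))).trans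
    (((congrArg (fun v => tm x v (L.presheaf.germ W x hW s')) (CycLib.stalkAdd_germ φ x hW s)).trans
      (tm_germ (L := G) (N := L) x W hW _ s')).symm)

variable (hL : PicF.IsInvertible L)
include hL

theorem isCoh_twist {F : X.Modules} (hF : Coh.IsCoh F) : Coh.IsCoh ((twist L).obj F) := by
  have hE' := KZ.CycleClass.isFinLocFree_of_rank (InvEnd.isFinLocFreeOfRank_one hL)
  have hqE := QCoh.isQCoh_of_isFinLocFree hE'
  show Coh.IsCoh (CohB1.tensorMod F L)
  refine QCoh.isCoh_iff.2 ⟨KFlatLib.isQCoh_tensor hF.1 hqE, fun U => ?_⟩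
  haveI := QCoh.finite_sections hF U.2
  haveI := QCoh.finite_sections (M := L) ⟨hqE, QCoh.isFT_of_isFP (QCoh.isFP_of_isFinLocFree hE')⟩ U.2
  exact Module.Finite.of_surjective (QCoh.tmLin F L U.1) (QCoh.bijective_tmLin hF.1 hqE U.2).2

theorem twist_bijective {F : X.Modules} (x : X) :
    ∃ t : L.presheaf.stalk x, IsGen t ∧ Function.Bijective (sig F t) ∧
      ∀ (ξ : X) (h : ξ ⤳ x), IsGen (L.presheaf.stalkSpecializes h t) := by
  obtain ⟨t, ht, ht'⟩ := exists_gen hL x
  exact ⟨t, ht, sig_bijective F ht, ht'⟩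

theorem length_twist (F : X.Modules) (x : X) :
    Module.length (X.presheaf.stalk x) (((twist L).obj F).presheaf.stalk x) =
      Module.length (X.presheaf.stalk x) (F.presheaf.stalk x) := by
  obtain ⟨t, -, hb, -⟩ := twist_bijective hL (F := F) x
  exact (LinearEquiv.ofBijective (sig F t) hb).length_eq.symm

theorem sheafFun_twist (δ : X → ℤ) (a : ℤ) (F : X.Modules) :
    Cyc.sheafFun δ a ((twist L).obj F) = Cyc.sheafFun δ a F := funext fun x => by
  simp only [Cyc.sheafFun, length_twist hL F x]

theorem nontrivial_twist {F : X.Modules} {x : X} (h : Nontrivial (((twist L).obj F).presheaf.stalk x)) :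
    Nontrivial (F.presheaf.stalk x) := by
  by_contra hn
  haveI := not_nontrivial_iff_subsingleton.1 hn
  have h0 := length_twist hL F x
  rw [Module.length_eq_zero_iff.2 (inferInstance : Subsingleton (F.presheaf.stalk x)),
    Module.length_eq_zero_iff] at h0
  exact not_subsingleton_iff_nontrivial.2 h h0

theorem cohLe_twist {δ : X → ℤ} {a : ℤ} {F : X.Modules} (hF : Cyc.CohLe δ a F) :
    Cyc.CohLe δ a ((twist L).obj F) :=
  ⟨isCoh_twist hL hF.1, fun x hx => hF.2 x (nontrivial_twist hL hx)⟩

theorem twist_exact {A B C : X.Modules} (f : A ⟶ B) (g : B ⟶ C) (x : X)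
    (hi : Function.Injective (CycLib.stalkLin f x))
    (he : Function.Exact (CycLib.stalkLin f x) (CycLib.stalkLin g x))
    (hs : Function.Surjective (CycLib.stalkLin g x)) :
    Function.Injective (CycLib.stalkLin ((twist L).map f) x) ∧
      Function.Exact (CycLib.stalkLin ((twist L).map f) x) (CycLib.stalkLin ((twist L).map g) x) ∧
      Function.Surjective (CycLib.stalkLin ((twist L).map g) x) := by
  obtain ⟨t, ht, -⟩ := exists_gen hL x
  have bA := sig_bijective (L := L) A ht
  have bB := sig_bijective (L := L) B ht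
  have bC := sig_bijective (L := L) C ht
  refine ⟨fun a c h => ?_, fun m => ⟨fun hm => ?_, ?_⟩, fun c => ?_⟩
  · obtain ⟨a, rfl⟩ := bA.2 a
    obtain ⟨c, rfl⟩ := bA.2 c
    rw [sig_natural, sig_natural] at h
    obtain rfl := hi (bB.1 h)
    rfl
  · obtain ⟨m, rfl⟩ := bB.2 m
    rw [sig_natural] at hm
    obtain ⟨a, ha⟩ := (he m).1 (bC.1 (hm.trans (map_zero (sig C t)).symm))
    exact ⟨sig A t a, by rw [sig_natural, ha]⟩
  · rintro ⟨a, rfl⟩
    obtain ⟨a, rfl⟩ := bA.2 a
    rw [sig_natural, sig_natural, (he _).2 ⟨a, rfl⟩, map_zero]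
  · obtain ⟨c, rfl⟩ := bC.2 c
    obtain ⟨m, rfl⟩ := hs c
    exact ⟨sig B t m, sig_natural g t m⟩

theorem twist_shortExact [IsLocallyNoetherian X] {S : ShortComplex X.Modules} (hS : S.ShortExact)
    (h₁ : Coh.IsCoh S.X₁) (h₂ : Coh.IsCoh S.X₂) (h₃ : Coh.IsCoh S.X₃) :
    (ShortComplex.mk ((twist L).map S.f) ((twist L).map S.g)
      (by rw [← Functor.map_comp, S.zero, Functor.map_zero])).ShortExact := by
  refine Dev83.shortExact_of_stalks _ (isCoh_twist hL h₁).1 (isCoh_twist hL h₂).1 fun x => ?_
  obtain ⟨hi, he, hs⟩ := CycLib.stalk_shortExact hS h₁.1 h₂.1 h₃.1 x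
  exact twist_exact hL S.f S.g x hi he hs

end Groth.Agent.Symb83
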