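import Groth.Agent.Symb83.Twist

/-! The divisor of a rational section as a difference of cycles of cokernels. -/

set_option autoImplicit false
set_option linter.style.haveILetI false
set_option linter.unusedSectionVars false
set_option linter.unusedVariables false
set_option backward.isDefEq.respectTransparency false
set_option backward.isDefEq.respectTransparency.types false

universe u

open CategoryTheory CategoryTheory.Limits AlgebraicGeometry TopologicalSpace

namespace Groth.Agent.Symb83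

open IntThLib IsLocalRing Groth.Agent H23.RatSec

variable {X : Scheme.{u}}

/-- A pair of modules, as a family. -/
noncomputable abbrev pairFam (A B : X.Modules) : ULift.{u} Bool → X.Modules := fun b => bif b.down then B else A

theorem locFinSupp_pairFam (A B : X.Modules) : LocFinSupp (pairFam A B) :=
  fun _ => ⟨Set.univ, isOpen_univ, trivial, Set.toFinite _⟩

variable [IsLocallyNoetherian X] {δ : X → ℤ} {k : ℤ} (hd : Cyc.IsDimFun X δ)
include hd

/-- The module of a graph at one point. -/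
theorem exists_graph' {ξ : X} (hξ : δ ξ = k + 1) {A B : X.Modules} (hA : Cyc.CohLe δ (k + 1) A)
    (hB : Cyc.CohLe δ (k + 1) B) (sA : ∀ y, Nontrivial (A.presheaf.stalk y) → ξ ⤳ y)
    (sB : ∀ y, Nontrivial (B.presheaf.stalk y) → ξ ⤳ y)
    (iA : ∀ (y : X) (h : ξ ⤳ y), Function.Injective (spLin A h))
    (iB : ∀ (y : X) (h : ξ ⤳ y), Function.Injective (spLin B h))
    (τ : A.presheaf.stalk ξ ≃ₗ[X.presheaf.stalk ξ] B.presheaf.stalk ξ) :
    ∃ (N : X.Modules) (φ : N ⟶ A) (φ' : N ⟶ B), Cyc.CohLe δ (k + 1) N ∧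
      (∀ y, Nontrivial (N.presheaf.stalk y) → ξ ⤳ y) ∧
      (∀ y, Function.Injective (CycLib.stalkLin φ y) ∧ Function.Injective (CycLib.stalkLin φ' y)) ∧
      ∀ (y : X) (h : ξ ⤳ y) (u : A.presheaf.stalk y) (v : B.presheaf.stalk y),
        (spLin B h v = τ (spLin A h u)) ↔ ∃ t, CycLib.stalkLin φ y t = u ∧ CycLib.stalkLin φ' y t = v := by
  classical
  have hFc : ∀ b, Cyc.CohLe δ (k + 1) (pairFam A B b) := by rintro ⟨_ | _⟩ <;> assumption
  have hF : ∀ b, Coh.IsQCoh (pairFam A B b) := fun b => (hFc b).1.1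
  have hl := locFinSupp_pairFam A B
  have hS : Cyc.CohLe δ (k + 1) (∐ pairFam A B) := cohLe_sigma hFc hl
  let p : (∐ pairFam A B) ⟶ A := sigmaProj (pairFam A B) ⟨false⟩
  let p' : (∐ pairFam A B) ⟶ B := sigmaProj (pairFam A B) ⟨true⟩
  let L₀ : Submodule (X.presheaf.stalk ξ) ((∐ pairFam A B).presheaf.stalk ξ) :=
    LinearMap.ker (CycLib.stalkLin p' ξ - τ.toLinearMap ∘ₗ CycLib.stalkLin p ξ)
  let W : ∀ y, Submodule (X.presheaf.stalk y) ((∐ pairFam A B).presheaf.stalk y) :=
    Function.update (fun _ => ⊤) ξ L₀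
  have hW : ∀ y, W y ≠ ⊤ → y = ξ := fun y h => by
    by_contra hne
    exact h (Function.update_of_ne hne _ _)
  have hWξ : W ξ = L₀ := Function.update_self _ _ _
  have hmem : ∀ w, w ∈ W ξ ↔ CycLib.stalkLin p' ξ w = τ (CycLib.stalkLin p ξ w) := fun w => by
    rw [hWξ, LinearMap.mem_ker, LinearMap.sub_apply, sub_eq_zero]
    rfl
  have hnice : Nice (∐ pairFam A B) W := nice_of_subset hd hS fun y h => by rw [hW y h]; exact hξ
  let φ := (stalkSub _ W).ι ≫ p
  let φ' := (stalkSub _ W).ι ≫ p'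
  have hrel : ∀ (y : X) (h : ξ ⤳ y) (t : (stalkSub _ W).toModules.presheaf.stalk y),
      spLin B h (CycLib.stalkLin φ' y t) = τ (spLin A h (CycLib.stalkLin φ y t)) := fun y h t => by
    have hm := (hmem _).1 (stalkSub_cond t h)
    rw [← spLin_natural, ← spLin_natural] at hm
    rw [stalkLin_comp, stalkLin_comp]
    exact hm
  have hzero : ∀ (y : X) (t : (stalkSub _ W).toModules.presheaf.stalk y),
      CycLib.stalkLin φ y t = 0 → CycLib.stalkLin φ' y t = 0 → t = 0 := fun y t h0 h1 => by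
    refine stalkSub_ι_injective hS.1.1 hnice y ?_
    rw [map_zero]
    refine stalk_ext hF hl y ?_
    rintro ⟨_ | _⟩
    · rw [map_zero]; exact (stalkLin_comp _ _ y t).symm.trans h0
    · rw [map_zero]; exact (stalkLin_comp _ _ y t).symm.trans h1
  have nA : ∀ y, ¬ ξ ⤳ y → Subsingleton (A.presheaf.stalk y) := fun y hy =>
    not_nontrivial_iff_subsingleton.1 fun hn => hy (sA y hn)
  have nB : ∀ y, ¬ ξ ⤳ y → Subsingleton (B.presheaf.stalk y) := fun y hy =>
    not_nontrivial_iff_subsingleton.1 fun hn => hy (sB y hn)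
  refine ⟨(stalkSub _ W).toModules, φ, φ',
    cohLe_of_mono (stalkSub _ W).ι hS (isQCoh_stalkSub hS.1.1 hnice), fun y hy => ?_, fun y => ?_,
    fun y h u v => ⟨fun huv => ?_, fun ⟨t, hu, hv⟩ => hu ▸ hv ▸ hrel y h t⟩⟩
  · haveI := (stalkSub_ι_injective hS.1.1 hnice y).nontrivial
    obtain ⟨⟨_ | _⟩, hi⟩ := support_sigma hF hl (x := y) this
    exacts [sA y hi, sB y hi]
  · refine ⟨(injective_iff_map_eq_zero _).2 fun t ht => hzero y t ht ?_,
      (injective_iff_map_eq_zero _).2 fun t ht => hzero y t ?_ ht⟩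
    · by_cases h : ξ ⤳ y
      · refine iB y h ?_
        rw [hrel y h t, ht, map_zero, map_zero, map_zero]
      · haveI := nB y h; exact Subsingleton.elim _ _
    · by_cases h : ξ ⤳ y
      · refine iA y h (τ.injective ?_)
        rw [← hrel y h t, ht, map_zero, map_zero, map_zero]
      · haveI := nA y h; exact Subsingleton.elim _ _
  · obtain ⟨w, hw⟩ := exists_stalk_elem hF hl y fun i =>
      match i with | ⟨true⟩ => v | ⟨false⟩ => u
    obtain ⟨t, ht⟩ := exists_stalkSub_eq hS.1.1 hnice w fun η hη => by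
      by_cases hne : W η = ⊤
      · rw [hne]; trivial
      obtain rfl := hW η hne
      rw [hmem, ← spLin_natural, ← spLin_natural, show CycLib.stalkLin p' y w = v from hw ⟨true⟩,
        show CycLib.stalkLin p y w = u from hw ⟨false⟩]
      exact huv
    exact ⟨t, by rw [stalkLin_comp, ht]; exact hw ⟨false⟩, by rw [stalkLin_comp, ht]; exact hw ⟨true⟩⟩

variable {L : X.Modules} (hL : PicF.IsInvertible L)
include hL

omit hd in
theorem spLin_twist_injective {F : X.Modules} {ξ y : X} (h : ξ ⤳ y) (hF : Function.Injective (spLin F h)) :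
    Function.Injective (spLin ((twist L).obj F) h) := fun a b hab => by
  obtain ⟨t, ht, ht'⟩ := exists_gen hL y
  obtain ⟨a, rfl⟩ := (sig_bijective F ht).2 a
  obtain ⟨b, rfl⟩ := (sig_bijective F ht).2 b
  rw [sig_spLin, sig_spLin] at hab
  obtain rfl := hF ((sig_bijective F (ht' ξ h)).1 hab)
  rfl

/-- The modules of the divisor of a rational section. -/
theorem exists_secDivisor {ξ : X} (hξ : δ ξ = k + 1) {s : Cyc.secFibre L ξ} (hs : s ≠ 0) :
    ∃ (N : X.Modules) (φ : N ⟶ Cyc.closureStructureSheaf ξ)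
      (φ' : N ⟶ (twist L).obj (Cyc.closureStructureSheaf ξ)),
      Cyc.CohLe δ (k + 1) N ∧ (∀ y, Nontrivial (N.presheaf.stalk y) → ξ ⤳ y) ∧
      (∀ y, Function.Injective (CycLib.stalkLin φ y) ∧ Function.Injective (CycLib.stalkLin φ' y)) ∧
      Cyc.CohLe δ k (cokernel φ) ∧ Cyc.CohLe δ k (cokernel φ') ∧
      ∀ x, δ x = k → ∃ p p' : ℕ,
        Module.length (X.presheaf.stalk x) ((cokernel φ).presheaf.stalk x) = p ∧
        Module.length (X.presheaf.stalk x) ((cokernel φ').presheaf.stalk x) = p' ∧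
        (p' : ℤ) - p = Cyc.secDivFun δ L ξ s x := by
  obtain ⟨g₀, hg₀, -⟩ := exists_gen hL ξ
  obtain ⟨φ₀, hφ₀⟩ := exists_coord hg₀ s
  have hφu : IsUnit φ₀ := by
    by_contra hn
    refine (residue_ne_zero (L := L) hg₀ (φ := φ₀)).2 (hφ₀ ▸ hs) ?_
    exact (IsLocalRing.residue_eq_zero_iff φ₀).2 ((mem_maximalIdeal φ₀).2 hn)
  set g := φ₀ • g₀ with hgdef
  have hg : IsGen g := hg₀.smul_unit hφu
  have hsg : s = cls L ξ g := hφ₀.trans (cls_smul φ₀ g₀).symm
  let O := Cyc.closureStructureSheaf ξ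
  have hO : Cyc.CohLe δ (k + 1) O := cohLe_closureSheaf hd hξ.le
  have hB : Cyc.CohLe δ (k + 1) ((twist L).obj O) := cohLe_twist hL hO
  have iO : ∀ (y : X) (h : ξ ⤳ y), Function.Injective (spLin O h) := fun y h a b hab =>
    sub_eq_zero.1 (closureSheaf_inj h (by rw [map_sub, hab, sub_self]))
  let τ := LinearEquiv.ofBijective (sig O g) (sig_bijective O hg)
  obtain ⟨N, φ, φ', hN, hNs, hinj, hiff⟩ := exists_graph' hd hξ hO hB (fun y => support_closureSheaf)
    (fun y hy => support_closureSheaf (nontrivial_twist hL hy)) iO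
    (fun y h => spLin_twist_injective hL h (iO y h)) τ
  haveI := mono_of_stalk_injective φ fun y => (hinj y).1
  haveI := mono_of_stalk_injective φ' fun y => (hinj y).2
  have hsurj : Function.Surjective (CycLib.stalkLin φ ξ) ∧ Function.Surjective (CycLib.stalkLin φ' ξ) := by
    refine ⟨fun u => ?_, fun v => ?_⟩
    · obtain ⟨t, ht, -⟩ := (hiff ξ (specializes_refl ξ) u (τ u)).1 (by rw [spLin_refl', spLin_refl'])
      exact ⟨t, ht⟩
    · obtain ⟨t, -, ht⟩ := (hiff ξ (specializes_refl ξ) (τ.symm v) v).1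
        (by rw [spLin_refl', spLin_refl', τ.apply_symm_apply])
      exact ⟨t, ht⟩
  have hsub : ∀ (T : X.Modules) (ψ : N ⟶ T) [Mono ψ] (hT : Cyc.CohLe δ (k + 1) T)
      (sT : ∀ y, Nontrivial (T.presheaf.stalk y) → ξ ⤳ y) (y : X),
      (Function.Surjective (CycLib.stalkLin ψ y) ∨ ¬ ξ ⤳ y) → Subsingleton ((cokernel ψ).presheaf.stalk y) := by
    intro T ψ _ hT sT y h
    rw [← Module.length_eq_zero_iff (R := X.presheaf.stalk y), length_stalk_cokernel ψ hN.1.1 hT.1.1,
      Module.length_eq_zero_iff, Submodule.Quotient.subsingleton_iff, LinearMap.range_eq_top]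
    rcases h with h | h
    · exact h
    · haveI : Subsingleton (T.presheaf.stalk y) := not_nontrivial_iff_subsingleton.1 fun hn => h (sT y hn)
      exact fun v => ⟨0, Subsingleton.elim _ _⟩
  have hle : ∀ (T : X.Modules) (ψ : N ⟶ T) [Mono ψ] (hT : Cyc.CohLe δ (k + 1) T)
      (sT : ∀ y, Nontrivial (T.presheaf.stalk y) → ξ ⤳ y), Function.Surjective (CycLib.stalkLin ψ ξ) →
      Cyc.CohLe δ k (cokernel ψ) := by
    intro T ψ _ hT sT hψ
    refine ⟨(cohLe_cokernel ψ hN.1.1 hT).1, fun y hy => ?_⟩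
    by_cases h : ξ ⤳ y
    · have hne : ξ ≠ y := fun e => by
        subst e
        exact not_subsingleton_iff_nontrivial.2 hy (hsub T ψ hT sT ξ (Or.inl hψ))
      have := CycLib.delta_lt hd h hne
      omega
    · exact absurd (hsub T ψ hT sT y (Or.inr h)) (not_subsingleton_iff_nontrivial.2 hy)
  have sO : ∀ y, Nontrivial (O.presheaf.stalk y) → ξ ⤳ y := fun y => support_closureSheaf
  have sB : ∀ y, Nontrivial (((twist L).obj O).presheaf.stalk y) → ξ ⤳ y := fun y hy => sO y (nontrivial_twist hL hy)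
  refine ⟨N, φ, φ', hN, hNs, hinj, hle O φ hO sO hsurj.1, hle _ φ' hB sB hsurj.2, fun x hx => ?_⟩
  by_cases h : ξ ⤳ x
  · have hx' : δ x + 1 = δ ξ := by omega
    obtain ⟨t, ht, ht'⟩ := exists_gen hL x
    obtain ⟨c, hc⟩ := Submodule.mem_span_singleton.1 ((ht' ξ h).1.ge (Submodule.mem_top : g ∈ ⊤))
    have hsc : s = c • cls L ξ (L.presheaf.stalkSpecializes h t) := by rw [hsg, ← hc, cls_smul]
    have hrc : X.residue ξ c ≠ 0 := (residue_ne_zero (ht' ξ h)).2 (hsc ▸ hs)
    have hcu : IsUnit c := by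
      by_contra hn
      exact hrc ((IsLocalRing.residue_eq_zero_iff c).2 ((mem_maximalIdeal c).2 hn))
    let σ := LinearEquiv.ofBijective (sig O t) (sig_bijective O ht)
    have key : ∀ u v : O.presheaf.stalk x,
        (∃ r, CycLib.stalkLin φ x r = u ∧ CycLib.stalkLin φ' x r = σ v) ↔ spLin O h v = c • spLin O h u := by
      intro u v
      rw [← hiff x h u (σ v)]
      show spLin _ h (sig O t v) = sig O g (spLin O h u) ↔ _
      rw [sig_spLin, ← hc, sig_smul_right, ← map_smul]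
      exact (sig_bijective O (ht' ξ h)).1.eq_iff
    obtain ⟨p, p', h1, h2, h3⟩ := length_graph hd h hx' hcu (LinearMap.range (CycLib.stalkLin φ x))
      ((LinearMap.range (CycLib.stalkLin φ' x)).comap σ.toLinearMap)
      (fun u => ⟨fun ⟨r, hr⟩ => ⟨σ.symm (CycLib.stalkLin φ' x r),
          (key u _).1 ⟨r, hr, (σ.apply_symm_apply _).symm⟩⟩,
        fun ⟨v, hv⟩ => ((key u v).2 hv).imp fun r hr => hr.1⟩)
      (fun v => ⟨fun ⟨r, hr⟩ => ⟨CycLib.stalkLin φ x r, (key _ v).1 ⟨r, rfl, hr⟩⟩,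
        fun ⟨u, hu⟩ => ((key u v).2 hu).imp fun r hr => hr.2⟩)
    refine ⟨p, p', (length_stalk_cokernel φ hN.1.1 hO.1.1 x).trans h1,
      (length_stalk_cokernel φ' hN.1.1 hB.1.1 x).trans ?_, ?_⟩
    · rw [← h2]
      exact (LinearEquiv.length_eq (Submodule.Quotient.equiv _ _ σ
        (Submodule.map_comap_eq_of_surjective σ.surjective _))).symm
    · rw [h3, secDivFun_eq hL hd h ht.1 hsc hrc, CycLib.divFun_eq δ _ h hx']
  · refine ⟨0, 0, ?_, ?_, ?_⟩
    · haveI := hsub O φ hO sO x (Or.inr h)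
      simp
    · haveI := hsub _ φ' hB sB x (Or.inr h)
      simp
    · rw [Cyc.secDivFun, dif_neg fun h' => h h'.1]
      simp

end Groth.Agent.Symb83
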